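import Cfsg.Agent.Helper82.ExcMain

/-!
# Brauer's theorem on the principal block for an abelian Sylow subgroup with Frobenius normalizer

(helper82)  The data of the exceptional characters (`excFinal_data`) and the final statement
(`excFinal`).
-/

set_option autoImplicit false
open Cfsg
open scoped ComplexConjugate

namespace Cfsg.Agent.Helper82

universe u

variable {G : Type u} [Group G] [Fintype G]

/-- The exceptional characters: the sign `δ`, the integers `d`, `a χ` and the map `ζ` from the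
nontrivial linear characters of `P` to the principal block. -/
theorem excFinal_data {p : ℕ} [Fact p.Prime] {M : Ideal Cfsg.AlgInt} (hM : Cfsg.IsPModular p M)
    (P : Sylow p G) (hab : IsMulCommutative P)
    (hfrob : ∀ y : G, y ∈ (P : Subgroup G) → y ≠ 1 → Subgroup.centralizer ({y} : Set G)
      ⊓ Subgroup.normalizer ((P : Subgroup G) : Set G)
        = Subgroup.centralizer ((P : Subgroup G) : Set G))
    (m : ℕ) (hm2 : m + 1 < Nat.card (P : Subgroup G))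
    (hCN : (Subgroup.centralizer ((P : Subgroup G) : Set G)).relIndex
      (Subgroup.normalizer ((P : Subgroup G) : Set G)) = m) :
    ∃ (T : Finset (Cfsg.IrrCharacter G)) (δ d : ℤ) (a : Cfsg.IrrCharacter G → ℤ)
      (ζ : ((P : Subgroup G) →* ℂˣ) → Cfsg.IrrCharacter G),
      (∀ χ, χ ∈ T ↔ χ ∈ Cfsg.principalBlock M G) ∧ (δ = 1 ∨ δ = -1) ∧
      (∀ ψ, ψ ≠ 1 → ζ ψ ∈ T) ∧
      (∀ ψ ψ', ψ ≠ 1 → ψ' ≠ 1 → (ζ ψ = ζ ψ' ↔ excRel (P : Subgroup G) ψ ψ')) ∧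
      (∀ ψ, ψ ≠ 1 → a (ζ ψ) = d) ∧
      (∀ χ ∈ T, ∀ y : (P : Subgroup G), y ≠ 1 → (χ : G → ℂ) (y : G)
        = (a χ : ℂ) + (δ : ℂ) * ∑ᶠ ψ ∈ {ψ : (P : Subgroup G) →* ℂˣ | ψ ≠ 1 ∧ ζ ψ = χ},
            ((ψ y : ℂˣ) : ℂ)) ∧
      ((d - δ) ^ 2 - d ^ 2 + ∑ χ ∈ T, a χ ^ 2 = (m : ℤ) + 1) ∧
      (∀ ψ, ψ ≠ 1 → ∀ g : G, ¬ p ∣ orderOf g →
        (δ : ℂ) * (ζ ψ : G → ℂ) g = ∑ χ ∈ T, (a χ : ℂ) * (χ : G → ℂ) g) ∧
      (∀ ψ ψ', ψ ≠ 1 → ψ' ≠ 1 → ∀ g : G, ¬ p ∣ orderOf g →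
        (ζ ψ : G → ℂ) g = (ζ ψ' : G → ℂ) g) ∧
      (∀ ψ, ψ ≠ 1 → ζ ψ ≠ Helper81.trivIrr G) ∧
      (∃ ψ0 ψ1 : (P : Subgroup G) →* ℂˣ, ψ0 ≠ 1 ∧ ψ1 ≠ 1 ∧ ζ ψ0 ≠ ζ ψ1) := by
  classical
  have hp : p.Prime := Fact.out
  have : Fintype (P : Subgroup G) := Fintype.ofFinite _
  have : Fintype (Subgroup.normalizer ((P : Subgroup G) : Set G)) := Fintype.ofFinite _
  have : Finite ((P : Subgroup G) →* ℂˣ) := Helper80.finite_hom
  have : Fintype ((P : Subgroup G) →* ℂˣ) := Fintype.ofFinite _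
  have : Fintype (Cfsg.IrrCharacter G) := Fintype.ofFinite _
  have hcommA : ∀ x y : (P : Subgroup G), x * y = y * x := fun x y => hab.is_comm.comm x y
  have hMp : M.IsPrime := Helper81.isPrime_of_isPModular hM
  obtain ⟨T, hT⟩ : ∃ T : Finset (Cfsg.IrrCharacter G),
      ∀ χ, χ ∈ T ↔ χ ∈ Cfsg.principalBlock M G :=
    ⟨Finset.univ.filter (fun χ => χ ∈ Cfsg.principalBlock M G), fun χ => by simp⟩
  have hex : ∀ (χ : Cfsg.IrrCharacter G) (ψ : (P : Subgroup G) →* ℂˣ), ∃ n : ℤ,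
      ∑ q : (P : Subgroup G), (χ : G → ℂ) (q : G) * conj ((ψ q : ℂˣ) : ℂ)
        = (Fintype.card (P : Subgroup G) : ℂ) * n := by
    intro χ ψ
    obtain ⟨n, hn⟩ := Helper81.exists_linMult χ (P : Subgroup G).subtype ψ
    refine ⟨(n : ℤ), ?_⟩
    rw [Int.cast_natCast, ← hn]
    rfl
  choose mult hmult using hex
  have g0 := excMain_g0 hM P hab hfrob T hT mult hmult m hCN
  have g2 := excMain_g2 hM P hab hfrob T hT mult hmult m hCN
  have g1 := excMain_g1 hM P hab hfrob T hT mult hmult m hCN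
  have g4 := excMain_g4 hM P hab hfrob T hT mult hmult m hCN
  have g5 := excMain_g5 hM P hab hfrob T hT mult hmult m hCN
  have hpreg := excMain_preg hM P T hT mult hmult
  obtain ⟨ψ0, ψ1, hψ0, hψ1, h01⟩ := excMain_exists_two P hab hfrob m hCN hm2
  have hreg1 : ¬ p ∣ orderOf (1 : G) := by
    rw [orderOf_one]
    exact hp.one_lt.ne' ∘ Nat.dvd_one.mp
  have hdeg0 : ∀ l l' : {ψ : (P : Subgroup G) →* ℂˣ // ψ ≠ 1},
      ∑ χ ∈ T, (mult χ l.1 - mult χ l'.1) * (Cfsg.charDegree (χ : G → ℂ) : ℤ) = 0 := by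
    intro l l'
    have h1 := hpreg 1 hreg1 l.1 l'.1
    simp only [Helper81.irr_one_eq_charDegree] at h1
    exact_mod_cast h1
  obtain ⟨δ, d, a, η, hδ, hηT, hηR, hua, had, hnorm⟩ :=
    excCoh_full (L := {ψ : (P : Subgroup G) →* ℂˣ // ψ ≠ 1}) T (fun l χ => mult χ l.1)
      (fun χ => mult χ 1) (fun χ => (Cfsg.charDegree (χ : G → ℂ) : ℤ)) (m : ℤ)
      (fun χ _ => by exact_mod_cast Helper81.charDegree_pos χ) hdeg0
      (fun l l' => excRel (P : Subgroup G) l.1 l'.1)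
      (fun l l' hR => g0 l.1 l'.1 l.2 hR)
      (fun l l' hR => g2 l.1 l'.1 l.2 l'.2 hR)
      (fun l l' l'' hR hR' hR'' => g1 l.1 l'.1 l''.1 l.2 l'.2 hR hR' hR'')
      (fun l => g4 l.1 l.2)
      (fun l l' hR => g5 l.1 l'.1 l.2 l'.2 hR)
      ⟨ψ0, hψ0⟩ ⟨ψ1, hψ1⟩ h01
  have hδ0 : (δ : ℂ) ≠ 0 := by
    rcases hδ with h | h <;> rw [h] <;> norm_num
  obtain ⟨ζ, hζ⟩ : ∃ ζ : ((P : Subgroup G) →* ℂˣ) → Cfsg.IrrCharacter G,
      ∀ (ψ : (P : Subgroup G) →* ℂˣ) (h : ψ ≠ 1), ζ ψ = η ⟨ψ, h⟩ :=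
    ⟨fun ψ => if h : ψ ≠ 1 then η ⟨ψ, h⟩ else Helper81.trivIrr G, fun ψ h => dif_pos h⟩
  have hζT : ∀ ψ, ψ ≠ 1 → ζ ψ ∈ T := by
    intro ψ h
    rw [hζ ψ h]
    exact hηT _
  have hζR : ∀ ψ ψ', ψ ≠ 1 → ψ' ≠ 1 → (ζ ψ = ζ ψ' ↔ excRel (P : Subgroup G) ψ ψ') := by
    intro ψ ψ' h h'
    rw [hζ ψ h, hζ ψ' h']
    exact hηR ⟨ψ, h⟩ ⟨ψ', h'⟩
  -- the multiplicities in terms of the data
  have hmu : ∀ χ ∈ T, ∀ ψ, ψ ≠ 1 →
      (mult χ ψ : ℂ) - (mult χ 1 : ℂ) = (if χ = ζ ψ then (δ : ℂ) else 0) - (a χ : ℂ) := by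
    intro χ hχ ψ h
    have h1 := hua ⟨ψ, h⟩ χ hχ
    rw [← hζ ψ h] at h1
    have h2 := congrArg (Int.cast : ℤ → ℂ) h1
    push_cast at h2
    rw [h2]
  refine ⟨T, δ, d, a, ζ, hT, hδ, hζT, hζR, ?_, ?_, ?_, ?_, ?_, ?_, ?_⟩
  · intro ψ h
    rw [hζ ψ h]
    exact had _
  · -- values on `P`
    intro χ hχ y hy
    rw [excMain_fourier P hab mult hmult χ y]
    have hmu' : ∀ ψ : (P : Subgroup G) →* ℂˣ, (mult χ ψ : ℂ)
        = ((mult χ 1 : ℂ) - (a χ : ℂ)) + (if ψ = 1 then (a χ : ℂ) else 0)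
          + (if ψ ≠ 1 ∧ ζ ψ = χ then (δ : ℂ) else 0) := by
      intro ψ
      by_cases h : ψ = 1
      · rw [if_pos h, if_neg (fun hh => hh.1 h), h]
        ring
      · have h2 := hmu χ hχ ψ h
        rw [if_neg h]
        by_cases h3 : χ = ζ ψ
        · rw [if_pos h3] at h2
          rw [if_pos ⟨h, h3.symm⟩]
          linear_combination h2
        · rw [if_neg h3] at h2
          rw [if_neg (fun hh => h3 hh.2.symm)]
          linear_combination h2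
    have e0 : ∀ ψ : (P : Subgroup G) →* ℂˣ, (mult χ ψ : ℂ) * ((ψ y : ℂˣ) : ℂ)
        = ((mult χ 1 : ℂ) - (a χ : ℂ)) * ((ψ y : ℂˣ) : ℂ)
          + (if ψ = 1 then (a χ : ℂ) else 0) * ((ψ y : ℂˣ) : ℂ)
          + (if ψ ≠ 1 ∧ ζ ψ = χ then (δ : ℂ) else 0) * ((ψ y : ℂˣ) : ℂ) := by
      intro ψ
      conv_lhs => rw [hmu' ψ]
      ring
    rw [Finset.sum_congr rfl (fun ψ _ => e0 ψ), Finset.sum_add_distrib, Finset.sum_add_distrib]
    rw [← Finset.mul_sum, excHom_sum_dual hcommA y, if_neg hy, mul_zero, zero_add]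
    have e1 : ∑ ψ : (P : Subgroup G) →* ℂˣ, (if ψ = 1 then (a χ : ℂ) else 0) * ((ψ y : ℂˣ) : ℂ)
        = (a χ : ℂ) := by
      rw [Finset.sum_eq_single (1 : (P : Subgroup G) →* ℂˣ)]
      · simp
      · intro b _ hb
        rw [if_neg hb, zero_mul]
      · intro h
        exact absurd (Finset.mem_univ _) h
    have e2 : ∑ ψ : (P : Subgroup G) →* ℂˣ,
          (if ψ ≠ 1 ∧ ζ ψ = χ then (δ : ℂ) else 0) * ((ψ y : ℂˣ) : ℂ)
        = (δ : ℂ) * ∑ᶠ ψ ∈ {ψ : (P : Subgroup G) →* ℂˣ | ψ ≠ 1 ∧ ζ ψ = χ},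
            ((ψ y : ℂˣ) : ℂ) := by
      rw [Helper81.finsum_mem_eq_sum_filter_univ, Finset.mul_sum, Finset.sum_filter]
      refine Finset.sum_congr rfl fun ψ _ => ?_
      by_cases h : ψ ≠ 1 ∧ ζ ψ = χ
      · rw [if_pos h, if_pos (by exact h)]
      · rw [if_neg h, if_neg (by exact h), zero_mul]
    rw [e1, e2]
  · -- the norm equation
    have h1 := hnorm ⟨ψ0, hψ0⟩
    have h2 := Finset.add_sum_erase T (fun χ => a χ ^ 2) (hηT ⟨ψ0, hψ0⟩)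
    rw [had] at h2
    linarith
  · -- `p`-regular elements, against the trivial character of `P`
    intro ψ h g hg
    have h1 := hpreg g hg ψ 1
    have h2 : ∑ χ ∈ T, ((if χ = ζ ψ then (δ : ℂ) else 0) - (a χ : ℂ)) * (χ : G → ℂ) g = 0 :=
      (Finset.sum_congr rfl fun χ hχ => by rw [hmu χ hχ ψ h]).trans h1
    simp only [sub_mul, Finset.sum_sub_distrib, ite_mul, zero_mul] at h2
    rw [Finset.sum_ite_eq' T (ζ ψ) (fun χ => (δ : ℂ) * (χ : G → ℂ) g), if_pos (hζT ψ h)] at h2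
    linear_combination h2
  · -- the exceptional characters agree on `p`-regular elements
    intro ψ ψ' h h' g hg
    have h1 := hpreg g hg ψ ψ'
    have h2 : ∑ χ ∈ T, ((if χ = ζ ψ then (δ : ℂ) else 0) - (if χ = ζ ψ' then (δ : ℂ) else 0))
        * (χ : G → ℂ) g = 0 := by
      refine (Finset.sum_congr rfl fun χ hχ => ?_).trans h1
      have e1 := hmu χ hχ ψ h
      have e2 := hmu χ hχ ψ' h'
      have e3 : (mult χ ψ : ℂ) - (mult χ ψ' : ℂ)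
          = (if χ = ζ ψ then (δ : ℂ) else 0) - (if χ = ζ ψ' then (δ : ℂ) else 0) := by
        linear_combination e1 - e2
      rw [e3]
    simp only [sub_mul, Finset.sum_sub_distrib, ite_mul, zero_mul] at h2
    rw [Finset.sum_ite_eq' T (ζ ψ) (fun χ => (δ : ℂ) * (χ : G → ℂ) g), if_pos (hζT ψ h),
      Finset.sum_ite_eq' T (ζ ψ') (fun χ => (δ : ℂ) * (χ : G → ℂ) g), if_pos (hζT ψ' h')] at h2
    apply mul_left_cancel₀ hδ0
    linear_combination h2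
  · -- the principal character is not exceptional
    intro ψ h htriv
    have htT : Helper81.trivIrr G ∈ T := (hT _).mpr Helper81.trivIrr_mem_principalBlock
    have hmt : ∀ ψ' : (P : Subgroup G) →* ℂˣ, ψ' ≠ 1 →
        mult (Helper81.trivIrr G) ψ' - mult (Helper81.trivIrr G) 1 = -1 := by
      intro ψ' h'
      have e1 := hmult (Helper81.trivIrr G) ψ'
      have e2 := hmult (Helper81.trivIrr G) 1
      have e3 := excHom_orth hcommA ψ' 1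
      have e4 := excHom_orth hcommA (1 : (P : Subgroup G) →* ℂˣ) 1
      rw [if_neg h'] at e3
      rw [if_pos rfl] at e4
      simp only [Helper81.trivIrr_apply, one_mul, MonoidHom.one_apply, Units.val_one, map_one,
        mul_one] at e1 e2 e3 e4
      rw [e3] at e1
      rw [e4] at e2
      have hn : (Fintype.card (P : Subgroup G) : ℂ) ≠ 0 := by
        exact_mod_cast Fintype.card_ne_zero
      have e5 : (mult (Helper81.trivIrr G) ψ' : ℂ) = 0 := by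
        rcases mul_eq_zero.mp e1.symm with h0 | h0
        · exact absurd h0 hn
        · exact h0
      have e6 : (mult (Helper81.trivIrr G) 1 : ℂ) = 1 := by
        apply mul_left_cancel₀ hn
        rw [← e2, mul_one]
      have e7 : ((mult (Helper81.trivIrr G) ψ' - mult (Helper81.trivIrr G) 1 : ℤ) : ℂ)
          = ((-1 : ℤ) : ℂ) := by
        push_cast
        rw [e5, e6]
        ring
      exact_mod_cast e7
    -- a linear character not conjugate to `ψ`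
    obtain ⟨ψ', h', hR'⟩ : ∃ ψ' : (P : Subgroup G) →* ℂˣ, ψ' ≠ 1 ∧
        ¬ excRel (P : Subgroup G) ψ ψ' := by
      by_cases hR0 : excRel (P : Subgroup G) ψ ψ0
      · refine ⟨ψ1, hψ1, fun hR1 => h01 (excRel_trans (excRel_symm hR0) hR1)⟩
      · exact ⟨ψ0, hψ0, hR0⟩
    have e1 := hua ⟨ψ, h⟩ (Helper81.trivIrr G) htT
    have e2 := hua ⟨ψ', h'⟩ (Helper81.trivIrr G) htT
    simp only at e1 e2
    rw [hmt ψ h, ← hζ ψ h, if_pos htriv.symm] at e1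
    have hne : Helper81.trivIrr G ≠ η ⟨ψ', h'⟩ := by
      rw [← hζ ψ' h', ← htriv]
      exact fun hh => hR' ((hζR ψ ψ' h h').mp hh)
    rw [hmt ψ' h', if_neg hne] at e2
    rcases hδ with hd | hd <;> rw [hd] at e1 <;> omega
  · refine ⟨ψ0, ψ1, hψ0, hψ1, fun hh => h01 ((hζR ψ0 ψ1 hψ0 hψ1).mp hh)⟩

/-- **Brauer's theorem** on the principal `p`-block of a group with an abelian Sylow `p`-subgroup `P`
such that `N_G(P)/C_G(P)` has order `m`, `1 < m < |P| - 1`, and acts freely on `P ∖ {1}`. -/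
theorem excFinal (p : ℕ) [Fact p.Prime] (M : Ideal Cfsg.AlgInt) (hM : Cfsg.IsPModular p M) (P : Sylow p G) (hab : IsMulCommutative P) (hP1 : Nat.card P ≠ 1) (m : ℕ) (hm1 : 1 < m) (hm2 : m + 1 < Nat.card P) (hCN : (Subgroup.centralizer ((P : Subgroup G) : Set G)).relIndex (Subgroup.normalizer ((P : Subgroup G) : Set G)) = m) (hfrob : ∀ y : G, y ∈ (P : Subgroup G) → y ≠ 1 → Subgroup.centralizer ({y} : Set G) ⊓ Subgroup.normalizer ((P : Subgroup G) : Set G) = Subgroup.centralizer ((P : Subgroup G) : Set G)) : ∃ (s : ℕ) (X Y : Set (Cfsg.IrrCharacter G)), s ≤ m ∧ Cfsg.principalBlock M G = X ∪ Y ∧ Disjoint X Y ∧ Nat.card X = s ∧ Nat.card Y = (Nat.card P - 1) / m ∧ (∃ χ₁ ∈ X, (χ₁ : G → ℂ) = fun _ => 1) ∧ ∃ (a : Cfsg.IrrCharacter G → ℤ) (d δ : ℤ) (ζ : (↥(P : Subgroup G) →* ℂˣ) → Cfsg.IrrCharacter G), (δ = 1 ∨ δ = -1) ∧ (∀ χ ∈ X, a χ ≠ 0 ∧ ∀ z y : G, Cfsg.IsPPart p z y → y ∈ (P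 : Subgroup G) → y ≠ 1 → (χ : G → ℂ) z = (a χ : ℂ)) ∧ (∀ ψ : ↥(P : Subgroup G) →* ℂˣ, ψ ≠ 1 → ζ ψ ∈ Y) ∧ (∀ η ∈ Y, ∃ ψ : ↥(P : Subgroup G) →* ℂˣ, ψ ≠ 1 ∧ ζ ψ = η) ∧ (∀ ψ ψ' : ↥(P : Subgroup G) →* ℂˣ, ψ ≠ 1 → (∃ n : G, n ∈ Subgroup.normalizer ((P : Subgroup G) : Set G) ∧ ∀ w w' : ↥(P : Subgroup G), (w' : G) = n * w * n⁻¹ → ψ' w' = ψ w) → ζ ψ' = ζ ψ) ∧ (∀ ψ : ↥(P : Subgroup G) →* ℂˣ, ψ ≠ 1 → ∀ (z : G) (y : ↥(P : Subgroup G)), Cfsg.IsPPart p z (y : G) → (y : G) ≠ 1 → (ζ ψ : G → ℂ) z = (d : ℂ) + (δ : ℂ) * ∑ᶠ ψ' ∈ {ψ' : ↥(P : Subgroup G) →* ℂˣ | ∃ n : G, n ∈ Subgroup.normalizer ((P : Subgroup G) : Set G) ∧ ∀ w w' : ↥(P : Subgroup G), (w' : G) = n * w * n⁻¹ → ψ' w' = ψ w}, ((ψ' y : ℂˣ) : ℂ)) ∧ ((d - δ) ^ 2 + ((Nat.card P - 1) / m - 1 : ℤ) * d ^ 2 + ∑ᶠ χ ∈ X, a χ ^ 2 = (m : ℤ) + 1) ∧ (∀ η ∈ Y, ∀ η' ∈ Y, ∀ g : G, ¬ p ∣ orderOf g → (η : G → ℂ) g = (η' : G → ℂ) g) ∧ (∀ η ∈ Y, ∀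 g : G, ¬ p ∣ orderOf g → ((((Nat.card P - 1) / m : ℕ) : ℂ) * d - δ) * (η : G → ℂ) g + ∑ᶠ χ ∈ X, (a χ : ℂ) * (χ : G → ℂ) g = 0) := by
  classical
  have hp : p.Prime := Fact.out
  have : Fintype (P : Subgroup G) := Fintype.ofFinite _
  have : Fintype (Subgroup.normalizer ((P : Subgroup G) : Set G)) := Fintype.ofFinite _
  have : Finite ((P : Subgroup G) →* ℂˣ) := Helper80.finite_hom
  have : Fintype ((P : Subgroup G) →* ℂˣ) := Fintype.ofFinite _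
  have hMp : M.IsPrime := Helper81.isPrime_of_isPModular hM
  have hcommA : ∀ x y : (P : Subgroup G), x * y = y * x := fun x y => hab.is_comm.comm x y
  have hm2' : m + 1 < Nat.card (P : Subgroup G) := hm2
  have hP1' : Nat.card (P : Subgroup G) ≠ 1 := hP1
  obtain ⟨T, δ, d, a, ζ, hT, hδ, hζT, hζR, had, hval, hnorm, hreg, hagree, htriv,
    ψ0, ψ1, hψ0, hψ1, h01⟩ := excFinal_data hM P hab hfrob m hm2' hCN
  -- the exceptional characters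
  obtain ⟨Yf, hYf⟩ : ∃ Yf : Finset (Cfsg.IrrCharacter G),
      ∀ χ, χ ∈ Yf ↔ ∃ ψ : (P : Subgroup G) →* ℂˣ, ψ ≠ 1 ∧ ζ ψ = χ := by
    refine ⟨(Finset.univ.filter (fun ψ : (P : Subgroup G) →* ℂˣ => ψ ≠ 1)).image ζ, ?_⟩
    intro χ
    rw [Finset.mem_image]
    constructor
    · rintro ⟨ψ, hψ, rfl⟩
      exact ⟨ψ, (Finset.mem_filter.mp hψ).2, rfl⟩
    · rintro ⟨ψ, hψ, rfl⟩
      exact ⟨ψ, Finset.mem_filter.mpr ⟨Finset.mem_univ _, hψ⟩, rfl⟩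
  have hYT : Yf ⊆ T := by
    intro χ hχ
    obtain ⟨ψ, h, rfl⟩ := (hYf χ).mp hχ
    exact hζT ψ h
  have hζY : ∀ ψ : (P : Subgroup G) →* ℂˣ, ψ ≠ 1 → ζ ψ ∈ Yf := fun ψ h => (hYf _).mpr ⟨ψ, h, rfl⟩
  -- the orbit of `ψ` is the fibre of `ζ`
  have hfib : ∀ ψ ψ' : (P : Subgroup G) →* ℂˣ, ψ ≠ 1 →
      ((ψ' ≠ 1 ∧ ζ ψ' = ζ ψ) ↔ excRel (P : Subgroup G) ψ ψ') := by
    intro ψ ψ' h
    constructor
    · rintro ⟨h', he⟩
      exact (hζR ψ ψ' h h').mp he.symm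
    · intro hR
      have h' := excRel_ne_one h hR
      exact ⟨h', ((hζR ψ ψ' h h').mpr hR).symm⟩
  -- the number of exceptional characters
  have hYcard : Yf.card * m = Nat.card (P : Subgroup G) - 1 := by
    have h1 := Finset.card_eq_sum_card_fiberwise (f := ζ)
      (s := Finset.univ.filter (fun ψ : (P : Subgroup G) →* ℂˣ => ψ ≠ 1)) (t := Yf)
      (fun ψ hψ => hζY ψ (Finset.mem_filter.mp (Finset.mem_coe.mp hψ)).2)
    have h2 : ∀ b ∈ Yf, ((Finset.univ.filter (fun ψ : (P : Subgroup G) →* ℂˣ => ψ ≠ 1)).filter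
        (fun ψ => ζ ψ = b)).card = m := by
      intro b hb
      obtain ⟨ψb, hψb, rfl⟩ := (hYf b).mp hb
      rw [← excMain_card_orbit P hfrob m hCN ψb hψb]
      congr 1
      ext ψ'
      rw [Finset.mem_filter, Finset.mem_filter, Finset.mem_image]
      constructor
      · rintro ⟨⟨-, h'⟩, he⟩
        obtain ⟨n, hn⟩ := (hfib ψb ψ' hψb).mp ⟨h', he⟩
        exact ⟨n, Finset.mem_univ _, hn⟩
      · rintro ⟨n, -, hn⟩
        have h3 := (hfib ψb ψ' hψb).mpr ⟨n, hn⟩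
        exact ⟨⟨Finset.mem_univ _, h3.1⟩, h3.2⟩
    rw [Finset.sum_congr rfl h2, Finset.sum_const, smul_eq_mul, Finset.filter_ne',
      Finset.card_erase_of_mem (Finset.mem_univ _), Finset.card_univ,
      ← Nat.card_eq_fintype_card, excHom_card hcommA, ← Nat.card_eq_fintype_card] at h1
    exact h1.symm
  have hm0 : 0 < m := by omega
  have hr : (Nat.card (P : Subgroup G) - 1) / m = Yf.card :=
    Nat.div_eq_of_eq_mul_left hm0 hYcard.symm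
  have hY2 : 2 ≤ Yf.card := by
    have h1 : 1 < Yf.card :=
      Finset.one_lt_card.mpr ⟨ζ ψ0, hζY ψ0 hψ0, ζ ψ1, hζY ψ1 hψ1, h01⟩
    omega
  -- a nontrivial element of `P`
  obtain ⟨y0, hy0⟩ : ∃ y0 : (P : Subgroup G), y0 ≠ 1 := by
    by_contra hcon
    push Not at hcon
    apply hP1'
    rw [Nat.card_eq_one_iff_unique]
    exact ⟨⟨fun x y => by rw [hcon x, hcon y]⟩, ⟨1⟩⟩
  -- the non-exceptional characters
  have hX : ∀ χ ∈ T \ Yf, ∀ y : (P : Subgroup G), y ≠ 1 →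
      (χ : G → ℂ) (y : G) = (a χ : ℂ) := by
    intro χ hχ y hy
    rw [Finset.mem_sdiff] at hχ
    have h1 := hval χ hχ.1 y hy
    have h2 : {ψ : (P : Subgroup G) →* ℂˣ | ψ ≠ 1 ∧ ζ ψ = χ} = ∅ := by
      ext ψ
      simp only [Set.mem_setOf_eq, Set.mem_empty_iff_false, iff_false]
      intro hh
      exact hχ.2 ((hYf χ).mpr ⟨ψ, hh.1, hh.2⟩)
    rw [h2, finsum_mem_empty, mul_zero, add_zero] at h1
    exact h1
  have hXne : ∀ χ ∈ T \ Yf, a χ ≠ 0 := by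
    intro χ hχ h0
    have h1 := hX χ hχ y0 hy0
    rw [h0, Int.cast_zero] at h1
    exact excBlock_ne_zero hM P hab χ ((hT χ).mp (Finset.mem_sdiff.mp hχ).1) (y0 : G) y0.2 h1
  -- sums over `T`
  have hsplit : ∀ f : Cfsg.IrrCharacter G → ℤ,
      ∑ χ ∈ T \ Yf, f χ + ∑ χ ∈ Yf, f χ = ∑ χ ∈ T, f χ := fun f => Finset.sum_sdiff hYT
  have hsplitC : ∀ f : Cfsg.IrrCharacter G → ℂ,
      ∑ χ ∈ T \ Yf, f χ + ∑ χ ∈ Yf, f χ = ∑ χ ∈ T, f χ := fun f => Finset.sum_sdiff hYT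
  have haY : ∀ χ ∈ Yf, a χ = d := by
    intro χ hχ
    obtain ⟨ψ, h, rfl⟩ := (hYf χ).mp hχ
    exact had ψ h
  have hYsq : ∑ χ ∈ Yf, a χ ^ 2 = (Yf.card : ℤ) * d ^ 2 := by
    rw [Finset.sum_congr rfl (fun χ hχ => by rw [haY χ hχ]), Finset.sum_const, nsmul_eq_mul]
  have hnorm' : (d - δ) ^ 2 + ((Yf.card : ℤ) - 1) * d ^ 2 + ∑ χ ∈ T \ Yf, a χ ^ 2
      = (m : ℤ) + 1 := by
    linear_combination hnorm + hsplit (fun χ => a χ ^ 2) - hYsq
  have hXcard : ((T \ Yf).card : ℤ) ≤ ∑ χ ∈ T \ Yf, a χ ^ 2 := by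
    have h1 : ∑ χ ∈ T \ Yf, (1 : ℤ) ≤ ∑ χ ∈ T \ Yf, a χ ^ 2 := by
      apply Finset.sum_le_sum
      intro χ hχ
      have h2 := hXne χ hχ
      have h3 : 0 < a χ ^ 2 := by positivity
      omega
    rw [Finset.sum_const, nsmul_eq_mul, mul_one] at h1
    exact h1
  have hpos : 1 ≤ (d - δ) ^ 2 + ((Yf.card : ℤ) - 1) * d ^ 2 := by
    have hc : (1 : ℤ) ≤ (Yf.card : ℤ) - 1 := by
      have : (2 : ℤ) ≤ (Yf.card : ℤ) := by exact_mod_cast hY2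
      linarith
    by_cases hd0 : d = 0
    · rw [hd0]
      rcases hδ with h | h <;> rw [h] <;> norm_num
    · have h1 : 1 ≤ d ^ 2 := by
        have h3 : 0 < d ^ 2 := by positivity
        omega
      nlinarith [sq_nonneg (d - δ)]
  have hP1le : 1 ≤ Nat.card (P : Subgroup G) := by omega
  refine ⟨(T \ Yf).card, ((T \ Yf : Finset (Cfsg.IrrCharacter G)) : Set (Cfsg.IrrCharacter G)),
    (Yf : Set (Cfsg.IrrCharacter G)), ?_, ?_, ?_, ?_, ?_, ?_, a, d, δ, ζ, hδ, ?_, ?_, ?_, ?_, ?_,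
    ?_, ?_, ?_⟩
  · -- `s ≤ m`
    have h1 : ((T \ Yf).card : ℤ) ≤ (m : ℤ) := by linarith
    exact_mod_cast h1
  · rw [← Finset.coe_union, Finset.sdiff_union_of_subset hYT]
    ext χ
    rw [Finset.mem_coe, hT]
  · exact Finset.disjoint_coe.mpr Finset.sdiff_disjoint
  · rw [Nat.card_coe_set_eq, Set.ncard_coe_finset]
  · rw [Nat.card_coe_set_eq, Set.ncard_coe_finset]
    exact hr.symm
  · refine ⟨Helper81.trivIrr G, ?_, rfl⟩
    rw [Finset.mem_coe, Finset.mem_sdiff]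
    refine ⟨(hT _).mpr Helper81.trivIrr_mem_principalBlock, ?_⟩
    intro hh
    obtain ⟨ψ, h, he⟩ := (hYf _).mp hh
    exact htriv ψ h he
  · -- the non-exceptional characters
    intro χ hχ
    rw [Finset.mem_coe] at hχ
    refine ⟨hXne χ hχ, ?_⟩
    intro z y hz hy hy1
    have hχB := (hT χ).mp (Finset.mem_sdiff.mp hχ).1
    rw [excBlock_const hM P hab hfrob χ hχB z y hz hy hy1]
    exact hX χ hχ ⟨y, hy⟩ (fun hh => hy1 (congrArg Subtype.val hh))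
  · intro ψ h
    exact Finset.mem_coe.mpr (hζY ψ h)
  · intro η hη
    exact (hYf η).mp (Finset.mem_coe.mp hη)
  · intro ψ ψ' h horb
    have hR : excRel (P : Subgroup G) ψ ψ' := (excAct_orbit_iff (P : Subgroup G) ψ ψ').mp horb
    exact ((hfib ψ ψ' h).mpr hR).2
  · -- the values of the exceptional characters
    intro ψ h z y hz hy1
    have hχB := (hT _).mp (hζT ψ h)
    rw [excBlock_const hM P hab hfrob (ζ ψ) hχB z (y : G) hz y.2 hy1,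
      hval (ζ ψ) (hζT ψ h) y (fun hh => hy1 (congrArg Subtype.val hh)), had ψ h]
    have hset : {ψ' : (P : Subgroup G) →* ℂˣ | ψ' ≠ 1 ∧ ζ ψ' = ζ ψ}
        = {ψ' : (P : Subgroup G) →* ℂˣ | ∃ n : G,
            n ∈ Subgroup.normalizer ((P : Subgroup G) : Set G) ∧
            ∀ w w' : (P : Subgroup G), (w' : G) = n * w * n⁻¹ → ψ' w' = ψ w} := by
      ext ψ'
      rw [Set.mem_setOf_eq, Set.mem_setOf_eq, excAct_orbit_iff]
      exact hfib ψ ψ' h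
    rw [hset]
  · -- the norm equation
    rw [finsum_mem_coe_finset]
    have h1 : ((Nat.card P : ℤ) - 1) / (m : ℤ) = (Yf.card : ℤ) := by
      have h2 : ((Nat.card P : ℤ) - 1) = (Yf.card : ℤ) * (m : ℤ) := by
        have h3 : Nat.card (P : Subgroup G) = Yf.card * m + 1 := by omega
        have h4 : (Nat.card P : ℤ) = ((Yf.card * m + 1 : ℕ) : ℤ) := by
          exact_mod_cast h3
        rw [h4]
        push_cast
        ring
      rw [h2]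
      exact Int.mul_ediv_cancel _ (by exact_mod_cast hm0.ne')
    rw [h1]
    exact hnorm'
  · intro η hη η' hη' g hg
    obtain ⟨ψ, h, rfl⟩ := (hYf η).mp (Finset.mem_coe.mp hη)
    obtain ⟨ψ', h', rfl⟩ := (hYf η').mp (Finset.mem_coe.mp hη')
    exact hagree ψ ψ' h h' g hg
  · -- the relation on `p`-regular elements
    intro η hη g hg
    obtain ⟨ψ, h, rfl⟩ := (hYf η).mp (Finset.mem_coe.mp hη)
    rw [finsum_mem_coe_finset]
    have h1 := hreg ψ h g hg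
    have h2 : ∑ χ ∈ Yf, (a χ : ℂ) * (χ : G → ℂ) g
        = (Yf.card : ℂ) * ((d : ℂ) * (ζ ψ : G → ℂ) g) := by
      rw [← nsmul_eq_mul, ← Finset.sum_const]
      refine Finset.sum_congr rfl fun χ hχ => ?_
      obtain ⟨ψ', h', rfl⟩ := (hYf χ).mp hχ
      rw [had ψ' h', hagree ψ' ψ h' h g hg]
    have h3 := hsplitC (fun χ => (a χ : ℂ) * (χ : G → ℂ) g)
    have h4 : (Nat.card P - 1) / m = Yf.card := hr
    rw [h4]
    linear_combination (-1 : ℂ) * h1 + h3 - h2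

end Cfsg.Agent.Helper82
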