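import Cfsg.Agent.Helper16.PPart
import Cfsg.Agent.Helper16.ConvAlg

/-!
# Decomposition of a sum over a finite group along the `p`-sections

If `X` is a set of representatives of the classes of `p`-elements of `G` and `F` is a class
function, then
`∑_g F g = |G| ∑_{x ∈ X} |C(x)|⁻¹ ∑_{y ∈ C(x), y p-regular} F (x y)`.
-/

set_option autoImplicit false
open Cfsg

namespace Cfsg.Agent.Helper82

universe u

variable {G : Type u} [Group G] [Fintype G]

/-- The number of elements conjugating `u` to `x`. -/
theorem sum_conjugators (x u : G) [DecidableEq G] :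
    ∑ c : G, (if c * u * c⁻¹ = x then (1 : ℂ) else 0)
      = if IsConj u x then (Nat.card (Subgroup.centralizer ({x} : Set G)) : ℂ) else 0 := by
  classical
  by_cases h : IsConj u x
  · rw [if_pos h]
    obtain ⟨d, hd⟩ := isConj_iff.mp h
    rw [← Equiv.sum_comp (Equiv.mulRight d)]
    have h1 : ∀ c : G, (if (Equiv.mulRight d c) * u * (Equiv.mulRight d c)⁻¹ = x then (1 : ℂ) else 0)
        = if c ∈ Subgroup.centralizer ({x} : Set G) then 1 else 0 := by
      intro c
      rw [Equiv.coe_mulRight]
      have e : c * d * u * (c * d)⁻¹ = c * x * c⁻¹ := by rw [← hd]; group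
      rw [e]
      have h2 : c * x * c⁻¹ = x ↔ c ∈ Subgroup.centralizer ({x} : Set G) := by
        rw [Subgroup.mem_centralizer_iff]
        constructor
        · intro h1 s hs
          rw [Set.mem_singleton_iff] at hs
          subst hs
          calc s * c = (c * s * c⁻¹) * c := by rw [h1]
            _ = c * s := by group
        · intro h1
          have h3 := h1 x rfl
          rw [← h3]; group
      simp only [h2]
    simp only [h1]
    rw [Finset.sum_boole]
    congr 1
    rw [← Fintype.card_subtype]
    exact Nat.card_eq_fintype_card.symm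
  · rw [if_neg h]
    apply Finset.sum_eq_zero
    intro c _
    rw [if_neg]
    intro hc
    exact h (isConj_iff.mpr ⟨c, hc⟩)

/-- **Decomposition along the `p`-sections.** -/
theorem sum_eq_sum_sections {p : ℕ} [hp : Fact p.Prime] (X : Finset G)
    (hX : ∀ x ∈ X, ∃ k : ℕ, orderOf x = p ^ k)
    (hXrep : ∀ g : G, (∃ k : ℕ, orderOf g = p ^ k) → ∃! x, x ∈ X ∧ IsConj g x)
    {F : G → ℂ} (hF : ∀ g c : G, F (c * g * c⁻¹) = F g) :
    ∑ g : G, F g = (Nat.card G : ℂ) * ∑ x ∈ X,
      (Nat.card (Subgroup.centralizer ({x} : Set G)) : ℂ)⁻¹ *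
        ∑ᶠ y : Subgroup.centralizer ({x} : Set G),
          if ¬ p ∣ orderOf y then F (x * (y : G)) else 0 := by
  classical
  -- the `p`-part function
  have hpart : ∀ g : G, ∃ u, Cfsg.IsPPart p g u :=
    fun g => Helper16.exists_isPPart p g (orderOf_pos g)
  choose π hπ using hpart
  have hπp : ∀ g, ∃ k : ℕ, orderOf (π g) = p ^ k := fun g => by
    obtain ⟨y, -, -, hk, -⟩ := hπ g
    exact hk
  have hπconj : ∀ g c, π (c * g * c⁻¹) = c * π g * c⁻¹ := fun g c =>
    Helper16.isPPart_unique (hπ _) (Helper16.isPPart_conj (hπ g) c)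
  -- step 1
  have h1 : ∀ g : G, F g = ∑ x ∈ X, if IsConj (π g) x then F g else 0 := by
    intro g
    obtain ⟨x, ⟨hxX, hx⟩, huniq⟩ := hXrep (π g) (hπp g)
    rw [Finset.sum_eq_single x]
    · rw [if_pos hx]
    · intro x' hx' hne
      rw [if_neg]
      intro hc
      exact hne (huniq x' ⟨hx', hc⟩)
    · intro h
      exact absurd hxX h
  -- step 2
  have h2 : ∀ x ∈ X, ∑ g : G, (if IsConj (π g) x then F g else 0)
      = (Nat.card G : ℂ) * ((Nat.card (Subgroup.centralizer ({x} : Set G)) : ℂ)⁻¹ *
        ∑ᶠ y : Subgroup.centralizer ({x} : Set G),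
          if ¬ p ∣ orderOf y then F (x * (y : G)) else 0) := by
    intro x hxX
    have := Fintype.ofFinite (Subgroup.centralizer ({x} : Set G))
    have hcardC : (Nat.card (Subgroup.centralizer ({x} : Set G)) : ℂ) ≠ 0 := by
      have : 0 < Nat.card (Subgroup.centralizer ({x} : Set G)) := Nat.card_pos
      exact_mod_cast this.ne'
    have hA : ∀ c : G, ∑ g : G, (if c * π g * c⁻¹ = x then F g else 0)
        = ∑ g : G, (if π g = x then F g else 0) := by
      intro c
      rw [← Equiv.sum_comp (MulAut.conj c).toEquiv (fun g => if π g = x then F g else 0)]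
      refine Finset.sum_congr rfl fun g _ => ?_
      have e1 : (MulAut.conj c).toEquiv g = c * g * c⁻¹ := rfl
      simp only [e1, hπconj, hF]
    have hB : ∑ g : G, (if π g = x then F g else 0)
        = ∑ y : Subgroup.centralizer ({x} : Set G),
            if ¬ p ∣ orderOf y then F (x * (y : G)) else 0 := by
      have h3 := Helper16.sum_ext0_mul (Subgroup.centralizer ({x} : Set G))
        (fun y => if ¬ p ∣ orderOf y then F (x * (y : G)) else 0) (fun _ => 1)
      simp only [mul_one] at h3
      rw [← h3, ← Equiv.sum_comp (Equiv.mulLeft x)]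
      refine Finset.sum_congr rfl fun g _ => ?_
      rw [Equiv.coe_mulLeft]
      by_cases hg : g ∈ Subgroup.centralizer ({x} : Set G)
      · rw [Helper16.ext0_apply_mem _ _ hg]
        by_cases hreg : p ∣ orderOf (⟨g, hg⟩ : Subgroup.centralizer ({x} : Set G))
        · rw [if_neg (not_not.mpr hreg), if_neg]
          intro hπx
          have h4 := hπ (x * g)
          rw [hπx] at h4
          obtain ⟨y', hy1, -, -, hy4⟩ := h4
          have h5 : y' = g := mul_left_cancel hy1
          subst h5
          apply hy4
          rw [← Subgroup.orderOf_coe] at hreg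
          exact hreg
        · rw [if_pos hreg, if_pos]
          have hcomm : Commute x g := Subgroup.mem_centralizer_iff.mp hg x rfl
          exact Helper16.isPPart_unique (hπ _) (Helper16.isPPart_mul hcomm (hX x hxX) (by
            rw [← Subgroup.orderOf_coe] at hreg; exact hreg))
      · rw [Helper16.ext0_apply_not_mem _ _ hg, if_neg]
        intro hπx
        have h4 := hπ (x * g)
        rw [hπx] at h4
        obtain ⟨y', hy1, hy2, -, -⟩ := h4
        have h5 : y' = g := mul_left_cancel hy1
        subst h5
        apply hg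
        rw [Subgroup.mem_centralizer_iff]
        intro s hs
        rw [Set.mem_singleton_iff] at hs
        rw [hs]
        exact hy2
    have hC : ∀ g : G, (Nat.card (Subgroup.centralizer ({x} : Set G)) : ℂ)
        * (if IsConj (π g) x then F g else 0)
        = ∑ c : G, if c * π g * c⁻¹ = x then F g else 0 := by
      intro g
      have h6 := sum_conjugators x (π g)
      have h7 : ∑ c : G, (if c * π g * c⁻¹ = x then F g else 0)
          = (∑ c : G, (if c * π g * c⁻¹ = x then (1 : ℂ) else 0)) * F g := by
        rw [Finset.sum_mul]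
        refine Finset.sum_congr rfl fun c _ => ?_
        split_ifs <;> simp
      rw [h7, h6]
      split_ifs <;> simp
    have hD : (Nat.card (Subgroup.centralizer ({x} : Set G)) : ℂ)
        * ∑ g : G, (if IsConj (π g) x then F g else 0)
        = (Nat.card G : ℂ) * ∑ y : Subgroup.centralizer ({x} : Set G),
            if ¬ p ∣ orderOf y then F (x * (y : G)) else 0 := by
      rw [Finset.mul_sum]
      simp only [hC]
      rw [Finset.sum_comm]
      simp only [hA, hB]
      rw [Finset.sum_const, Finset.card_univ, nsmul_eq_mul, Nat.card_eq_fintype_card]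
    rw [finsum_eq_sum_of_fintype, ← mul_assoc, mul_comm (Nat.card G : ℂ), mul_assoc, ← hD,
      ← mul_assoc, inv_mul_cancel₀ hcardC, one_mul]
  calc ∑ g : G, F g = ∑ g : G, ∑ x ∈ X, (if IsConj (π g) x then F g else 0) :=
        Finset.sum_congr rfl fun g _ => h1 g
    _ = ∑ x ∈ X, ∑ g : G, (if IsConj (π g) x then F g else 0) := Finset.sum_comm
    _ = ∑ x ∈ X, (Nat.card G : ℂ) * ((Nat.card (Subgroup.centralizer ({x} : Set G)) : ℂ)⁻¹ *
        ∑ᶠ y : Subgroup.centralizer ({x} : Set G),
          if ¬ p ∣ orderOf y then F (x * (y : G)) else 0) := Finset.sum_congr rfl h2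
    _ = _ := by rw [Finset.mul_sum]

end Cfsg.Agent.Helper82
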