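import Mathlib.Algebra.BigOperators.Group.Finset.Basic
import Mathlib.Algebra.Order.BigOperators.Group.Finset
import Mathlib.Algebra.Order.BigOperators.Ring.Finset
import Mathlib.Tactic

/-!
# Coherence for integer vectors with prescribed inner products (helper82)

The combinatorial core of the theory of exceptional characters: integer vectors `u l` whose
differences have norm `2` and pairwise inner products `1` are of the form `c + δ e_{η l}` with a
common sign `δ`.
-/

set_option autoImplicit false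

namespace Cfsg.Agent.Helper82

/-- The sum against a vector of the form `e_a - e_b`. -/
theorem excCoh_sum_pair {ι : Type*} [DecidableEq ι] (T : Finset ι) (v x : ι → ℤ) (a b : ι)
    (ha : a ∈ T) (hb : b ∈ T) (hab : a ≠ b) (hva : v a = 1) (hvb : v b = -1)
    (hv0 : ∀ χ ∈ T, χ ≠ a → χ ≠ b → v χ = 0) : ∑ χ ∈ T, v χ * x χ = x a - x b := by
  have hb' : b ∈ T.erase a := Finset.mem_erase.mpr ⟨fun h => hab h.symm, hb⟩
  have h1 := Finset.add_sum_erase T (fun χ => v χ * x χ) ha
  have h2 := Finset.add_sum_erase (T.erase a) (fun χ => v χ * x χ) hb'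
  have h3 : ∑ χ ∈ (T.erase a).erase b, v χ * x χ = 0 := by
    apply Finset.sum_eq_zero
    intro χ hχ
    rw [Finset.mem_erase, Finset.mem_erase] at hχ
    rw [hv0 χ hχ.2.2 hχ.2.1 hχ.1, zero_mul]
  rw [← h1, ← h2, h3, hva, hvb]
  ring

/-- An integer vector of norm `2` orthogonal to a positive vector is of the form `e_a - e_b`. -/
theorem excCoh_norm_two {ι : Type*} [DecidableEq ι] (T : Finset ι) (v : ι → ℤ) (deg : ι → ℤ)
    (hdeg : ∀ χ ∈ T, 0 < deg χ) (h2 : ∑ χ ∈ T, v χ ^ 2 = 2)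
    (h0 : ∑ χ ∈ T, v χ * deg χ = 0) :
    ∃ a ∈ T, ∃ b ∈ T, a ≠ b ∧ v a = 1 ∧ v b = -1 ∧ ∀ χ ∈ T, χ ≠ a → χ ≠ b → v χ = 0 := by
  have key : ∀ (S : Finset ι) (N : ℤ), ∑ χ ∈ S, v χ ^ 2 = N → 1 ≤ N → N ≤ 2 →
      ∃ a ∈ S, (v a = 1 ∨ v a = -1) ∧ ∑ χ ∈ S.erase a, v χ ^ 2 = N - 1 := by
    intro S N hS hN1 hN2
    have hex : ∃ a ∈ S, v a ≠ 0 := by
      by_contra hcon
      push Not at hcon
      rw [Finset.sum_eq_zero (fun χ hχ => by rw [hcon χ hχ]; rfl)] at hS
      omega
    obtain ⟨a, ha, hva⟩ := hex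
    have hs1 := Finset.add_sum_erase S (fun χ => v χ ^ 2) ha
    have hnn : 0 ≤ ∑ χ ∈ S.erase a, v χ ^ 2 := Finset.sum_nonneg (fun χ _ => sq_nonneg _)
    have h3 : v a ^ 2 ≤ 2 := by linarith
    have h4 : v a = 1 ∨ v a = -1 := by
      have h5 : -1 ≤ v a := by nlinarith
      have h6 : v a ≤ 1 := by nlinarith
      omega
    refine ⟨a, ha, h4, ?_⟩
    have h7 : v a ^ 2 = 1 := by
      rcases h4 with h | h <;> rw [h] <;> norm_num
    linarith
  obtain ⟨a, ha, hva, hra⟩ := key T 2 h2 (by norm_num) (by norm_num)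
  obtain ⟨b, hb, hvb, hrb⟩ := key (T.erase a) 1 (by rw [hra]; norm_num) (by norm_num)
    (by norm_num)
  have hbT : b ∈ T := Finset.mem_of_mem_erase hb
  have hba : b ≠ a := Finset.ne_of_mem_erase hb
  have hzero : ∀ χ ∈ T, χ ≠ a → χ ≠ b → v χ = 0 := by
    intro χ hχ hχa hχb
    have hmem : χ ∈ (T.erase a).erase b :=
      Finset.mem_erase.mpr ⟨hχb, Finset.mem_erase.mpr ⟨hχa, hχ⟩⟩
    have h8 := (Finset.sum_eq_zero_iff_of_nonneg (fun χ _ => sq_nonneg (v χ))).mp
      (by rw [hrb]; norm_num) χ hmem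
    exact pow_eq_zero_iff (two_ne_zero) |>.mp h8
  have hd1 := Finset.add_sum_erase T (fun χ => v χ * deg χ) ha
  have hd2 := Finset.add_sum_erase (T.erase a) (fun χ => v χ * deg χ) hb
  have hd3 : ∑ χ ∈ (T.erase a).erase b, v χ * deg χ = 0 := by
    apply Finset.sum_eq_zero
    intro χ hχ
    rw [Finset.mem_erase, Finset.mem_erase] at hχ
    rw [hzero χ hχ.2.2 hχ.2.1 hχ.1, zero_mul]
  have hdd : v a * deg a + v b * deg b = 0 := by linarith
  have hda := hdeg a ha
  have hdb := hdeg b hbT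
  rcases hva with hva | hva <;> rcases hvb with hvb | hvb
  · rw [hva, hvb] at hdd
    linarith
  · exact ⟨a, ha, b, hbT, hba.symm, hva, hvb, hzero⟩
  · exact ⟨b, hbT, a, ha, hba, hvb, hva, fun χ hχ h1 h2 => hzero χ hχ h2 h1⟩
  · rw [hva, hvb] at hdd
    linarith

/-- **Coherence.**  Integer vectors `u l` (on a finite set `T`) such that the differences of
inequivalent ones have norm `2`, are orthogonal to a positive vector and have pairwise inner
products `1` are of the form `c + δ e_{η l}`. -/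
theorem excCoh_main {ι L : Type*} [DecidableEq ι] (T : Finset ι) (u : L → ι → ℤ) (deg : ι → ℤ)
    (hdeg : ∀ χ ∈ T, 0 < deg χ)
    (hdeg0 : ∀ l l' : L, ∑ χ ∈ T, (u l χ - u l' χ) * deg χ = 0)
    (R : L → L → Prop)
    (hR0 : ∀ l l', R l l' → ∀ χ ∈ T, u l χ = u l' χ)
    (h2 : ∀ l l', ¬ R l l' → ∑ χ ∈ T, (u l χ - u l' χ) ^ 2 = 2)
    (h1 : ∀ l l' l'', ¬ R l l' → ¬ R l l'' → ¬ R l' l'' →
      ∑ χ ∈ T, (u l χ - u l' χ) * (u l χ - u l'' χ) = 1)
    (l0 l1 : L) (h01 : ¬ R l0 l1) :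
    ∃ (δ : ℤ) (c : ι → ℤ) (η : L → ι), (δ = 1 ∨ δ = -1) ∧ (∀ l, η l ∈ T) ∧
      ∀ l, ∀ χ ∈ T, u l χ = c χ + (if χ = η l then δ else 0) := by
  classical
  have hstruct : ∀ k, ¬ R l0 k → ∃ a ∈ T, ∃ b ∈ T, a ≠ b ∧ u l0 a - u k a = 1 ∧
      u l0 b - u k b = -1 ∧ ∀ χ ∈ T, χ ≠ a → χ ≠ b → u l0 χ - u k χ = 0 :=
    fun k hk => excCoh_norm_two T (fun χ => u l0 χ - u k χ) deg hdeg (h2 l0 k hk) (hdeg0 l0 k)
  have hne : Nonempty ι := by
    obtain ⟨a, -, -⟩ := hstruct l1 h01
    exact ⟨a⟩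
  choose! a ha b hb hab hwa hwb hw0 using hstruct
  -- signs of the entries
  have hle : ∀ k, ¬ R l0 k → ∀ χ ∈ T, χ ≠ a k → u l0 χ - u k χ ≤ 0 := by
    intro k hk χ hχ hχa
    by_cases hχb : χ = b k
    · rw [hχb, hwb k hk]; norm_num
    · rw [hw0 k hk χ hχ hχa hχb]
  have hge : ∀ k, ¬ R l0 k → ∀ χ ∈ T, χ ≠ b k → 0 ≤ u l0 χ - u k χ := by
    intro k hk χ hχ hχb
    by_cases hχa : χ = a k
    · rw [hχa, hwa k hk]; norm_num
    · rw [hw0 k hk χ hχ hχa hχb]
  -- the pair lemma
  have hpair : ∀ k k', ¬ R l0 k → ¬ R l0 k' → a k = a k' ∨ b k = b k' := by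
    intro k k' hk hk'
    by_cases hR : R k k'
    · left
      by_contra hne'
      have h3 := hle k' hk' (a k) (ha k hk) hne'
      rw [← hR0 k k' hR (a k) (ha k hk), hwa k hk] at h3
      norm_num at h3
    · have h3 := h1 l0 k k' hk hk' hR
      rw [excCoh_sum_pair T (fun χ => u l0 χ - u k χ) (fun χ => u l0 χ - u k' χ) (a k) (b k)
        (ha k hk) (hb k hk) (hab k hk) (hwa k hk) (hwb k hk) (hw0 k hk)] at h3
      by_contra hcon
      push Not at hcon
      have h4 := hle k' hk' (a k) (ha k hk) hcon.1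
      have h5 := hge k' hk' (b k) (hb k hk) hcon.2
      linarith
  by_cases hA : ∀ k, ¬ R l0 k → a k = a l1
  · -- all `a k` agree
    refine ⟨1, fun χ => u l0 χ - (if χ = a l1 then 1 else 0),
      fun l => if R l0 l then a l1 else b l, Or.inl rfl, ?_, ?_⟩
    · intro l
      dsimp only
      by_cases hl : R l0 l
      · rw [if_pos hl]; exact ha l1 h01
      · rw [if_neg hl]; exact hb l hl
    · intro l χ hχ
      dsimp only
      by_cases hl : R l0 l
      · simp only [if_pos hl]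
        rw [← hR0 l0 l hl χ hχ]
        split_ifs <;> ring
      · simp only [if_neg hl]
        have hal := hA l hl
        by_cases hχa : χ = a l1
        · have hχb : χ ≠ b l := by
            rw [hχa, ← hal]; exact hab l hl
          rw [if_pos hχa, if_neg hχb]
          have h3 := hwa l hl
          rw [hal, ← hχa] at h3
          linarith
        · by_cases hχb : χ = b l
          · rw [if_neg hχa, if_pos hχb]
            have h3 := hwb l hl
            rw [← hχb] at h3
            linarith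
          · rw [if_neg hχa, if_neg hχb]
            have h3 := hw0 l hl χ hχ (by rw [hal]; exact hχa) hχb
            linarith
  · -- then all `b k` agree
    have hB : ∀ k, ¬ R l0 k → b k = b l1 := by
      intro k' hk'
      by_contra hbk
      push Not at hA
      obtain ⟨k, hk, hak⟩ := hA
      have e1 : b l1 = b k := by
        rcases hpair l1 k h01 hk with h | h
        · exact absurd h.symm hak
        · exact h
      have e2 : a l1 = a k' := by
        rcases hpair l1 k' h01 hk' with h | h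
        · exact h
        · exact absurd h.symm hbk
      rcases hpair k k' hk hk' with h | h
      · exact hak (h.trans e2.symm)
      · exact hbk (h.symm.trans e1.symm)
    refine ⟨-1, fun χ => u l0 χ + (if χ = b l1 then 1 else 0),
      fun l => if R l0 l then b l1 else a l, Or.inr rfl, ?_, ?_⟩
    · intro l
      dsimp only
      by_cases hl : R l0 l
      · rw [if_pos hl]; exact hb l1 h01
      · rw [if_neg hl]; exact ha l hl
    · intro l χ hχ
      dsimp only
      by_cases hl : R l0 l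
      · simp only [if_pos hl]
        rw [← hR0 l0 l hl χ hχ]
        split_ifs <;> ring
      · simp only [if_neg hl]
        have hbl := hB l hl
        by_cases hχb : χ = b l1
        · have hχa : χ ≠ a l := by
            rw [hχb, ← hbl]; exact (hab l hl).symm
          rw [if_pos hχb, if_neg hχa]
          have h3 := hwb l hl
          rw [hbl, ← hχb] at h3
          linarith
        · by_cases hχa : χ = a l
          · rw [if_neg hχb, if_pos hχa]
            have h3 := hwa l hl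
            rw [← hχa] at h3
            linarith
          · rw [if_neg hχb, if_neg hχa]
            have h3 := hw0 l hl χ hχ hχa (by rw [hbl]; exact hχb)
            linarith

/-- **Coherence with a reference vector.**  In the situation of `excCoh_main`, if moreover a
vector `u0` satisfies `‖u l - u0‖² = m + 1` and `⟨u l - u l', u l - u0⟩ = 1`, then
`u l - u0 = δ e_{η l} - a` where `a` takes a constant value `d` on the `η l`, and
`(d - δ)² + ∑_{χ ≠ η l} a_χ² = m + 1`. -/
theorem excCoh_full {ι L : Type*} [DecidableEq ι] (T : Finset ι) (u : L → ι → ℤ) (u0 : ι → ℤ)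
    (deg : ι → ℤ) (m : ℤ) (hdeg : ∀ χ ∈ T, 0 < deg χ)
    (hdeg0 : ∀ l l' : L, ∑ χ ∈ T, (u l χ - u l' χ) * deg χ = 0)
    (R : L → L → Prop)
    (hR0 : ∀ l l', R l l' → ∀ χ ∈ T, u l χ = u l' χ)
    (h2 : ∀ l l', ¬ R l l' → ∑ χ ∈ T, (u l χ - u l' χ) ^ 2 = 2)
    (h1 : ∀ l l' l'', ¬ R l l' → ¬ R l l'' → ¬ R l' l'' →
      ∑ χ ∈ T, (u l χ - u l' χ) * (u l χ - u l'' χ) = 1)
    (h4 : ∀ l, ∑ χ ∈ T, (u l χ - u0 χ) ^ 2 = m + 1)
    (h5 : ∀ l l', ¬ R l l' → ∑ χ ∈ T, (u l χ - u l' χ) * (u l χ - u0 χ) = 1)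
    (l0 l1 : L) (h01 : ¬ R l0 l1) :
    ∃ (δ d : ℤ) (a : ι → ℤ) (η : L → ι), (δ = 1 ∨ δ = -1) ∧ (∀ l, η l ∈ T) ∧
      (∀ l l', η l = η l' ↔ R l l') ∧
      (∀ l, ∀ χ ∈ T, u l χ - u0 χ = (if χ = η l then δ else 0) - a χ) ∧
      (∀ l, a (η l) = d) ∧
      (∀ l, (d - δ) ^ 2 + ∑ χ ∈ T.erase (η l), a χ ^ 2 = m + 1) := by
  classical
  obtain ⟨δ, c, η, hδ, hηT, hu⟩ := excCoh_main T u deg hdeg hdeg0 R hR0 h2 h1 l0 l1 h01
  have hδ0 : δ ≠ 0 := by rcases hδ with h | h <;> rw [h] <;> norm_num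
  have hδ2 : δ * δ = 1 := by rcases hδ with h | h <;> rw [h] <;> norm_num
  have hηR : ∀ l l', η l = η l' ↔ R l l' := by
    intro l l'
    constructor
    · intro h
      by_contra hR
      have h3 := h2 l l' hR
      rw [Finset.sum_eq_zero] at h3
      · norm_num at h3
      · intro χ hχ
        rw [hu l χ hχ, hu l' χ hχ, h]
        ring
    · intro hR
      by_contra hne
      have h3 := hR0 l l' hR (η l) (hηT l)
      rw [hu l _ (hηT l), hu l' _ (hηT l), if_pos rfl, if_neg hne] at h3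
      apply hδ0
      linarith
  obtain ⟨a, ha⟩ : ∃ a : ι → ℤ, ∀ χ, a χ = u0 χ - c χ := ⟨_, fun _ => rfl⟩
  have hua : ∀ l, ∀ χ ∈ T, u l χ - u0 χ = (if χ = η l then δ else 0) - a χ := by
    intro l χ hχ
    rw [hu l χ hχ, ha]
    ring
  have hd : ∀ l l', a (η l) = a (η l') := by
    intro l l'
    by_cases hR : R l l'
    · rw [(hηR l l').mpr hR]
    · have hne : η l ≠ η l' := fun h => hR ((hηR l l').mp h)
      have h3 := h5 l l' hR
      have h6 : ∑ χ ∈ T, (u l χ - u l' χ) * (u l χ - u0 χ)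
          = δ * ∑ χ ∈ T, ((if χ = η l then (1 : ℤ) else 0) - (if χ = η l' then 1 else 0))
              * (u l χ - u0 χ) := by
        rw [Finset.mul_sum]
        refine Finset.sum_congr rfl fun χ hχ => ?_
        rw [hu l χ hχ, hu l' χ hχ]
        split_ifs <;> ring
      rw [h6, excCoh_sum_pair T
        (fun χ => (if χ = η l then (1 : ℤ) else 0) - (if χ = η l' then 1 else 0))
        (fun χ => u l χ - u0 χ) (η l) (η l') (hηT l) (hηT l') hne (by simp [hne])
        (by simp [hne.symm]) (by intro χ _ h1 h2; simp [h1, h2])] at h3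
      rw [hua l _ (hηT l), hua l _ (hηT l'), if_pos rfl, if_neg hne.symm] at h3
      have h7 : δ * (a (η l') - a (η l)) = 0 := by linarith [hδ2]
      rcases mul_eq_zero.mp h7 with h | h
      · exact absurd h hδ0
      · linarith
  refine ⟨δ, a (η l0), a, η, hδ, hηT, hηR, hua, fun l => hd l l0, ?_⟩
  intro l
  have h3 := h4 l
  rw [← Finset.add_sum_erase T _ (hηT l)] at h3
  rw [hua l _ (hηT l), if_pos rfl] at h3
  have h8 : ∑ χ ∈ T.erase (η l), (u l χ - u0 χ) ^ 2 = ∑ χ ∈ T.erase (η l), a χ ^ 2 := by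
    refine Finset.sum_congr rfl fun χ hχ => ?_
    rw [Finset.mem_erase] at hχ
    rw [hua l χ hχ.2, if_neg hχ.1]
    ring
  rw [h8, hd l l0] at h3
  rw [← h3]
  ring

end Cfsg.Agent.Helper82
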