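import Mathlib
import Cfsg.Agent.Helper43.C3ODefs
import Cfsg.Agent.Helper14.Forms

/-!
# CALL C3O, piece EW (helper82): a singular vector `e ≠ 0` and a nonsingular `w ⟂ e` in a
nondegenerate quadratic space of dimension at least 3 over a finite field of odd order
-/

set_option autoImplicit false

namespace Cfsg.Agent.Helper82

open Matrix Module Polynomial
open Cfsg.Agent.Helper43.C3O

universe u

section quad

variable {F : Type u} [Field F] [Fintype F] {ι : Type} [Fintype ι] [DecidableEq ι]

/-- PIECE EW -/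
theorem c3o_ew (h2 : (2 : F) ≠ 0) (Q : QuadraticForm F (ι → F))
    (hQ : (QuadraticMap.polarBilin Q).Nondegenerate) (hcard : 3 ≤ Fintype.card ι) :
    ∃ e w : ι → F, Q e = 0 ∧ e ≠ 0 ∧ Q w ≠ 0 ∧ QuadraticMap.polar ⇑Q e w = 0 := by
  classical
  obtain ⟨B, hB⟩ : ∃ B : LinearMap.BilinForm F (ι → F), B = QuadraticMap.polarBilin Q :=
    ⟨_, rfl⟩
  have hBa : ∀ a b : ι → F, B a b = QuadraticMap.polar ⇑Q a b := by
    intro a b; rw [hB]; rfl
  have hBn : B.Nondegenerate := by rw [hB]; exact hQ
  have hs : B.IsSymm := ⟨fun x y => by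
    rw [hBa, hBa]; exact QuadraticMap.polar_comm _ x y⟩
  have hfin : Module.finrank F (ι → F) = Fintype.card ι := Module.finrank_fintype_fun_eq_card F
  obtain ⟨e, he0, hee⟩ := Cfsg.Agent.Helper14.exists_isotropic_of_three_le h2 hBn hs
    (by rw [hfin]; exact hcard)
  have hQe : Q e = 0 := by
    have h1 : QuadraticMap.polar ⇑Q e e = 0 := by rw [← hBa]; exact hee
    rw [QuadraticMap.polar_self, two_smul, ← two_mul] at h1
    exact (mul_eq_zero.mp h1).resolve_left h2
  by_contra hcon
  have hall : ∀ w : ι → F, QuadraticMap.polar ⇑Q e w = 0 → Q w = 0 := by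
    intro w hw
    by_contra hQw
    exact hcon ⟨e, w, hQe, he0, hQw, hw⟩
  have hLmem : ∀ w : ι → F, w ∈ B.orthogonal (F ∙ e) ↔
      QuadraticMap.polar ⇑Q e w = 0 := by
    intro w
    rw [LinearMap.BilinForm.mem_orthogonal_iff]
    constructor
    · intro h
      have h5 := h e (Submodule.mem_span_singleton_self e)
      rw [← hBa]; exact h5
    · intro h n hn
      obtain ⟨a, rfl⟩ := Submodule.mem_span_singleton.mp hn
      show B (a • e) w = 0
      rw [map_smul, LinearMap.smul_apply, hBa, h, smul_zero]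
  have hLiso : ∀ x ∈ B.orthogonal (F ∙ e), ∀ y ∈ B.orthogonal (F ∙ e), B x y = 0 := by
    intro x hx y hy
    have hxy := Submodule.add_mem _ hx hy
    rw [hBa]
    unfold QuadraticMap.polar
    rw [hall _ ((hLmem _).mp hxy), hall _ ((hLmem _).mp hx), hall _ ((hLmem _).mp hy)]
    ring
  have h1 := Cfsg.Agent.Helper14.two_mul_finrank_le_of_isotropic hBn _ hLiso
  have h3 := LinearMap.BilinForm.finrank_orthogonal hBn (F ∙ e)
  have h4 : Module.finrank F (F ∙ e) = 1 := finrank_span_singleton he0
  omega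

end quad

end Cfsg.Agent.Helper82
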