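import Mathlib
import Cfsg.Agent.Helper43.C3ODefs
import Cfsg.Agent.Helper45.Spinor
import Cfsg.Agent.Helper82.C3OZADJ

/-!
# CALL C3O, piece FA (helper82): on `ker P(y)` the polynomial `R` with `J = R(y)` satisfies
`R(y⁻¹) = R(y)` (self-adjointness of `J`)
-/

set_option autoImplicit false

namespace Cfsg.Agent.Helper82

open Matrix Module Polynomial
open Cfsg.Agent.Helper43.C3O

universe u

theorem c3o_fa_aeval {F : Type*} [Field F] {ι : Type*} [Fintype ι] [DecidableEq ι]
    (M : Matrix ι ι F) (S : F[X]) (v : ι → F) :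
    (aeval M S).mulVec v = aeval (Matrix.toLin' M) S v := by
  have h := Polynomial.aeval_algHom_apply
    (Matrix.toLinAlgEquiv' : Matrix ι ι F ≃ₐ[F] ((ι → F) →ₗ[F] (ι → F))).toAlgHom M S
  have h2 : aeval (Matrix.toLin' M) S = Matrix.toLin' (aeval M S) := h
  rw [h2, Matrix.toLin'_apply]

section quad

variable {F : Type u} [Field F] [Fintype F] {ι : Type} [Fintype ι] [DecidableEq ι]

/-- PIECE FA -/
theorem c3o_fa {p : ℕ} [Fact p.Prime] [CharP F p] (Q : QuadraticForm F (ι → F))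
    (hQ : (QuadraticMap.polarBilin Q).Nondegenerate) (r : ℕ) (hr : r.Prime) (hrp : r ≠ p) (n : F)
    (J : Matrix ι ι F) (hJ : IsJ Q n J) (y : ↥(Cfsg.isometryGroup F ⇑Q)) (hy : orderOf y = r)
    (P : F[X]) (hP : Irreducible P) (hPc : P ∣ cyclotomic r F)
    (hdec : ∀ v : ι → F, ∃ v₀ w : ι → F, v = v₀ + w ∧ (gm y).mulVec v₀ = v₀ ∧
      aeval (Matrix.toLin' (gm y)) P w = 0)
    (R : F[X]) (hR : ∀ w : ι → F, aeval (Matrix.toLin' (gm y)) P w = 0 →
      J.mulVec w = (aeval (gm y) R).mulVec w) :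
    ∀ w : ι → F, aeval (Matrix.toLin' (gm y)) P w = 0 →
      (aeval (gm y⁻¹) R).mulVec w = (aeval (gm y) R).mulVec w := by
  classical
  obtain ⟨B, hB⟩ : ∃ B : LinearMap.BilinForm F (ι → F), B = QuadraticMap.polarBilin Q :=
    ⟨_, rfl⟩
  have hBa : ∀ a b : ι → F, B a b = QuadraticMap.polar ⇑Q a b := by
    intro a b; rw [hB]; rfl
  have hBn : B.Nondegenerate := by rw [hB]; exact hQ
  have hBsymm : ∀ a b : ι → F, B a b = B b a := by
    intro a b; rw [hBa, hBa]; exact QuadraticMap.polar_comm _ a b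
  have hpowlin : ∀ (M : Matrix ι ι F) (k : ℕ), (Matrix.toLin' M) ^ k = Matrix.toLin' (M ^ k) :=
    fun M k => (map_pow (Matrix.toLinAlgEquiv' : Matrix ι ι F ≃ₐ[F] _) M k).symm
  have hrpos : 0 < r := hr.pos
  have hyr : y ^ r = 1 := by rw [← hy]; exact pow_orderOf_eq_one y
  have hgmpow : ∀ k : ℕ, gm (y ^ k) = (gm y) ^ k := by
    intro k
    show (((y ^ k : ↥(Cfsg.isometryGroup F ⇑Q)) : GL ι F) : Matrix ι ι F) = _
    rw [Subgroup.coe_pow, Units.val_pow_eq_pow_val]
  have hinv : y ^ (r - 1) = y⁻¹ := by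
    apply eq_inv_of_mul_eq_one_left
    rw [← pow_succ, Nat.sub_add_cancel hrpos, hyr]
  obtain ⟨z, hzdef⟩ : ∃ z : (ι → F) →ₗ[F] (ι → F), z = Matrix.toLin' (gm y) := ⟨_, rfl⟩
  have hzap : ∀ v, z v = (gm y).mulVec v := by intro v; rw [hzdef, Matrix.toLin'_apply]
  have hz : z ^ r = 1 := by
    rw [hzdef, hpowlin, ← hgmpow, hyr]
    show Matrix.toLin' (1 : Matrix ι ι F) = 1
    rw [Matrix.toLin'_one]; rfl
  have hzinv : Matrix.toLin' (gm y⁻¹) = z ^ (r - 1) := by
    rw [hzdef, hpowlin, ← hgmpow, hinv]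
  have hiso : ∀ a b, B (z a) (z b) = B a b := by
    intro a b
    rw [hBa, hBa, hzap, hzap]
    exact Cfsg.Agent.Helper45.mv_polar Q y a b
  have hadj : ∀ (S : F[X]) (a b : ι → F), B (aeval z S a) b = B a (aeval (z ^ (r - 1)) S b) :=
    fun S a b => c3o_zadj B r hrpos z hz hiso S a b
  have hR' : ∀ w : ι → F, aeval z P w = 0 → J.mulVec w = aeval z R w := by
    intro w hw
    rw [hzdef] at hw ⊢
    rw [hR w hw, c3o_fa_aeval]
  have hcomp : aeval (z ^ (r - 1)) R = aeval z (R.comp (X ^ (r - 1))) := by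
    rw [aeval_comp, aeval_X_pow]
  have hWinv : ∀ (S : F[X]) (w : ι → F), aeval z P w = 0 → aeval z P (aeval z S w) = 0 := by
    intro S w hw
    have h1 : aeval z P (aeval z S w) = aeval z S (aeval z P w) := by
      rw [← Module.End.mul_apply, ← Module.End.mul_apply, ← aeval_mul, ← aeval_mul, mul_comm]
    rw [h1, hw, map_zero]
  have hrF : (r : F) ≠ 0 := by
    intro h0
    rw [CharP.cast_eq_zero_iff F p r] at h0
    exact hrp ((Nat.prime_dvd_prime_iff_eq (Fact.out : p.Prime) hr).mp h0).symm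
  intro w hw
  rw [← hzdef] at hw
  rw [c3o_fa_aeval, c3o_fa_aeval, hzinv, ← hzdef]
  obtain ⟨u, hu⟩ : ∃ u : ι → F, u = aeval z R w - aeval (z ^ (r - 1)) R w := ⟨_, rfl⟩
  have huW : aeval z P u = 0 := by
    rw [hu, map_sub, hcomp, hWinv R w hw, hWinv _ w hw, sub_zero]
  -- orthogonal to `ker P(z)`
  have hi : ∀ w' : ι → F, aeval z P w' = 0 → B u w' = 0 := by
    intro w' hw'
    rw [hu, map_sub, LinearMap.sub_apply]
    have h1 : B (aeval z R w) w' = B (aeval (z ^ (r - 1)) R w) w' := by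
      calc B (aeval z R w) w' = B (J.mulVec w) w' := by rw [hR' w hw]
        _ = B w (J.mulVec w') := by rw [hBa, hBa]; exact hJ.2 w w'
        _ = B w (aeval z R w') := by rw [hR' w' hw']
        _ = B (aeval z R w') w := hBsymm _ _
        _ = B w' (aeval (z ^ (r - 1)) R w) := hadj R w' w
        _ = B (aeval (z ^ (r - 1)) R w) w' := hBsymm _ _
    rw [h1, sub_self]
  -- orthogonal to the fixed vectors
  have hii : ∀ v₀ : ι → F, (gm y).mulVec v₀ = v₀ → B u v₀ = 0 := by
    intro v₀ hv₀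
    have hzv : z v₀ = v₀ := by rw [hzap, hv₀]
    have hzk : ∀ k : ℕ, (z ^ k) v₀ = v₀ := by
      intro k
      induction k with
      | zero => simp
      | succ k ih => rw [pow_succ, Module.End.mul_apply, hzv, ih]
    have hisok : ∀ (k : ℕ) (a b : ι → F), B ((z ^ k) a) ((z ^ k) b) = B a b := by
      intro k
      induction k with
      | zero => intro a b; simp
      | succ k ih =>
        intro a b
        rw [pow_succ', Module.End.mul_apply, Module.End.mul_apply, hiso, ih]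
    obtain ⟨T, hT⟩ := hPc
    have hcyc : aeval z (cyclotomic r F) u = 0 := by
      rw [hT, mul_comm, aeval_mul, Module.End.mul_apply, huW, map_zero]
    have : Fact r.Prime := ⟨hr⟩
    rw [Polynomial.cyclotomic_prime, map_sum, LinearMap.sum_apply] at hcyc
    have h2 : B (∑ i ∈ Finset.range r, aeval z (X ^ i : F[X]) u) v₀ = (r : F) * B u v₀ := by
      rw [map_sum, LinearMap.sum_apply]
      have h3 : ∀ i ∈ Finset.range r, B (aeval z (X ^ i : F[X]) u) v₀ = B u v₀ := by
        intro i _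
        rw [aeval_X_pow]
        conv_lhs => rw [← hzk i]
        exact hisok i u v₀
      rw [Finset.sum_congr rfl h3, Finset.sum_const, Finset.card_range, nsmul_eq_mul]
    rw [hcyc, map_zero, LinearMap.zero_apply] at h2
    exact (mul_eq_zero.mp h2.symm).resolve_left hrF
  have hu0 : u = 0 := by
    apply hBn.1
    intro t
    obtain ⟨v₀, w', rfl, hv₀, hw'⟩ := hdec t
    rw [← hzdef] at hw'
    rw [map_add, hii v₀ hv₀, hi w' hw', add_zero]
  rw [hu] at hu0
  exact (sub_eq_zero.mp hu0).symm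

end quad

end Cfsg.Agent.Helper82
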