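import Mathlib
import Cfsg.Agent.Helper43.C3ODefs
import Cfsg.Agent.Helper45.Spinor

/-!
# CALL C3O, piece NFRAME (helper82): an isometry `x` with `x² = -1` has an orthogonal family
`u_j` of nonsingular vectors whose planes `⟨u_j, x u_j⟩` are mutually orthogonal
-/

set_option autoImplicit false

namespace Cfsg.Agent.Helper82

open Matrix Module Polynomial
open Cfsg.Agent.Helper43.C3O

universe u

/-- The abstract core of NFRAME. -/
theorem c3o_nframe_core {F : Type*} [Field F] {V : Type*} [AddCommGroup V] [Module F V]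
    [FiniteDimensional F V] (h2 : (2 : F) ≠ 0) (Q : QuadraticForm F V)
    (hQ : (QuadraticMap.polarBilin Q).Nondegenerate) (x : V →ₗ[F] V)
    (hx2 : ∀ v, x (x v) = -v) (hxQ : ∀ v, Q (x v) = Q v) (k : ℕ)
    (hk : 2 * k ≤ Module.finrank F V) :
    ∃ u : Fin k → V, (∀ j, Q (u j) ≠ 0) ∧
      ∀ i j, i ≠ j → QuadraticMap.polar ⇑Q (u i) (u j) = 0 ∧
        QuadraticMap.polar ⇑Q (u i) (x (u j)) = 0 := by
  classical
  have hxB : ∀ a b : V, QuadraticMap.polar ⇑Q (x a) (x b) = QuadraticMap.polar ⇑Q a b := by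
    intro a b
    unfold QuadraticMap.polar
    rw [← map_add, hxQ, hxQ, hxQ]
  have hperp : ∀ a : V, QuadraticMap.polar ⇑Q a (x a) = 0 := by
    intro a
    have h1 : QuadraticMap.polar ⇑Q a (x a) = - QuadraticMap.polar ⇑Q a (x a) := by
      conv_lhs => rw [← hxB a (x a), hx2, QuadraticMap.polar_neg_right, QuadraticMap.polar_comm]
    have h3 : (2 : F) * QuadraticMap.polar ⇑Q a (x a) = 0 := by linear_combination h1
    exact (mul_eq_zero.mp h3).resolve_left h2
  have hself : ∀ a : V, QuadraticMap.polar ⇑Q a a = 2 * Q a := by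
    intro a
    rw [QuadraticMap.polar_self, two_smul, two_mul]
  induction k with
  | zero => exact ⟨Fin.elim0, fun j => j.elim0, fun i => i.elim0⟩
  | succ k ih =>
    obtain ⟨u, hu1, hu2⟩ := ih (by omega)
    have hBfa : ∀ a b : V, QuadraticMap.polarBilin Q a b = QuadraticMap.polar ⇑Q a b :=
      fun a b => rfl
    obtain ⟨proj, hproj⟩ : ∃ proj : V → V, ∀ v, proj v = ∑ j : Fin k,
        ((QuadraticMap.polar ⇑Q v (u j) / (2 * Q (u j))) • u j
          + (QuadraticMap.polar ⇑Q v (x (u j)) / (2 * Q (u j))) • x (u j)) :=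
      ⟨_, fun _ => rfl⟩
    have hQ2 : ∀ j, (2 : F) * Q (u j) ≠ 0 := fun j => mul_ne_zero h2 (hu1 j)
    have hprojB : ∀ v t : V, QuadraticMap.polar ⇑Q (proj v) t = ∑ j : Fin k,
        ((QuadraticMap.polar ⇑Q v (u j) / (2 * Q (u j))) * QuadraticMap.polar ⇑Q (u j) t
          + (QuadraticMap.polar ⇑Q v (x (u j)) / (2 * Q (u j)))
            * QuadraticMap.polar ⇑Q (x (u j)) t) := by
      intro v t
      rw [← hBfa, hproj, map_sum, LinearMap.sum_apply]
      refine Finset.sum_congr rfl (fun j _ => ?_)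
      rw [map_add, LinearMap.add_apply, map_smul, map_smul, LinearMap.smul_apply,
        LinearMap.smul_apply, smul_eq_mul, smul_eq_mul]
      rfl
    have hA1 : ∀ v i, QuadraticMap.polar ⇑Q (proj v) (u i) = QuadraticMap.polar ⇑Q v (u i) := by
      intro v i
      rw [hprojB, Finset.sum_eq_single i]
      · rw [hself, QuadraticMap.polar_comm (⇑Q) (x (u i)) (u i), hperp, mul_zero, add_zero]
        exact div_mul_cancel₀ _ (hQ2 i)
      · intro j _ hji
        rw [(hu2 j i hji).1, QuadraticMap.polar_comm (⇑Q) (x (u j)) (u i),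
          (hu2 i j (Ne.symm hji)).2, mul_zero, mul_zero, add_zero]
      · intro h; exact absurd (Finset.mem_univ i) h
    have hA2 : ∀ v i, QuadraticMap.polar ⇑Q (proj v) (x (u i))
        = QuadraticMap.polar ⇑Q v (x (u i)) := by
      intro v i
      rw [hprojB, Finset.sum_eq_single i]
      · rw [hperp, hxB, hself, mul_zero, zero_add]
        exact div_mul_cancel₀ _ (hQ2 i)
      · intro j _ hji
        rw [(hu2 j i hji).2, hxB, (hu2 j i hji).1, mul_zero, mul_zero, add_zero]
      · intro h; exact absurd (Finset.mem_univ i) h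
    have hWsub : ∀ v i, QuadraticMap.polar ⇑Q (v - proj v) (u i) = 0 ∧
        QuadraticMap.polar ⇑Q (v - proj v) (x (u i)) = 0 := by
      intro v i
      constructor
      · rw [QuadraticMap.polar_sub_left, hA1, sub_self]
      · rw [QuadraticMap.polar_sub_left, hA2, sub_self]
    have hWproj : ∀ z : V, (∀ i, QuadraticMap.polar ⇑Q z (u i) = 0 ∧
        QuadraticMap.polar ⇑Q z (x (u i)) = 0) →
        ∀ t, QuadraticMap.polar ⇑Q (proj t) z = 0 := by
      intro z hz t
      rw [hprojB]
      apply Finset.sum_eq_zero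
      intro j _
      rw [QuadraticMap.polar_comm (⇑Q) (u j) z, (hz j).1,
        QuadraticMap.polar_comm (⇑Q) (x (u j)) z, (hz j).2, mul_zero, mul_zero, add_zero]
    obtain ⟨v, hv⟩ : ∃ v, v - proj v ≠ 0 := by
      by_contra hcon
      rw [not_exists] at hcon
      have hspan : (⊤ : Submodule F V)
          ≤ Submodule.span F (Set.range (Sum.elim u (fun j => x (u j)))) := by
        intro v _
        have hv : v = proj v := sub_eq_zero.mp (not_not.mp (hcon v))
        rw [hv, hproj]
        apply Submodule.sum_mem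
        intro j _
        apply Submodule.add_mem
        · exact Submodule.smul_mem _ _ (Submodule.subset_span ⟨Sum.inl j, rfl⟩)
        · exact Submodule.smul_mem _ _ (Submodule.subset_span ⟨Sum.inr j, rfl⟩)
      have h1 := finrank_range_le_card (R := F) (Sum.elim u (fun j => x (u j)))
      have h3 := Submodule.finrank_mono hspan
      rw [finrank_top] at h3
      rw [Fintype.card_sum, Fintype.card_fin] at h1
      have h4 : Module.finrank F
          (Submodule.span F (Set.range (Sum.elim u (fun j => x (u j))))) ≤ k + k := h1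
      omega
    obtain ⟨z, hz, hzQ⟩ : ∃ z : V, (∀ i, QuadraticMap.polar ⇑Q z (u i) = 0 ∧
        QuadraticMap.polar ⇑Q z (x (u i)) = 0) ∧ Q z ≠ 0 := by
      by_contra hcon
      have hcon' : ∀ z : V, (∀ i, QuadraticMap.polar ⇑Q z (u i) = 0 ∧
          QuadraticMap.polar ⇑Q z (x (u i)) = 0) → Q z = 0 := by
        intro z hz
        by_contra hzQ
        exact hcon ⟨z, hz, hzQ⟩
      apply hv
      apply hQ.1
      intro t
      show QuadraticMap.polar ⇑Q (v - proj v) t = 0
      have ht : t = proj t + (t - proj t) := by abel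
      have hz0 := hWsub v
      have hz1 := hWsub t
      have hsum : ∀ i, QuadraticMap.polar ⇑Q ((v - proj v) + (t - proj t)) (u i) = 0 ∧
          QuadraticMap.polar ⇑Q ((v - proj v) + (t - proj t)) (x (u i)) = 0 := by
        intro i
        rw [QuadraticMap.polar_add_left, QuadraticMap.polar_add_left, (hz0 i).1, (hz0 i).2,
          (hz1 i).1, (hz1 i).2, add_zero]
        exact ⟨rfl, rfl⟩
      have e1 := hcon' _ hz0
      have e2 := hcon' _ hz1
      have e3 := hcon' _ hsum
      have e4 : QuadraticMap.polar ⇑Q (v - proj v) (t - proj t) = 0 := by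
        unfold QuadraticMap.polar
        rw [e3, e1, e2]; ring
      have e5 : QuadraticMap.polar ⇑Q (v - proj v) (proj t) = 0 := by
        rw [QuadraticMap.polar_comm]; exact hWproj _ hz0 t
      rw [ht, QuadraticMap.polar_add_right, e5, e4, add_zero]
    refine ⟨Fin.cons z u, ?_, ?_⟩
    · intro j
      rcases Fin.eq_zero_or_eq_succ j with rfl | ⟨j', rfl⟩
      · rw [Fin.cons_zero]; exact hzQ
      · rw [Fin.cons_succ]; exact hu1 j'
    · intro i j hij
      rcases Fin.eq_zero_or_eq_succ i with rfl | ⟨i', rfl⟩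
      · rcases Fin.eq_zero_or_eq_succ j with rfl | ⟨j', rfl⟩
        · exact absurd rfl hij
        · rw [Fin.cons_zero, Fin.cons_succ]; exact hz j'
      · rcases Fin.eq_zero_or_eq_succ j with rfl | ⟨j', rfl⟩
        · rw [Fin.cons_zero, Fin.cons_succ]
          constructor
          · rw [QuadraticMap.polar_comm]; exact (hz i').1
          · rw [← hxB, hx2, QuadraticMap.polar_neg_right, QuadraticMap.polar_comm, (hz i').2,
              neg_zero]
        · rw [Fin.cons_succ, Fin.cons_succ]
          exact hu2 i' j' (fun h => hij (by rw [h]))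

section quad

variable {F : Type u} [Field F] [Fintype F] {ι : Type} [Fintype ι] [DecidableEq ι]

/-- PIECE NFRAME -/
theorem c3o_nframe (h2 : (2 : F) ≠ 0) (Q : QuadraticForm F (ι → F))
    (hQ : (QuadraticMap.polarBilin Q).Nondegenerate) (d : ℕ) (hcard : Fintype.card ι = 2 * d)
    (g : ↥(Cfsg.isometryGroup F ⇑Q)) (hg : gm g * gm g = -1) :
    ∃ u : Fin d → ι → F, (∀ j, Q (u j) ≠ 0) ∧
      ∀ i j, i ≠ j → QuadraticMap.polar ⇑Q (u i) (u j) = 0 ∧
        QuadraticMap.polar ⇑Q (u i) ((gm g).mulVec (u j)) = 0 := by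
  have hx2 : ∀ v : ι → F, Matrix.toLin' (gm g) (Matrix.toLin' (gm g) v) = -v := by
    intro v
    rw [Matrix.toLin'_apply, Matrix.toLin'_apply, Matrix.mulVec_mulVec, hg, Matrix.neg_mulVec,
      Matrix.one_mulVec]
  have hxQ : ∀ v : ι → F, Q (Matrix.toLin' (gm g) v) = Q v := by
    intro v
    rw [Matrix.toLin'_apply]
    exact Cfsg.Agent.Helper45.mv_quad ⇑Q g v
  obtain ⟨u, hu1, hu2⟩ := c3o_nframe_core h2 Q hQ (Matrix.toLin' (gm g)) hx2 hxQ d
    (by rw [Module.finrank_fintype_fun_eq_card, hcard])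
  refine ⟨u, hu1, fun i j hij => ?_⟩
  have h := hu2 i j hij
  rw [Matrix.toLin'_apply] at h
  exact h

end quad

end Cfsg.Agent.Helper82
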