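import Cfsg.Agent.Helper81.KleinFour
import Cfsg.Agent.Helper81.AbelChar

/-!
# The normalizer of an abelian subgroup acting on its elements and its linear characters (helper82)

`excConj P n` is conjugation by `n ∈ N_G(P)` as an endomorphism of `P`, `excAct P n ψ` the
corresponding (left) action on the homomorphisms `P →* ℂˣ`.  Under the "Frobenius" hypothesis
`C_G(y) ∩ N_G(P) = C_G(P)` for `1 ≠ y ∈ P` the stabilizers of the nontrivial elements and of the
nontrivial linear characters of an abelian `P` are exactly `C_G(P)`.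
-/

set_option autoImplicit false

namespace Cfsg.Agent.Helper82

universe u

/-- The fibers of an orbit map are cosets of the stabilizer. -/
theorem excAct_card_fiber {H X : Type*} [Group H] [Fintype H] [DecidableEq X] (act : H → X → X)
    (hmul : ∀ h h' x, act (h * h') x = act h (act h' x)) (hone : ∀ x, act 1 x = x)
    (K : Subgroup H) (x : X) (hstab : ∀ h, act h x = x ↔ h ∈ K) (h0 : H) :
    (Finset.univ.filter (fun h : H => act h x = act h0 x)).card = Nat.card K := by
  classical
  have hiff : ∀ h : H, act h x = act h0 x ↔ h0⁻¹ * h ∈ K := by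
    intro h
    rw [← hstab, hmul]
    constructor
    · intro e
      rw [e, ← hmul, inv_mul_cancel, hone]
    · intro e
      have h1 := congrArg (act h0) e
      rw [← hmul, mul_inv_cancel, hone] at h1
      exact h1
  rw [← Fintype.card_subtype, ← Nat.card_eq_fintype_card]
  refine Nat.card_congr ⟨fun h => ⟨h0⁻¹ * h.1, (hiff h.1).mp h.2⟩,
    fun k => ⟨h0 * k.1, (hiff _).mpr (by rw [inv_mul_cancel_left]; exact k.2)⟩, ?_, ?_⟩
  · intro h
    apply Subtype.ext
    simp
  · intro k
    apply Subtype.ext
    simp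

/-- A sum over a group of a function of `h • x` is the order of the stabilizer times the sum over
the orbit. -/
theorem excAct_sum_orbit {H X : Type*} [Group H] [Fintype H] [DecidableEq X] (act : H → X → X)
    (hmul : ∀ h h' x, act (h * h') x = act h (act h' x)) (hone : ∀ x, act 1 x = x)
    (K : Subgroup H) (x : X) (hstab : ∀ h, act h x = x ↔ h ∈ K) (F : X → ℂ) :
    ∑ h : H, F (act h x)
      = (Nat.card K : ℂ) * ∑ x' ∈ Finset.univ.image (fun h : H => act h x), F x' := by
  classical
  rw [Finset.sum_comp F (fun h : H => act h x), Finset.mul_sum]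
  refine Finset.sum_congr rfl fun x' hx' => ?_
  obtain ⟨h0, -, rfl⟩ := Finset.mem_image.mp hx'
  rw [excAct_card_fiber act hmul hone K x hstab h0, nsmul_eq_mul]

variable {G : Type u} [Group G]

/-- Conjugation by an element of the normalizer, as an endomorphism of the subgroup. -/
def excConj (P : Subgroup G) (n : Subgroup.normalizer (P : Set G)) : P →* P where
  toFun w := ⟨(n : G) * (w : G) * (n : G)⁻¹, (Subgroup.mem_normalizer_iff.mp n.2 (w : G)).mp w.2⟩
  map_one' := by
    apply Subtype.ext
    simp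
  map_mul' := by
    intro a b
    apply Subtype.ext
    simp

theorem excConj_coe (P : Subgroup G) (n : Subgroup.normalizer (P : Set G)) (w : P) :
    ((excConj P n w : P) : G) = (n : G) * (w : G) * (n : G)⁻¹ := rfl

theorem excConj_mul (P : Subgroup G) (n k : Subgroup.normalizer (P : Set G)) (w : P) :
    excConj P (n * k) w = excConj P n (excConj P k w) := by
  apply Subtype.ext
  simp only [excConj_coe, Subgroup.coe_mul, mul_inv_rev, mul_assoc]

theorem excConj_one (P : Subgroup G) (w : P) : excConj P 1 w = w := by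
  apply Subtype.ext
  simp [excConj_coe]

/-- The action of the normalizer on the linear characters of the subgroup. -/
def excAct (P : Subgroup G) (n : Subgroup.normalizer (P : Set G)) (ψ : P →* ℂˣ) : P →* ℂˣ :=
  ψ.comp (excConj P n⁻¹)

theorem excAct_apply (P : Subgroup G) (n : Subgroup.normalizer (P : Set G)) (ψ : P →* ℂˣ)
    (w : P) : excAct P n ψ w = ψ (excConj P n⁻¹ w) := rfl

theorem excAct_mul (P : Subgroup G) (n k : Subgroup.normalizer (P : Set G)) (ψ : P →* ℂˣ) :
    excAct P (n * k) ψ = excAct P n (excAct P k ψ) := by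
  ext w
  simp only [excAct_apply]
  rw [mul_inv_rev, excConj_mul]

theorem excAct_one (P : Subgroup G) (ψ : P →* ℂˣ) : excAct P 1 ψ = ψ := by
  ext w
  simp only [excAct_apply, inv_one, excConj_one]

theorem excAct_hom_one (P : Subgroup G) (n : Subgroup.normalizer (P : Set G)) :
    excAct P n (1 : P →* ℂˣ) = 1 := rfl

theorem excAct_inv_cancel (P : Subgroup G) (n : Subgroup.normalizer (P : Set G)) (ψ : P →* ℂˣ) :
    excAct P n⁻¹ (excAct P n ψ) = ψ := by
  rw [← excAct_mul, inv_mul_cancel, excAct_one]

theorem excAct_cancel_inv (P : Subgroup G) (n : Subgroup.normalizer (P : Set G)) (ψ : P →* ℂˣ) :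
    excAct P n (excAct P n⁻¹ ψ) = ψ := by
  rw [← excAct_mul, mul_inv_cancel, excAct_one]

theorem excAct_eq_one_iff (P : Subgroup G) (n : Subgroup.normalizer (P : Set G)) (ψ : P →* ℂˣ) :
    excAct P n ψ = 1 ↔ ψ = 1 := by
  constructor
  · intro h
    have h1 := congrArg (excAct P n⁻¹) h
    rw [excAct_inv_cancel, excAct_hom_one] at h1
    exact h1
  · intro h
    rw [h, excAct_hom_one]

/-- `ψ ∘ (conjugation by n) = ψ'` iff `ψ = n • ψ'`. -/
theorem excAct_comp_eq_iff (P : Subgroup G) (n : Subgroup.normalizer (P : Set G))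
    (ψ ψ' : P →* ℂˣ) : ψ.comp (excConj P n) = ψ' ↔ excAct P n ψ' = ψ := by
  have h1 : ψ.comp (excConj P n) = excAct P n⁻¹ ψ := by
    unfold excAct
    rw [inv_inv]
  rw [h1]
  constructor
  · intro h
    rw [← h, excAct_cancel_inv]
  · intro h
    rw [← h, excAct_inv_cancel]

/-- The orbit relation on linear characters, in the form used in the statement. -/
theorem excAct_orbit_iff (P : Subgroup G) (ψ ψ' : P →* ℂˣ) :
    (∃ n : G, n ∈ Subgroup.normalizer (P : Set G) ∧
        ∀ w w' : P, (w' : G) = n * w * n⁻¹ → ψ' w' = ψ w)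
      ↔ ∃ n : Subgroup.normalizer (P : Set G), excAct P n ψ = ψ' := by
  constructor
  · rintro ⟨n, hn, h⟩
    refine ⟨⟨n, hn⟩, ?_⟩
    rw [← excAct_comp_eq_iff]
    ext w
    rw [MonoidHom.comp_apply, h w (excConj P ⟨n, hn⟩ w) rfl]
  · rintro ⟨n, h⟩
    refine ⟨n, n.2, ?_⟩
    intro w w' hw
    have h1 := (excAct_comp_eq_iff P n ψ' ψ).mpr h
    have h2 : excConj P n w = w' := Subtype.ext hw.symm
    rw [← h1, MonoidHom.comp_apply, h2]

/-- The stabilizer of a nontrivial element. -/
theorem excConj_eq_self_iff (P : Subgroup G)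
    (hfrob : ∀ y : G, y ∈ P → y ≠ 1 → Subgroup.centralizer ({y} : Set G)
      ⊓ Subgroup.normalizer (P : Set G) = Subgroup.centralizer (P : Set G))
    (n : Subgroup.normalizer (P : Set G)) (y : P) (hy : y ≠ 1) :
    excConj P n y = y ↔ (n : G) ∈ Subgroup.centralizer (P : Set G) := by
  have hy1 : (y : G) ≠ 1 := fun h => hy (Subtype.ext h)
  constructor
  · intro h
    have h1 : (n : G) * (y : G) * (n : G)⁻¹ = (y : G) := congrArg Subtype.val h
    rw [← hfrob y y.2 hy1, Subgroup.mem_inf]
    refine ⟨?_, n.2⟩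
    rw [Subgroup.mem_centralizer_iff]
    intro s hs
    rw [Set.mem_singleton_iff] at hs
    rw [hs]
    nth_rewrite 1 [← h1]
    group
  · intro h
    apply Subtype.ext
    have h2 := Subgroup.mem_centralizer_iff.mp h (y : G) y.2
    rw [excConj_coe, ← h2, mul_inv_cancel_right]

/-- The stabilizer of a nontrivial linear character. -/
theorem excAct_eq_self_iff (P : Subgroup G) [Finite P]
    (hfrob : ∀ y : G, y ∈ P → y ≠ 1 → Subgroup.centralizer ({y} : Set G)
      ⊓ Subgroup.normalizer (P : Set G) = Subgroup.centralizer (P : Set G))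
    (n : Subgroup.normalizer (P : Set G)) (ψ : P →* ℂˣ) (hψ : ψ ≠ 1) :
    excAct P n ψ = ψ ↔ (n : G) ∈ Subgroup.centralizer (P : Set G) := by
  constructor
  · intro h
    by_contra hn
    apply hψ
    have hinj : Function.Injective (fun w : P => excConj P n⁻¹ w * w⁻¹) := by
      intro w w' hww
      by_contra hne
      have h4 : w'⁻¹ * w ≠ 1 := fun e => hne (inv_mul_eq_one.mp e).symm
      have h3 : excConj P n⁻¹ (w'⁻¹ * w) = w'⁻¹ * w := by
        have hww' : excConj P n⁻¹ w * w⁻¹ = excConj P n⁻¹ w' * w'⁻¹ := hww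
        rw [map_mul, map_inv]
        have e1 : excConj P n⁻¹ w = excConj P n⁻¹ w' * w'⁻¹ * w := by
          rw [← hww', inv_mul_cancel_right]
        rw [e1, mul_assoc, inv_mul_cancel_left]
      have h5 := (excConj_eq_self_iff P hfrob n⁻¹ _ h4).mp h3
      apply hn
      have h6 := (Subgroup.centralizer (P : Set G)).inv_mem h5
      rw [Subgroup.coe_inv, inv_inv] at h6
      exact h6
    have hsurj : Function.Surjective (fun w : P => excConj P n⁻¹ w * w⁻¹) :=
      Finite.surjective_of_injective hinj
    ext w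
    obtain ⟨w0, rfl⟩ := hsurj w
    have h7 : excAct P n ψ w0 = ψ w0 := by rw [h]
    rw [excAct_apply] at h7
    show ((ψ (excConj P n⁻¹ w0 * w0⁻¹) : ℂˣ) : ℂ) = ((1 : ℂˣ) : ℂ)
    rw [map_mul, h7, map_inv, mul_inv_cancel]
  · intro h
    ext w
    have h1 : excConj P n⁻¹ w = w := by
      apply Subtype.ext
      have h2 := Subgroup.mem_centralizer_iff.mp h (w : G) w.2
      rw [excConj_coe, Subgroup.coe_inv, inv_inv]
      rw [mul_assoc, h2, inv_mul_cancel_left]
    rw [excAct_apply, h1]

/-- The number of elements of the normalizer carrying a nontrivial element `y` to a given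
conjugate. -/
theorem excConj_card_fiber (P : Subgroup G)
    (hfrob : ∀ y : G, y ∈ P → y ≠ 1 → Subgroup.centralizer ({y} : Set G)
      ⊓ Subgroup.normalizer (P : Set G) = Subgroup.centralizer (P : Set G))
    [Fintype (Subgroup.normalizer (P : Set G))] [DecidableEq P] (y : P) (hy : y ≠ 1)
    (n0 : Subgroup.normalizer (P : Set G)) :
    (Finset.univ.filter (fun n : Subgroup.normalizer (P : Set G) =>
        excConj P n y = excConj P n0 y)).card
      = Nat.card ((Subgroup.centralizer (P : Set G)).subgroupOf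
          (Subgroup.normalizer (P : Set G))) :=
  excAct_card_fiber (fun n w => excConj P n w) (fun n k w => excConj_mul P n k w)
    (fun w => excConj_one P w) _ y
    (fun n => by rw [excConj_eq_self_iff P hfrob n y hy, Subgroup.mem_subgroupOf]) n0

/-- The number of elements of the normalizer carrying a nontrivial linear character to a given
conjugate. -/
theorem excAct_card_fiber' (P : Subgroup G) [Finite P]
    (hfrob : ∀ y : G, y ∈ P → y ≠ 1 → Subgroup.centralizer ({y} : Set G)
      ⊓ Subgroup.normalizer (P : Set G) = Subgroup.centralizer (P : Set G))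
    [Fintype (Subgroup.normalizer (P : Set G))] [DecidableEq (P →* ℂˣ)] (ψ : P →* ℂˣ)
    (hψ : ψ ≠ 1) (n0 : Subgroup.normalizer (P : Set G)) :
    (Finset.univ.filter (fun n : Subgroup.normalizer (P : Set G) =>
        excAct P n ψ = excAct P n0 ψ)).card
      = Nat.card ((Subgroup.centralizer (P : Set G)).subgroupOf
          (Subgroup.normalizer (P : Set G))) :=
  excAct_card_fiber (fun n ψ => excAct P n ψ) (fun n k ψ => excAct_mul P n k ψ)
    (fun ψ => excAct_one P ψ) _ ψ
    (fun n => by rw [excAct_eq_self_iff P hfrob n ψ hψ, Subgroup.mem_subgroupOf]) n0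

/-- A sum over the normalizer of a function of the conjugates of a nontrivial linear character. -/
theorem excAct_sum_orbit' (P : Subgroup G) [Finite P]
    (hfrob : ∀ y : G, y ∈ P → y ≠ 1 → Subgroup.centralizer ({y} : Set G)
      ⊓ Subgroup.normalizer (P : Set G) = Subgroup.centralizer (P : Set G))
    [Fintype (Subgroup.normalizer (P : Set G))] [DecidableEq (P →* ℂˣ)] (ψ : P →* ℂˣ)
    (hψ : ψ ≠ 1) (F : (P →* ℂˣ) → ℂ) :
    ∑ n : Subgroup.normalizer (P : Set G), F (excAct P n ψ)
      = (Nat.card ((Subgroup.centralizer (P : Set G)).subgroupOf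
          (Subgroup.normalizer (P : Set G))) : ℂ)
        * ∑ ψ' ∈ Finset.univ.image (fun n : Subgroup.normalizer (P : Set G) => excAct P n ψ),
            F ψ' :=
  excAct_sum_orbit (fun n ψ => excAct P n ψ) (fun n k ψ => excAct_mul P n k ψ)
    (fun ψ => excAct_one P ψ) _ ψ
    (fun n => by rw [excAct_eq_self_iff P hfrob n ψ hψ, Subgroup.mem_subgroupOf]) F

/-- Fusion in an abelian Sylow subgroup is controlled by its normalizer. -/
theorem excConj_fusion [Finite G] {p : ℕ} [Fact p.Prime] (P : Sylow p G)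
    (hab : IsMulCommutative P) (y y' : (P : Subgroup G)) (h : IsConj (y : G) (y' : G)) :
    ∃ n : Subgroup.normalizer ((P : Subgroup G) : Set G), excConj (P : Subgroup G) n y = y' := by
  obtain ⟨g, hg⟩ := isConj_iff.mp h
  have h1 : g⁻¹⁻¹ * (y : G) * g⁻¹ ∈ P := by
    rw [inv_inv, hg]
    exact y'.2
  obtain ⟨n, hn, hn'⟩ := Sylow.conj_eq_normalizer_conj_of_mem P (y : G) g⁻¹ y.2 h1
  refine ⟨⟨n⁻¹, (Subgroup.normalizer _).inv_mem hn⟩, ?_⟩
  apply Subtype.ext
  rw [excConj_coe]
  show n⁻¹ * (y : G) * n⁻¹⁻¹ = y'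
  rw [inv_inv, ← hn', inv_inv, hg]

end Cfsg.Agent.Helper82
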