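import Cfsg.Agent.Helper82.KleinRank
import Cfsg.Agent.Helper81.SectionCount
import Cfsg.Agent.Helper16.BlockOrth
import Cfsg.Agent.Helper77.BlockIdem

/-!
# The principal block of a group with an abelian Sylow subgroup acted on freely (helper82)

Let `P` be an abelian Sylow `p`-subgroup of `G` with `C_G(y) ∩ N_G(P) = C_G(P)` for `1 ≠ y ∈ P`.
Then `C_G(y)` has a normal `p`-complement for such `y`, the characters of the principal block are
constant on `p`-sections of such `y`, do not vanish at `y`, and satisfy the "column orthogonality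
relations" `∑_{ζ ∈ B₀} ζ(y) conj ζ(y') = |P| or 0`.
-/

set_option autoImplicit false
open Cfsg
open scoped ComplexConjugate

namespace Cfsg.Agent.Helper82

universe u

variable {G : Type u} [Group G] [Fintype G]

omit [Fintype G] in
/-- The elements of a Sylow `p`-subgroup have `p`-power order. -/
theorem excBlock_orderOf {p : ℕ} [Fact p.Prime] (P : Sylow p G) (y : G)
    (hy : y ∈ (P : Subgroup G)) : ∃ k : ℕ, orderOf y = p ^ k := by
  have hp : p.Prime := Fact.out
  obtain ⟨k, hk⟩ := P.isPGroup' ⟨y, hy⟩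
  have h1 : y ^ p ^ k = 1 := congrArg Subtype.val hk
  obtain ⟨j, -, hj⟩ := (Nat.dvd_prime_pow hp).mp (orderOf_dvd_of_pow_eq_one h1)
  exact ⟨j, hj⟩

omit [Fintype G] in
/-- A `p`-element is its own `p`-part. -/
theorem excBlock_isPPart_self {p : ℕ} [Fact p.Prime] (y : G) (hy : ∃ k : ℕ, orderOf y = p ^ k) :
    Cfsg.IsPPart p y y := by
  have hp : p.Prime := Fact.out
  refine ⟨1, mul_one y, Commute.one_right y, hy, ?_⟩
  rw [orderOf_one]
  exact hp.one_lt.ne' ∘ Nat.dvd_one.mp

omit [Fintype G] in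
/-- An abelian Sylow subgroup centralizes its elements. -/
theorem excBlock_le_centralizer {p : ℕ} [Fact p.Prime] (P : Sylow p G)
    (hab : IsMulCommutative P) (y : G) (hy : y ∈ (P : Subgroup G)) :
    (P : Subgroup G) ≤ Subgroup.centralizer ({y} : Set G) := by
  intro x hx
  rw [Subgroup.mem_centralizer_iff]
  intro s hs
  rw [Set.mem_singleton_iff] at hs
  rw [hs]
  exact congrArg Subtype.val (hab.is_comm.comm ⟨y, hy⟩ ⟨x, hx⟩)

/-- The centralizer of a nontrivial element of `P` has a normal `p`-complement. -/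
theorem excBlock_pPrimeCore {p : ℕ} [Fact p.Prime] (P : Sylow p G) (hab : IsMulCommutative P)
    (hfrob : ∀ y : G, y ∈ (P : Subgroup G) → y ≠ 1 → Subgroup.centralizer ({y} : Set G)
      ⊓ Subgroup.normalizer ((P : Subgroup G) : Set G)
        = Subgroup.centralizer ((P : Subgroup G) : Set G))
    (y : G) (hy : y ∈ (P : Subgroup G)) (hy1 : y ≠ 1) :
    ∃ k : ℕ, (Cfsg.pPrimeCore p (Subgroup.centralizer ({y} : Set G))).index = p ^ k := by
  have hPH := excBlock_le_centralizer P hab y hy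
  apply Helper81.exists_index_pPrimeCore_of_normalizer_le (P.subtype hPH)
  intro h hh
  rw [Sylow.coe_subtype, Subgroup.mem_normalizer_iff] at hh
  have h1 : (h : G) ∈ Subgroup.normalizer ((P : Subgroup G) : Set G) := by
    rw [Subgroup.mem_normalizer_iff]
    intro x
    constructor
    · intro hx
      have h2 := (hh ⟨x, hPH hx⟩).mp (by rw [Subgroup.mem_subgroupOf]; exact hx)
      rw [Subgroup.mem_subgroupOf] at h2
      exact h2
    · intro hx
      have hxH : x ∈ Subgroup.centralizer ({y} : Set G) := by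
        have h3 := hPH hx
        have h4 : x = (h : G)⁻¹ * ((h : G) * x * (h : G)⁻¹) * (h : G) := by group
        rw [h4]
        exact Subgroup.mul_mem _ (Subgroup.mul_mem _ (Subgroup.inv_mem _ h.2) h3) h.2
      have h2 := (hh ⟨x, hxH⟩).mpr (by rw [Subgroup.mem_subgroupOf]; exact hx)
      rw [Subgroup.mem_subgroupOf] at h2
      exact h2
  have h2 : (h : G) ∈ Subgroup.centralizer ((P : Subgroup G) : Set G) := by
    rw [← hfrob y hy hy1, Subgroup.mem_inf]
    exact ⟨h.2, h1⟩
  rw [Subgroup.mem_centralizer_iff]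
  intro q hq
  have hq' : (q : G) ∈ (P : Subgroup G) := by
    have h3 : q ∈ (P : Subgroup G).subgroupOf (Subgroup.centralizer ({y} : Set G)) := hq
    rw [Subgroup.mem_subgroupOf] at h3
    exact h3
  apply Subtype.ext
  exact Subgroup.mem_centralizer_iff.mp h2 (q : G) hq'

/-- The characters of the principal block are constant on the `p`-sections of the nontrivial
elements of `P`. -/
theorem excBlock_const {p : ℕ} [Fact p.Prime] {M : Ideal Cfsg.AlgInt}
    (hM : Cfsg.IsPModular p M) (P : Sylow p G) (hab : IsMulCommutative P)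
    (hfrob : ∀ y : G, y ∈ (P : Subgroup G) → y ≠ 1 → Subgroup.centralizer ({y} : Set G)
      ⊓ Subgroup.normalizer ((P : Subgroup G) : Set G)
        = Subgroup.centralizer ((P : Subgroup G) : Set G))
    (ζ : Cfsg.IrrCharacter G) (hζ : ζ ∈ Cfsg.principalBlock M G) (z y : G)
    (hz : Cfsg.IsPPart p z y) (hy : y ∈ (P : Subgroup G)) (hy1 : y ≠ 1) :
    (ζ : G → ℂ) z = (ζ : G → ℂ) y := by
  obtain ⟨w, hw, hcomm, hord, hreg⟩ := hz
  have : Fintype (Subgroup.centralizer ({y} : Set G)) := Fintype.ofFinite _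
  have hwH : w ∈ Subgroup.centralizer ({y} : Set G) := by
    rw [Subgroup.mem_centralizer_iff]
    intro s hs
    rw [Set.mem_singleton_iff] at hs
    rw [hs]
    exact hcomm.eq
  have hreg' : ¬ p ∣ orderOf (⟨w, hwH⟩ : Subgroup.centralizer ({y} : Set G)) := by
    rw [← Subgroup.orderOf_coe]
    exact hreg
  have h1 := principalBlock_section_const hM y hord (excBlock_pPrimeCore P hab hfrob y hy hy1)
    ⟨w, hwH⟩ hreg' ζ hζ
  rw [← hw]
  exact h1

/-- `∑_{ζ ∈ B₀} |ζ(y)|² = |P|` for `1 ≠ y ∈ P`. -/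
theorem excBlock_sum_self {p : ℕ} [Fact p.Prime] {M : Ideal Cfsg.AlgInt}
    (hM : Cfsg.IsPModular p M) (P : Sylow p G) (hab : IsMulCommutative P)
    (hfrob : ∀ y : G, y ∈ (P : Subgroup G) → y ≠ 1 → Subgroup.centralizer ({y} : Set G)
      ⊓ Subgroup.normalizer ((P : Subgroup G) : Set G)
        = Subgroup.centralizer ((P : Subgroup G) : Set G))
    (y : G) (hy : y ∈ (P : Subgroup G)) (hy1 : y ≠ 1) :
    ∑ᶠ ζ ∈ Cfsg.principalBlock M G, (ζ : G → ℂ) y * conj ((ζ : G → ℂ) y)
      = (Nat.card (P : Subgroup G) : ℂ) := by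
  have hp : p.Prime := Fact.out
  have : Fintype (Subgroup.centralizer ({y} : Set G)) := Fintype.ofFinite _
  have hPH := excBlock_le_centralizer P hab y hy
  have hK := excBlock_pPrimeCore P hab hfrob y hy hy1
  have hreg1 : ¬ p ∣ orderOf (1 : Subgroup.centralizer ({y} : Set G)) := by
    rw [orderOf_one]
    exact hp.one_lt.ne' ∘ Nat.dvd_one.mp
  have key := Helper81.sum_principalBlock_section hM y (excBlock_orderOf P y hy)
    (1 : Subgroup.centralizer ({y} : Set G)) 1 hreg1 hreg1
  simp only [Subgroup.coe_one, mul_one] at key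
  rw [Helper81.sum_principalBlock_of_normal_pComplement hM hK
    (1 : Subgroup.centralizer ({y} : Set G)) hreg1] at key
  rw [key]
  have h1 := Sylow.card_eq_multiplicity (P.subtype hPH)
  have h2 : Nat.card (((P.subtype hPH : Sylow p (Subgroup.centralizer ({y} : Set G))) :
      Subgroup (Subgroup.centralizer ({y} : Set G)))) = Nat.card (P : Subgroup G) := by
    rw [Sylow.coe_subtype, Nat.card_congr (Subgroup.subgroupOfEquivOfLe hPH).toEquiv]
  have h3 : p ^ (Nat.card (Subgroup.centralizer ({y} : Set G))).factorization p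
      = Nat.card (P : Subgroup G) := h1.symm.trans h2
  rw [h3]

/-- `∑_{ζ ∈ B₀} ζ(y) conj ζ(y') = 0` for non-conjugate `y, y' ∈ P`. -/
theorem excBlock_sum_nonconj {p : ℕ} [Fact p.Prime] {M : Ideal Cfsg.AlgInt}
    (hM : Cfsg.IsPModular p M) (P : Sylow p G) (y y' : G) (hy : y ∈ (P : Subgroup G))
    (hy' : y' ∈ (P : Subgroup G)) (hc : ¬ IsConj y y') :
    ∑ᶠ ζ ∈ Cfsg.principalBlock M G, (ζ : G → ℂ) y * conj ((ζ : G → ℂ) y') = 0 :=
  Helper16.block_orthogonality hM ⟨Helper81.trivIrr G, rfl⟩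
    (excBlock_isPPart_self y (excBlock_orderOf P y hy))
    (excBlock_isPPart_self y' (excBlock_orderOf P y' hy')) hc

/-- `∑_{ζ ∈ B₀} ζ(g) conj ζ(y) = 0` for `g` of order prime to `p` and `1 ≠ y ∈ P`. -/
theorem excBlock_sum_preg {p : ℕ} [Fact p.Prime] {M : Ideal Cfsg.AlgInt}
    (hM : Cfsg.IsPModular p M) (P : Sylow p G) (g y : G) (hg : ¬ p ∣ orderOf g)
    (hy : y ∈ (P : Subgroup G)) (hy1 : y ≠ 1) :
    ∑ᶠ ζ ∈ Cfsg.principalBlock M G, (ζ : G → ℂ) g * conj ((ζ : G → ℂ) y) = 0 := by
  apply Helper77.weak_block_orthogonality hM ⟨Helper81.trivIrr G, rfl⟩ hg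
  obtain ⟨k, hk⟩ := excBlock_orderOf P y hy
  rw [hk]
  apply dvd_pow_self
  intro hk0
  rw [hk0, pow_zero, orderOf_eq_one_iff] at hk
  exact hy1 hk

/-- The characters of the principal block do not vanish on an abelian Sylow `p`-subgroup. -/
theorem excBlock_ne_zero {p : ℕ} [Fact p.Prime] {M : Ideal Cfsg.AlgInt}
    (hM : Cfsg.IsPModular p M) (P : Sylow p G) (hab : IsMulCommutative P)
    (ζ : Cfsg.IrrCharacter G) (hζ : ζ ∈ Cfsg.principalBlock M G) (y : G)
    (hy : y ∈ (P : Subgroup G)) : (ζ : G → ℂ) y ≠ 0 := by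
  intro h0
  have hPH := excBlock_le_centralizer P hab y hy
  have h1 : Cfsg.MemLocalIdeal M
      (Cfsg.centralChar (fun _ : G => (1 : ℂ)) y - Cfsg.centralChar (ζ : G → ℂ) y) := hζ y
  have h2 : Cfsg.centralChar (fun _ : G => (1 : ℂ)) y - Cfsg.centralChar (ζ : G → ℂ) y
      = (((Subgroup.centralizer ({y} : Set G)).index : ℕ) : ℂ) := by
    unfold Cfsg.centralChar
    rw [h0]
    simp
  rw [h2] at h1
  apply Helper81.not_memLocalIdeal_natCast hM _ h1
  intro hdvd
  exact P.not_dvd_index (hdvd.trans (Subgroup.index_dvd_of_le hPH))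

end Cfsg.Agent.Helper82
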