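import Mathlib.Analysis.Complex.Basic
import Mathlib.Algebra.BigOperators.Group.Finset.Basic
import Mathlib.Data.Fintype.BigOperators
import Mathlib.Tactic

/-!
# Gram relations for the multiplicities of linear characters (helper82)

An abstract form of the computation behind Brauer's exceptional characters: a family `v χ`
(`χ ∈ T`) of functions on a finite abelian group `A` satisfying "column orthogonality relations"
governed by a family `c h` of endomorphisms of `A` (and the linear characters of `A` are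
orthonormal: hypothesis `horth`); the inner products of the differences of the
multiplicity vectors of the linear characters of `A` are then given by counting.
-/

set_option autoImplicit false
open scoped ComplexConjugate

namespace Cfsg.Agent.Helper82

theorem excGram_main {A : Type*} [Group A] [Fintype A] [DecidableEq A]
    [DecidableEq (A →* ℂˣ)]
    (horth : ∀ lam mu : A →* ℂˣ, ∑ y : A, conj ((lam y : ℂˣ) : ℂ) * ((mu y : ℂˣ) : ℂ)
      = if lam = mu then (Fintype.card A : ℂ) else 0)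
    {ι : Type*} (T : Finset ι) (v : ι → A → ℂ)
    (mult : ι → (A →* ℂˣ) → ℤ)
    (hmult : ∀ χ ∈ T, ∀ ψ : A →* ℂˣ,
      ∑ y : A, v χ y * conj ((ψ y : ℂˣ) : ℂ) = (Fintype.card A : ℂ) * mult χ ψ)
    {H : Type*} [Fintype H] (c : H → A →* A) (cK : ℕ)
    (hΘ : ∀ y y' : A, y ≠ 1 → y' ≠ 1 → (cK : ℂ) * ∑ χ ∈ T, v χ y * conj (v χ y')
      = (Fintype.card A : ℂ) * ((Finset.univ.filter (fun h : H => c h y = y')).card : ℂ))
    (ψ1 ψ2 ψ3 ψ4 : A →* ℂˣ) :
    (cK : ℤ) * ∑ χ ∈ T, (mult χ ψ1 - mult χ ψ2) * (mult χ ψ3 - mult χ ψ4)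
      = ((Finset.univ.filter (fun h : H => ψ3.comp (c h) = ψ1)).card : ℤ)
        - (Finset.univ.filter (fun h : H => ψ4.comp (c h) = ψ1)).card
        - (Finset.univ.filter (fun h : H => ψ3.comp (c h) = ψ2)).card
        + (Finset.univ.filter (fun h : H => ψ4.comp (c h) = ψ2)).card := by
  classical
  obtain ⟨n, hnn⟩ : ∃ n : ℂ, n = (Fintype.card A : ℂ) := ⟨_, rfl⟩
  have hn : n ≠ 0 := by rw [hnn]; exact_mod_cast Fintype.card_ne_zero
  have hnc : conj n = n := by rw [hnn, map_natCast]
  simp only [← hnn] at hmult hΘ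
  obtain ⟨f, hf⟩ : ∃ f : A → ℂ, ∀ y, f y = ((ψ1 y : ℂˣ) : ℂ) - ((ψ2 y : ℂˣ) : ℂ) :=
    ⟨_, fun _ => rfl⟩
  obtain ⟨f', hf'⟩ : ∃ f' : A → ℂ, ∀ y, f' y = ((ψ3 y : ℂˣ) : ℂ) - ((ψ4 y : ℂˣ) : ℂ) :=
    ⟨_, fun _ => rfl⟩
  have hf1 : f 1 = 0 := by rw [hf]; simp
  have hf'1 : f' 1 = 0 := by rw [hf']; simp
  have ha : ∀ χ ∈ T, ∑ y : A, v χ y * conj (f y) = n * ((mult χ ψ1 : ℂ) - mult χ ψ2) := by
    intro χ hχ
    simp only [hf, map_sub, mul_sub, Finset.sum_sub_distrib]
    rw [hmult χ hχ ψ1, hmult χ hχ ψ2]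
  have hb : ∀ χ ∈ T, ∑ y : A, conj (v χ y) * f' y = n * ((mult χ ψ3 : ℂ) - mult χ ψ4) := by
    intro χ hχ
    have h3 := congrArg conj (hmult χ hχ ψ3)
    have h4 := congrArg conj (hmult χ hχ ψ4)
    rw [map_sum, map_mul, map_intCast, hnc] at h3 h4
    simp only [map_mul, Complex.conj_conj] at h3 h4
    simp only [hf', mul_sub, Finset.sum_sub_distrib]
    rw [h3, h4]
  -- the double sum
  have hc : (cK : ℂ) * ∑ χ ∈ T, (∑ y : A, v χ y * conj (f y)) * (∑ y' : A, conj (v χ y') * f' y')
      = n * ∑ h : H, ∑ y : A, conj (f y) * f' (c h y) := by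
    have h1 : (cK : ℂ) * ∑ χ ∈ T,
          (∑ y : A, v χ y * conj (f y)) * (∑ y' : A, conj (v χ y') * f' y')
        = ∑ y : A, ∑ y' : A,
            conj (f y) * f' y' * ((cK : ℂ) * ∑ χ ∈ T, v χ y * conj (v χ y')) := by
      calc (cK : ℂ) * ∑ χ ∈ T,
              (∑ y : A, v χ y * conj (f y)) * (∑ y' : A, conj (v χ y') * f' y')
          = ∑ χ ∈ T, ∑ y : A, ∑ y' : A,
              (cK : ℂ) * ((v χ y * conj (f y)) * (conj (v χ y') * f' y')) := by
            rw [Finset.mul_sum]
            refine Finset.sum_congr rfl fun χ _ => ?_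
            rw [Finset.sum_mul_sum, Finset.mul_sum]
            refine Finset.sum_congr rfl fun y _ => ?_
            rw [Finset.mul_sum]
        _ = ∑ y : A, ∑ y' : A, ∑ χ ∈ T,
              (cK : ℂ) * ((v χ y * conj (f y)) * (conj (v χ y') * f' y')) := by
            rw [Finset.sum_comm]
            refine Finset.sum_congr rfl fun y _ => ?_
            rw [Finset.sum_comm]
        _ = ∑ y : A, ∑ y' : A,
              conj (f y) * f' y' * ((cK : ℂ) * ∑ χ ∈ T, v χ y * conj (v χ y')) := by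
            refine Finset.sum_congr rfl fun y _ => ?_
            refine Finset.sum_congr rfl fun y' _ => ?_
            rw [Finset.mul_sum, Finset.mul_sum]
            refine Finset.sum_congr rfl fun χ _ => ?_
            ring
    rw [h1]
    have h2 : ∀ y y' : A, conj (f y) * f' y' * ((cK : ℂ) * ∑ χ ∈ T, v χ y * conj (v χ y'))
        = n * (conj (f y) * ∑ h : H, if c h y = y' then f' y' else 0) := by
      intro y y'
      by_cases hy : y = 1
      · rw [hy, hf1]; simp
      by_cases hy' : y' = 1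
      · rw [hy', hf'1]; simp
      rw [hΘ y y' hy hy', Finset.sum_ite, Finset.sum_const_zero, add_zero, Finset.sum_const,
        nsmul_eq_mul]
      ring
    have h3 : ∀ y : A, ∑ y' : A,
          conj (f y) * f' y' * ((cK : ℂ) * ∑ χ ∈ T, v χ y * conj (v χ y'))
        = n * ∑ h : H, conj (f y) * f' (c h y) := by
      intro y
      simp only [h2]
      rw [← Finset.mul_sum, ← Finset.mul_sum, Finset.sum_comm]
      simp only [Finset.sum_ite_eq, Finset.mem_univ, if_true]
      rw [Finset.mul_sum]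
    simp only [h3]
    rw [← Finset.mul_sum, Finset.sum_comm]
  -- orthogonality of the linear characters
  have he : ∀ (h : H) (lam mu : A →* ℂˣ),
      ∑ y : A, conj ((lam y : ℂˣ) : ℂ) * ((mu (c h y) : ℂˣ) : ℂ)
        = if mu.comp (c h) = lam then n else 0 := by
    intro h lam mu
    have h1 := horth lam (mu.comp (c h))
    rw [hnn]
    simp only [MonoidHom.comp_apply] at h1
    rw [h1]
    by_cases e : lam = mu.comp (c h)
    · rw [if_pos e, if_pos e.symm]
    · rw [if_neg e, if_neg (fun e' => e e'.symm)]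
  have hd : ∀ h : H, ∑ y : A, conj (f y) * f' (c h y)
      = (if ψ3.comp (c h) = ψ1 then n else 0) - (if ψ4.comp (c h) = ψ1 then n else 0)
        - (if ψ3.comp (c h) = ψ2 then n else 0) + (if ψ4.comp (c h) = ψ2 then n else 0) := by
    intro h
    simp only [hf, hf', map_sub, sub_mul, mul_sub, Finset.sum_sub_distrib]
    rw [he, he, he, he]
    ring
  have hcount : ∀ (lam mu : A →* ℂˣ), ∑ h : H, (if mu.comp (c h) = lam then n else 0)
      = n * ((Finset.univ.filter (fun h : H => mu.comp (c h) = lam)).card : ℂ) := by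
    intro lam mu
    rw [Finset.sum_ite, Finset.sum_const_zero, add_zero, Finset.sum_const, nsmul_eq_mul, mul_comm]
  have hfinal : (cK : ℂ) * ∑ χ ∈ T, (n * ((mult χ ψ1 : ℂ) - mult χ ψ2))
        * (n * ((mult χ ψ3 : ℂ) - mult χ ψ4))
      = n * (n * ((Finset.univ.filter (fun h : H => ψ3.comp (c h) = ψ1)).card : ℂ)
        - n * ((Finset.univ.filter (fun h : H => ψ4.comp (c h) = ψ1)).card : ℂ)
        - n * ((Finset.univ.filter (fun h : H => ψ3.comp (c h) = ψ2)).card : ℂ)
        + n * ((Finset.univ.filter (fun h : H => ψ4.comp (c h) = ψ2)).card : ℂ)) := by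
    have hsum : ∑ h : H, ∑ y : A, conj (f y) * f' (c h y)
        = n * ((Finset.univ.filter (fun h : H => ψ3.comp (c h) = ψ1)).card : ℂ)
        - n * ((Finset.univ.filter (fun h : H => ψ4.comp (c h) = ψ1)).card : ℂ)
        - n * ((Finset.univ.filter (fun h : H => ψ3.comp (c h) = ψ2)).card : ℂ)
        + n * ((Finset.univ.filter (fun h : H => ψ4.comp (c h) = ψ2)).card : ℂ) := by
      simp only [hd, Finset.sum_add_distrib, Finset.sum_sub_distrib, hcount]
    rw [← hsum, ← hc]
    congr 1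
    refine Finset.sum_congr rfl fun χ hχ => ?_
    rw [ha χ hχ, hb χ hχ]
  have hcast : ((cK : ℤ) * ∑ χ ∈ T, (mult χ ψ1 - mult χ ψ2) * (mult χ ψ3 - mult χ ψ4) : ℤ)
      = (((((Finset.univ.filter (fun h : H => ψ3.comp (c h) = ψ1)).card : ℤ)
        - (Finset.univ.filter (fun h : H => ψ4.comp (c h) = ψ1)).card
        - (Finset.univ.filter (fun h : H => ψ3.comp (c h) = ψ2)).card
        + (Finset.univ.filter (fun h : H => ψ4.comp (c h) = ψ2)).card : ℤ) : ℤ) : ℂ) := by
    push_cast
    apply mul_left_cancel₀ (mul_ne_zero hn hn)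
    have h5 : ∀ χ ∈ T, (n * ((mult χ ψ1 : ℂ) - mult χ ψ2)) * (n * ((mult χ ψ3 : ℂ) - mult χ ψ4))
        = n * n * (((mult χ ψ1 : ℂ) - mult χ ψ2) * ((mult χ ψ3 : ℂ) - mult χ ψ4)) := by
      intro χ _
      ring
    rw [Finset.sum_congr rfl h5, ← Finset.mul_sum] at hfinal
    linear_combination hfinal
  exact_mod_cast hcast

end Cfsg.Agent.Helper82
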