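import Cfsg.Agent.Helper81.SectionChar
import Cfsg.Agent.Helper80.LinChar

/-!
# Linear characters of a finite group with commuting elements (helper82)

The orthogonality relations of `Helper81.AbelChar` for a finite group `Q` given with its `Group`
structure and a proof that all elements commute (so that they apply to an abelian subgroup without
changing its instances).
-/

set_option autoImplicit false
open scoped ComplexConjugate

namespace Cfsg.Agent.Helper82

variable {Q : Type*} [Group Q] [Fintype Q]

theorem excHom_orth (hcomm : ∀ x y : Q, x * y = y * x) [DecidableEq (Q →* ℂˣ)]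
    (lam mu : Q →* ℂˣ) :
    ∑ q : Q, conj ((lam q : ℂˣ) : ℂ) * ((mu q : ℂˣ) : ℂ)
      = if lam = mu then (Fintype.card Q : ℂ) else 0 := by
  let _ : CommGroup Q := { (inferInstance : Group Q) with mul_comm := hcomm }
  exact Helper81.sum_linChar_conj_mul lam mu

theorem excHom_card (hcomm : ∀ x y : Q, x * y = y * x) :
    Nat.card (Q →* ℂˣ) = Fintype.card Q := by
  let _ : CommGroup Q := { (inferInstance : Group Q) with mul_comm := hcomm }
  exact Helper81.card_linChar

theorem excHom_sum_dual (hcomm : ∀ x y : Q, x * y = y * x) [Fintype (Q →* ℂˣ)] [DecidableEq Q]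
    (q : Q) :
    ∑ lam : Q →* ℂˣ, ((lam q : ℂˣ) : ℂ) = if q = 1 then (Fintype.card Q : ℂ) else 0 := by
  let _ : CommGroup Q := { (inferInstance : Group Q) with mul_comm := hcomm }
  exact Helper81.sum_dual q

theorem excHom_fourier (hcomm : ∀ x y : Q, x * y = y * x) [DecidableEq Q]
    [Fintype (Q →* ℂˣ)] (f : Q → ℂ) (m : (Q →* ℂˣ) → ℂ)
    (hm : ∀ lam : Q →* ℂˣ, ∑ q : Q, f q * conj ((lam q : ℂˣ) : ℂ) = (Fintype.card Q : ℂ) * m lam)
    (q : Q) : f q = ∑ lam : Q →* ℂˣ, m lam * ((lam q : ℂˣ) : ℂ) := by
  let _ : CommGroup Q := { (inferInstance : Group Q) with mul_comm := hcomm }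
  exact Helper81.fourier_inversion f m hm q

end Cfsg.Agent.Helper82
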