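import Cfsg.Agent.Helper82.ExcAction
import Cfsg.Agent.Helper82.ExcBlock
import Cfsg.Agent.Helper82.ExcGram
import Cfsg.Agent.Helper82.ExcHom
import Cfsg.Agent.Helper82.ExcCoherence

/-!
# Exceptional characters for an abelian Sylow subgroup with a Frobenius normalizer (helper82)

`P` is an abelian Sylow `p`-subgroup of `G` with `C_G(y) ∩ N_G(P) = C_G(P)` for `1 ≠ y ∈ P`.  The
multiplicities `mult χ ψ` of the linear characters `ψ` of `P` in the restrictions of the characters
`χ` of the principal block satisfy Gram relations governed by the action of `N_G(P)`.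
-/

set_option autoImplicit false
open Cfsg
open scoped ComplexConjugate

namespace Cfsg.Agent.Helper82

universe u

variable {G : Type u} [Group G] [Fintype G]

omit [Fintype G] in
/-- The orbit relation on the linear characters of a subgroup under its normalizer. -/
def excRel (P : Subgroup G) (ψ ψ' : P →* ℂˣ) : Prop :=
  ∃ n : Subgroup.normalizer (P : Set G), excAct P n ψ = ψ'

omit [Fintype G] in
theorem excRel_refl (P : Subgroup G) (ψ : P →* ℂˣ) : excRel P ψ ψ := ⟨1, excAct_one P ψ⟩

omit [Fintype G] in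
theorem excRel_symm {P : Subgroup G} {ψ ψ' : P →* ℂˣ} (h : excRel P ψ ψ') : excRel P ψ' ψ := by
  obtain ⟨n, hn⟩ := h
  exact ⟨n⁻¹, by rw [← hn, excAct_inv_cancel]⟩

omit [Fintype G] in
theorem excRel_trans {P : Subgroup G} {ψ ψ' ψ'' : P →* ℂˣ} (h : excRel P ψ ψ')
    (h' : excRel P ψ' ψ'') : excRel P ψ ψ'' := by
  obtain ⟨n, hn⟩ := h
  obtain ⟨k, hk⟩ := h'
  exact ⟨k * n, by rw [excAct_mul, hn, hk]⟩

omit [Fintype G] in
theorem excRel_ne_one {P : Subgroup G} {ψ ψ' : P →* ℂˣ} (hψ : ψ ≠ 1) (h : excRel P ψ ψ') :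
    ψ' ≠ 1 := by
  obtain ⟨n, hn⟩ := h
  intro h1
  rw [h1] at hn
  exact hψ ((excAct_eq_one_iff P n ψ).mp hn)

omit [Fintype G] in
theorem excRel_one_iff {P : Subgroup G} {ψ' : P →* ℂˣ} : excRel P 1 ψ' ↔ ψ' = 1 := by
  constructor
  · rintro ⟨n, hn⟩
    rw [← hn, excAct_hom_one]
  · intro h
    rw [h]
    exact excRel_refl P 1

open Classical in
/-- The normalized number of elements of the normalizer carrying `ψ` to `ψ'`. -/
noncomputable def excKappa (P : Subgroup G) (m : ℕ) (ψ ψ' : P →* ℂˣ) : ℤ :=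
  if ψ = 1 then (if ψ' = 1 then (m : ℤ) else 0) else (if excRel P ψ ψ' then 1 else 0)

section gram

variable {p : ℕ} [Fact p.Prime] {M : Ideal Cfsg.AlgInt} (hM : Cfsg.IsPModular p M)
  (P : Sylow p G) (hab : IsMulCommutative P)
  (hfrob : ∀ y : G, y ∈ (P : Subgroup G) → y ≠ 1 → Subgroup.centralizer ({y} : Set G)
    ⊓ Subgroup.normalizer ((P : Subgroup G) : Set G)
      = Subgroup.centralizer ((P : Subgroup G) : Set G))
  [Fintype (P : Subgroup G)] [Fintype (Subgroup.normalizer ((P : Subgroup G) : Set G))]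
  [DecidableEq ((P : Subgroup G) →* ℂˣ)]
  (T : Finset (Cfsg.IrrCharacter G)) (hT : ∀ χ, χ ∈ T ↔ χ ∈ Cfsg.principalBlock M G)
  (mult : Cfsg.IrrCharacter G → ((P : Subgroup G) →* ℂˣ) → ℤ)
  (hmult : ∀ (χ : Cfsg.IrrCharacter G) (ψ : (P : Subgroup G) →* ℂˣ),
    ∑ q : (P : Subgroup G), (χ : G → ℂ) (q : G) * conj ((ψ q : ℂˣ) : ℂ)
      = (Fintype.card (P : Subgroup G) : ℂ) * mult χ ψ)

omit [Fintype G] in
include hT in
/-- Sums over the principal block as sums over the finset `T`. -/
theorem excMain_finsum (f : Cfsg.IrrCharacter G → ℂ) :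
    ∑ᶠ χ ∈ Cfsg.principalBlock M G, f χ = ∑ χ ∈ T, f χ := by
  have h1 : Cfsg.principalBlock M G = (T : Set (Cfsg.IrrCharacter G)) := by
    ext χ
    rw [Finset.mem_coe, hT]
  rw [h1, finsum_mem_coe_finset]

include hM hab hfrob hT hmult in
/-- The Gram relations, in terms of the numbers of elements of the normalizer carrying one linear
character to another. -/
theorem excMain_gram (ψ1 ψ2 ψ3 ψ4 : (P : Subgroup G) →* ℂˣ) :
    (Nat.card ((Subgroup.centralizer ((P : Subgroup G) : Set G)).subgroupOf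
        (Subgroup.normalizer ((P : Subgroup G) : Set G))) : ℤ)
      * ∑ χ ∈ T, (mult χ ψ1 - mult χ ψ2) * (mult χ ψ3 - mult χ ψ4)
      = ((Finset.univ.filter (fun n : Subgroup.normalizer ((P : Subgroup G) : Set G) =>
          excAct (P : Subgroup G) n ψ1 = ψ3)).card : ℤ)
        - (Finset.univ.filter (fun n : Subgroup.normalizer ((P : Subgroup G) : Set G) =>
          excAct (P : Subgroup G) n ψ1 = ψ4)).card
        - (Finset.univ.filter (fun n : Subgroup.normalizer ((P : Subgroup G) : Set G) =>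
          excAct (P : Subgroup G) n ψ2 = ψ3)).card
        + (Finset.univ.filter (fun n : Subgroup.normalizer ((P : Subgroup G) : Set G) =>
          excAct (P : Subgroup G) n ψ2 = ψ4)).card := by
  classical
  have hcommA : ∀ x y : (P : Subgroup G), x * y = y * x := fun x y => hab.is_comm.comm x y
  have hΘ : ∀ y y' : (P : Subgroup G), y ≠ 1 → y' ≠ 1 →
      (Nat.card ((Subgroup.centralizer ((P : Subgroup G) : Set G)).subgroupOf
        (Subgroup.normalizer ((P : Subgroup G) : Set G))) : ℂ)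
        * ∑ χ ∈ T, (χ : G → ℂ) (y : G) * conj ((χ : G → ℂ) (y' : G))
      = (Fintype.card (P : Subgroup G) : ℂ) * ((Finset.univ.filter
          (fun n : Subgroup.normalizer ((P : Subgroup G) : Set G) =>
            excConj (P : Subgroup G) n y = y')).card : ℂ) := by
    intro y y' hy hy'
    have hy1 : (y : G) ≠ 1 := fun h => hy (Subtype.ext h)
    by_cases hc : IsConj (y : G) (y' : G)
    · obtain ⟨n0, hn0⟩ := excConj_fusion P hab y y' hc
      rw [← hn0, excConj_card_fiber (P : Subgroup G) hfrob y hy n0]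
      have h1 : ∀ χ : Cfsg.IrrCharacter G,
          (χ : G → ℂ) ((excConj (P : Subgroup G) n0 y : (P : Subgroup G)) : G)
            = (χ : G → ℂ) (y : G) := by
        intro χ
        rw [excConj_coe]
        exact Helper81.irr_conj χ _ _
      simp only [h1]
      rw [← excMain_finsum T hT, excBlock_sum_self hM P hab hfrob (y : G) y.2 hy1,
        ← Nat.card_eq_fintype_card]
      ring
    · have h0 : (Finset.univ.filter (fun n : Subgroup.normalizer ((P : Subgroup G) : Set G) =>
          excConj (P : Subgroup G) n y = y')).card = 0 := by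
        rw [Finset.card_eq_zero, Finset.filter_eq_empty_iff]
        intro n _ hn
        apply hc
        rw [isConj_iff]
        exact ⟨(n : G), by rw [← hn]; rfl⟩
      rw [h0, ← excMain_finsum T hT, excBlock_sum_nonconj hM P (y : G) (y' : G) y.2 y'.2 hc]
      simp
  have key := excGram_main (A := (P : Subgroup G)) (fun lam mu => excHom_orth hcommA lam mu) T
    (fun χ y => (χ : G → ℂ) (y : G)) mult (fun χ _ ψ => hmult χ ψ)
    (H := Subgroup.normalizer ((P : Subgroup G) : Set G)) (excConj (P : Subgroup G))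
    (Nat.card ((Subgroup.centralizer ((P : Subgroup G) : Set G)).subgroupOf
        (Subgroup.normalizer ((P : Subgroup G) : Set G)))) hΘ ψ1 ψ2 ψ3 ψ4
  rw [key]
  simp only [excAct_comp_eq_iff]

include hfrob in
/-- The number of elements of the normalizer carrying `ψ` to `ψ'`. -/
theorem excMain_card_act (m : ℕ)
    (hCN : (Subgroup.centralizer ((P : Subgroup G) : Set G)).relIndex
      (Subgroup.normalizer ((P : Subgroup G) : Set G)) = m)
    (ψ ψ' : (P : Subgroup G) →* ℂˣ) :
    ((Finset.univ.filter (fun n : Subgroup.normalizer ((P : Subgroup G) : Set G) =>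
        excAct (P : Subgroup G) n ψ = ψ')).card : ℤ)
      = (Nat.card ((Subgroup.centralizer ((P : Subgroup G) : Set G)).subgroupOf
          (Subgroup.normalizer ((P : Subgroup G) : Set G))) : ℤ)
        * excKappa (P : Subgroup G) m ψ ψ' := by
  classical
  have hzero : ¬ excRel (P : Subgroup G) ψ ψ' →
      (Finset.univ.filter (fun n : Subgroup.normalizer ((P : Subgroup G) : Set G) =>
        excAct (P : Subgroup G) n ψ = ψ')).card = 0 := by
    intro hR
    rw [Finset.card_eq_zero, Finset.filter_eq_empty_iff]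
    intro n _ hn
    exact hR ⟨n, hn⟩
  unfold excKappa
  by_cases h1 : ψ = 1
  · rw [if_pos h1]
    by_cases h2 : ψ' = 1
    · rw [if_pos h2, h1, h2,
        Finset.filter_true_of_mem (fun n _ => excAct_hom_one (P : Subgroup G) n),
        Finset.card_univ, ← Nat.card_eq_fintype_card, ← hCN]
      have h3 := Subgroup.card_mul_index ((Subgroup.centralizer ((P : Subgroup G) : Set G)).subgroupOf
        (Subgroup.normalizer ((P : Subgroup G) : Set G)))
      rw [← h3]
      push_cast
      rfl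
    · rw [if_neg h2, mul_zero, hzero]
      · rfl
      · rw [h1, excRel_one_iff]
        exact h2
  · rw [if_neg h1]
    by_cases hR : excRel (P : Subgroup G) ψ ψ'
    · rw [if_pos hR, mul_one]
      obtain ⟨n0, hn0⟩ := hR
      rw [← hn0, excAct_card_fiber' (P : Subgroup G) hfrob ψ h1 n0]
    · rw [if_neg hR, mul_zero, hzero hR]
      rfl

include hM hab hfrob hT hmult in
/-- The Gram relations in normalized form. -/
theorem excMain_gram' (m : ℕ)
    (hCN : (Subgroup.centralizer ((P : Subgroup G) : Set G)).relIndex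
      (Subgroup.normalizer ((P : Subgroup G) : Set G)) = m)
    (ψ1 ψ2 ψ3 ψ4 : (P : Subgroup G) →* ℂˣ) :
    ∑ χ ∈ T, (mult χ ψ1 - mult χ ψ2) * (mult χ ψ3 - mult χ ψ4)
      = excKappa (P : Subgroup G) m ψ1 ψ3 - excKappa (P : Subgroup G) m ψ1 ψ4
        - excKappa (P : Subgroup G) m ψ2 ψ3 + excKappa (P : Subgroup G) m ψ2 ψ4 := by
  have key := excMain_gram hM P hab hfrob T hT mult hmult ψ1 ψ2 ψ3 ψ4
  rw [excMain_card_act P hfrob m hCN, excMain_card_act P hfrob m hCN,
    excMain_card_act P hfrob m hCN, excMain_card_act P hfrob m hCN] at key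
  have hcK : (Nat.card ((Subgroup.centralizer ((P : Subgroup G) : Set G)).subgroupOf
      (Subgroup.normalizer ((P : Subgroup G) : Set G))) : ℤ) ≠ 0 := by
    exact_mod_cast Nat.card_pos.ne'
  apply mul_left_cancel₀ hcK
  rw [key]
  ring

include hM hab hfrob hT hmult in
/-- Conjugate linear characters have the same multiplicities. -/
theorem excMain_g0 (m : ℕ)
    (hCN : (Subgroup.centralizer ((P : Subgroup G) : Set G)).relIndex
      (Subgroup.normalizer ((P : Subgroup G) : Set G)) = m)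
    (ψ ψ' : (P : Subgroup G) →* ℂˣ) (hψ : ψ ≠ 1) (hR : excRel (P : Subgroup G) ψ ψ') :
    ∀ χ ∈ T, mult χ ψ = mult χ ψ' := by
  have hψ' := excRel_ne_one hψ hR
  have key := excMain_gram' hM P hab hfrob T hT mult hmult m hCN ψ ψ' ψ ψ'
  simp only [excKappa, if_neg hψ, if_neg hψ', if_pos hR, if_pos (excRel_symm hR),
    if_pos (excRel_refl (P : Subgroup G) ψ), if_pos (excRel_refl (P : Subgroup G) ψ')] at key
  have h0 : ∑ χ ∈ T, (mult χ ψ - mult χ ψ') * (mult χ ψ - mult χ ψ') = 0 := by
    rw [key]; ring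
  intro χ hχ
  have h1 := (Finset.sum_eq_zero_iff_of_nonneg (fun χ _ => mul_self_nonneg _)).mp h0 χ hχ
  have h2 := mul_self_eq_zero.mp h1
  linarith

include hM hab hfrob hT hmult in
theorem excMain_g2 (m : ℕ)
    (hCN : (Subgroup.centralizer ((P : Subgroup G) : Set G)).relIndex
      (Subgroup.normalizer ((P : Subgroup G) : Set G)) = m)
    (ψ ψ' : (P : Subgroup G) →* ℂˣ) (hψ : ψ ≠ 1) (hψ' : ψ' ≠ 1)
    (hR : ¬ excRel (P : Subgroup G) ψ ψ') :
    ∑ χ ∈ T, (mult χ ψ - mult χ ψ') ^ 2 = 2 := by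
  have key := excMain_gram' hM P hab hfrob T hT mult hmult m hCN ψ ψ' ψ ψ'
  simp only [excKappa, if_neg hψ, if_neg hψ', if_neg hR, if_neg (fun h => hR (excRel_symm h)),
    if_pos (excRel_refl (P : Subgroup G) ψ), if_pos (excRel_refl (P : Subgroup G) ψ')] at key
  simp only [pow_two]
  rw [key]; ring

include hM hab hfrob hT hmult in
theorem excMain_g1 (m : ℕ)
    (hCN : (Subgroup.centralizer ((P : Subgroup G) : Set G)).relIndex
      (Subgroup.normalizer ((P : Subgroup G) : Set G)) = m)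
    (ψ ψ' ψ'' : (P : Subgroup G) →* ℂˣ) (hψ : ψ ≠ 1) (hψ' : ψ' ≠ 1)
    (hR : ¬ excRel (P : Subgroup G) ψ ψ') (hR' : ¬ excRel (P : Subgroup G) ψ ψ'')
    (hR'' : ¬ excRel (P : Subgroup G) ψ' ψ'') :
    ∑ χ ∈ T, (mult χ ψ - mult χ ψ') * (mult χ ψ - mult χ ψ'') = 1 := by
  have key := excMain_gram' hM P hab hfrob T hT mult hmult m hCN ψ ψ' ψ ψ''
  simp only [excKappa, if_neg hψ, if_neg hψ', if_neg hR', if_neg hR'',
    if_neg (fun h => hR (excRel_symm h)), if_pos (excRel_refl (P : Subgroup G) ψ)] at key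
  rw [key]; ring

include hM hab hfrob hT hmult in
theorem excMain_g4 (m : ℕ)
    (hCN : (Subgroup.centralizer ((P : Subgroup G) : Set G)).relIndex
      (Subgroup.normalizer ((P : Subgroup G) : Set G)) = m)
    (ψ : (P : Subgroup G) →* ℂˣ) (hψ : ψ ≠ 1) :
    ∑ χ ∈ T, (mult χ ψ - mult χ 1) ^ 2 = (m : ℤ) + 1 := by
  have key := excMain_gram' hM P hab hfrob T hT mult hmult m hCN ψ 1 ψ 1
  have hR1 : ¬ excRel (P : Subgroup G) ψ 1 := fun h => excRel_ne_one hψ h rfl
  simp only [excKappa, if_neg hψ, if_neg hR1, if_true,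
    if_pos (excRel_refl (P : Subgroup G) ψ)] at key
  simp only [pow_two]
  rw [key]; ring

include hM hab hfrob hT hmult in
theorem excMain_g5 (m : ℕ)
    (hCN : (Subgroup.centralizer ((P : Subgroup G) : Set G)).relIndex
      (Subgroup.normalizer ((P : Subgroup G) : Set G)) = m)
    (ψ ψ' : (P : Subgroup G) →* ℂˣ) (hψ : ψ ≠ 1) (hψ' : ψ' ≠ 1)
    (hR : ¬ excRel (P : Subgroup G) ψ ψ') :
    ∑ χ ∈ T, (mult χ ψ - mult χ ψ') * (mult χ ψ - mult χ 1) = 1 := by
  have key := excMain_gram' hM P hab hfrob T hT mult hmult m hCN ψ ψ' ψ 1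
  have hR1 : ¬ excRel (P : Subgroup G) ψ 1 := fun h => excRel_ne_one hψ h rfl
  have hR1' : ¬ excRel (P : Subgroup G) ψ' 1 := fun h => excRel_ne_one hψ' h rfl
  simp only [excKappa, if_neg hψ, if_neg hψ', if_neg hR1, if_neg hR1',
    if_neg (fun h => hR (excRel_symm h)), if_pos (excRel_refl (P : Subgroup G) ψ)] at key
  rw [key]; ring

include hM hT hmult in
/-- The differences of the multiplicity vectors are orthogonal to the columns of the `p`-regular
elements. -/
theorem excMain_preg (g : G) (hg : ¬ p ∣ orderOf g) (ψ ψ' : (P : Subgroup G) →* ℂˣ) :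
    ∑ χ ∈ T, ((mult χ ψ : ℂ) - (mult χ ψ' : ℂ)) * (χ : G → ℂ) g = 0 := by
  classical
  have hn : (Fintype.card (P : Subgroup G) : ℂ) ≠ 0 := by exact_mod_cast Fintype.card_ne_zero
  have hconj : ∀ (χ : Cfsg.IrrCharacter G) (ψ : (P : Subgroup G) →* ℂˣ),
      ∑ q : (P : Subgroup G), conj ((χ : G → ℂ) (q : G)) * ((ψ q : ℂˣ) : ℂ)
        = (Fintype.card (P : Subgroup G) : ℂ) * mult χ ψ := by
    intro χ ψ
    have h := congrArg conj (hmult χ ψ)
    rw [map_sum, map_mul, map_intCast, map_natCast] at h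
    simp only [map_mul, Complex.conj_conj] at h
    exact h
  apply mul_left_cancel₀ hn
  rw [mul_zero, Finset.mul_sum]
  have h1 : ∀ χ ∈ T, (Fintype.card (P : Subgroup G) : ℂ)
        * (((mult χ ψ : ℂ) - (mult χ ψ' : ℂ)) * (χ : G → ℂ) g)
      = ∑ q : (P : Subgroup G), (((ψ q : ℂˣ) : ℂ) - ((ψ' q : ℂˣ) : ℂ))
          * ((χ : G → ℂ) g * conj ((χ : G → ℂ) (q : G))) := by
    intro χ _
    have e : (Fintype.card (P : Subgroup G) : ℂ)
          * (((mult χ ψ : ℂ) - (mult χ ψ' : ℂ)) * (χ : G → ℂ) g)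
        = (χ : G → ℂ) g * ((Fintype.card (P : Subgroup G) : ℂ) * mult χ ψ
          - (Fintype.card (P : Subgroup G) : ℂ) * mult χ ψ') := by ring
    rw [e, ← hconj χ ψ, ← hconj χ ψ', ← Finset.sum_sub_distrib, Finset.mul_sum]
    refine Finset.sum_congr rfl fun q _ => ?_
    ring
  rw [Finset.sum_congr rfl h1, Finset.sum_comm]
  apply Finset.sum_eq_zero
  intro q _
  rw [← Finset.mul_sum]
  by_cases hq : q = 1
  · rw [hq]; simp
  · have hq1 : (q : G) ≠ 1 := fun h => hq (Subtype.ext h)
    rw [← excMain_finsum T hT, excBlock_sum_preg hM P g (q : G) hg q.2 hq1, mul_zero]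

include hab hmult in
/-- Fourier inversion for the restriction of a character to `P`. -/
theorem excMain_fourier [DecidableEq (P : Subgroup G)] [Fintype ((P : Subgroup G) →* ℂˣ)]
    (χ : Cfsg.IrrCharacter G) (y : (P : Subgroup G)) :
    (χ : G → ℂ) (y : G) = ∑ ψ : (P : Subgroup G) →* ℂˣ, (mult χ ψ : ℂ) * ((ψ y : ℂˣ) : ℂ) :=
  excHom_fourier (fun x y => hab.is_comm.comm x y)
    (fun q : (P : Subgroup G) => (χ : G → ℂ) (q : G)) (fun ψ => (mult χ ψ : ℂ)) (hmult χ) y

include hfrob in
/-- The orbit of a nontrivial linear character has `|N : C|` elements. -/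
theorem excMain_card_orbit (m : ℕ)
    (hCN : (Subgroup.centralizer ((P : Subgroup G) : Set G)).relIndex
      (Subgroup.normalizer ((P : Subgroup G) : Set G)) = m)
    (ψ : (P : Subgroup G) →* ℂˣ) (hψ : ψ ≠ 1) :
    (Finset.univ.image (fun n : Subgroup.normalizer ((P : Subgroup G) : Set G) =>
      excAct (P : Subgroup G) n ψ)).card = m := by
  have h1 := Finset.card_eq_sum_card_image
    (fun n : Subgroup.normalizer ((P : Subgroup G) : Set G) => excAct (P : Subgroup G) n ψ)
    Finset.univ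
  have h2 : ∀ b ∈ Finset.univ.image
      (fun n : Subgroup.normalizer ((P : Subgroup G) : Set G) => excAct (P : Subgroup G) n ψ),
      (Finset.univ.filter (fun a : Subgroup.normalizer ((P : Subgroup G) : Set G) =>
        excAct (P : Subgroup G) a ψ = b)).card
        = Nat.card ((Subgroup.centralizer ((P : Subgroup G) : Set G)).subgroupOf
          (Subgroup.normalizer ((P : Subgroup G) : Set G))) := by
    intro b hb
    obtain ⟨n0, -, rfl⟩ := Finset.mem_image.mp hb
    exact excAct_card_fiber' (P : Subgroup G) hfrob ψ hψ n0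
  rw [Finset.sum_congr rfl h2, Finset.sum_const, smul_eq_mul, Finset.card_univ,
    ← Nat.card_eq_fintype_card] at h1
  have h3 := Subgroup.card_mul_index ((Subgroup.centralizer ((P : Subgroup G) : Set G)).subgroupOf
    (Subgroup.normalizer ((P : Subgroup G) : Set G)))
  have hcK : 0 < Nat.card ((Subgroup.centralizer ((P : Subgroup G) : Set G)).subgroupOf
      (Subgroup.normalizer ((P : Subgroup G) : Set G))) := Nat.card_pos
  have h4 : ((Subgroup.centralizer ((P : Subgroup G) : Set G)).subgroupOf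
      (Subgroup.normalizer ((P : Subgroup G) : Set G))).index = m := hCN
  rw [h4, h1, mul_comm] at h3
  exact (Nat.eq_of_mul_eq_mul_right hcK h3).symm

include hab hfrob in
/-- There are two nontrivial linear characters of `P` which are not conjugate. -/
theorem excMain_exists_two [Fintype ((P : Subgroup G) →* ℂˣ)] (m : ℕ)
    (hCN : (Subgroup.centralizer ((P : Subgroup G) : Set G)).relIndex
      (Subgroup.normalizer ((P : Subgroup G) : Set G)) = m)
    (hm2 : m + 1 < Nat.card (P : Subgroup G)) :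
    ∃ ψ0 ψ1 : (P : Subgroup G) →* ℂˣ, ψ0 ≠ 1 ∧ ψ1 ≠ 1 ∧ ¬ excRel (P : Subgroup G) ψ0 ψ1 := by
  have hcard : Fintype.card ((P : Subgroup G) →* ℂˣ) = Nat.card (P : Subgroup G) := by
    rw [← Nat.card_eq_fintype_card, excHom_card (fun x y => hab.is_comm.comm x y),
      Nat.card_eq_fintype_card]
  have h1 : 1 < Fintype.card ((P : Subgroup G) →* ℂˣ) := by omega
  obtain ⟨ψ0, hψ0⟩ := Fintype.exists_ne_of_one_lt_card h1 (1 : (P : Subgroup G) →* ℂˣ)
  have h2 := excMain_card_orbit P hfrob m hCN ψ0 hψ0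
  by_contra hcon
  push Not at hcon
  have h3 : (Finset.univ : Finset ((P : Subgroup G) →* ℂˣ)) ⊆ insert 1 (Finset.univ.image
      (fun n : Subgroup.normalizer ((P : Subgroup G) : Set G) =>
        excAct (P : Subgroup G) n ψ0)) := by
    intro ψ _
    by_cases hψ : ψ = 1
    · rw [hψ]; exact Finset.mem_insert_self _ _
    · obtain ⟨n, hn⟩ := hcon ψ0 ψ hψ0 hψ
      exact Finset.mem_insert_of_mem (Finset.mem_image.mpr ⟨n, Finset.mem_univ _, hn⟩)
  have h4 := Finset.card_le_card h3
  have h5 := Finset.card_insert_le (1 : (P : Subgroup G) →* ℂˣ) (Finset.univ.image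
      (fun n : Subgroup.normalizer ((P : Subgroup G) : Set G) => excAct (P : Subgroup G) n ψ0))
  rw [Finset.card_univ, hcard] at h4
  omega

end gram

end Cfsg.Agent.Helper82
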