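import Cfsg.Agent.Helper81.KleinFour
import Cfsg.Agent.Helper77.BlockRank
import Cfsg.Agent.Helper16.PPart

/-!
# Principal block characters on a `p`-section with a `p`-nilpotent centralizer

If `C_G(z)` has a normal `p`-complement (`z` a `p`-element), every character of the principal
`p`-block of `G` is constant on the `p`-section of `z`.  As an application, the principal
`2`-block of a group with a Klein four Sylow `2`-subgroup and one class of involutions has
`2`-regular rank `3`.
-/

set_option autoImplicit false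
open Cfsg
open scoped ComplexConjugate

namespace Cfsg.Agent.Helper82

universe u

variable {G : Type u} [Group G] [Fintype G]

/-- Principal block characters are constant on the `p`-section of `z` when `C_G(z)` has a normal
`p`-complement. -/
theorem principalBlock_section_const {p : ℕ} [Fact p.Prime] {M : Ideal Cfsg.AlgInt}
    (hM : Cfsg.IsPModular p M) (z : G) (hz : ∃ k : ℕ, orderOf z = p ^ k)
    [Fintype (Subgroup.centralizer ({z} : Set G))]
    (hK : ∃ k : ℕ, (Cfsg.pPrimeCore p (Subgroup.centralizer ({z} : Set G))).index = p ^ k)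
    (y : Subgroup.centralizer ({z} : Set G)) (hy : ¬ p ∣ orderOf y)
    (ζ : Cfsg.IrrCharacter G) (hζ : ζ ∈ Cfsg.principalBlock M G) :
    (ζ : G → ℂ) (z * (y : G)) = (ζ : G → ℂ) z := by
  classical
  have hp : p.Prime := Fact.out
  have := Fintype.ofFinite (Cfsg.IrrCharacter G)
  have hKn : (Cfsg.pPrimeCore p (Subgroup.centralizer ({z} : Set G))).Normal :=
    Helper76.pPrimeCore_normal
  obtain ⟨k, hk⟩ := hK
  have hcardQ : Nat.card (Subgroup.centralizer ({z} : Set G) ⧸
      Cfsg.pPrimeCore p (Subgroup.centralizer ({z} : Set G))) = p ^ k := by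
    rw [← hk]; rfl
  have hmemK : ∀ y : Subgroup.centralizer ({z} : Set G), ¬ p ∣ orderOf y →
      y ∈ Cfsg.pPrimeCore p (Subgroup.centralizer ({z} : Set G)) := by
    intro y hy
    rw [← QuotientGroup.eq_one_iff, ← orderOf_eq_one_iff]
    have hd1 : orderOf (y : Subgroup.centralizer ({z} : Set G) ⧸
        Cfsg.pPrimeCore p (Subgroup.centralizer ({z} : Set G))) ∣ orderOf y :=
      orderOf_map_dvd (QuotientGroup.mk'
        (Cfsg.pPrimeCore p (Subgroup.centralizer ({z} : Set G)))) y
    have hd2 : orderOf (y : Subgroup.centralizer ({z} : Set G) ⧸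
        Cfsg.pPrimeCore p (Subgroup.centralizer ({z} : Set G))) ∣ p ^ k := by
      rw [← hcardQ]; exact orderOf_dvd_natCard _
    have hcop : (orderOf y).Coprime (p ^ k) :=
      Nat.Coprime.pow_right k ((Nat.Prime.coprime_iff_not_dvd hp).mpr hy).symm
    exact Nat.eq_one_of_dvd_coprimes hcop hd1 hd2
  have h1reg : ¬ p ∣ orderOf (1 : Subgroup.centralizer ({z} : Set G)) := by
    rw [orderOf_one]
    exact fun h => hp.ne_one (Nat.dvd_one.mp h)
  obtain ⟨c, hc⟩ : ∃ c : ℂ, c = ∑ᶠ ξ ∈ Cfsg.principalBlock M (Subgroup.centralizer ({z} : Set G)),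
      (ξ : Subgroup.centralizer ({z} : Set G) → ℂ) 1
        * conj ((ξ : Subgroup.centralizer ({z} : Set G) → ℂ) 1) := ⟨_, rfl⟩
  have hS : ∀ y y' : Subgroup.centralizer ({z} : Set G), ¬ p ∣ orderOf y → ¬ p ∣ orderOf y' →
      ∑ᶠ ζ ∈ Cfsg.principalBlock M G,
        (ζ : G → ℂ) (z * (y : G)) * conj ((ζ : G → ℂ) (z * (y' : G))) = c := by
    intro y y' hy hy'
    rw [Helper81.sum_principalBlock_section hM z hz y y' hy hy', hc]
    refine finsum_mem_congr rfl fun ξ hξ => ?_
    rw [Helper76.apply_eq_of_mem_principalBlock hM ξ hξ y (hmemK y hy),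
      Helper76.apply_eq_of_mem_principalBlock hM ξ hξ y' (hmemK y' hy')]
  have hconv : ∀ f : Cfsg.IrrCharacter G → ℂ, ∑ᶠ ζ ∈ Cfsg.principalBlock M G, f ζ
      = ∑ ζ : Cfsg.IrrCharacter G, if ζ ∈ Cfsg.principalBlock M G then f ζ else 0 := by
    intro f
    rw [finsum_mem_def, finsum_eq_sum_of_fintype]
    refine Finset.sum_congr rfl fun ζ _ => ?_
    rw [Set.indicator_apply]
  have h11 := hS y y hy hy
  have h12 := hS y 1 hy h1reg
  have h21 := hS 1 y h1reg hy
  have h22 := hS 1 1 h1reg h1reg
  rw [hconv] at h11 h12 h21 h22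
  simp only [Subgroup.coe_one, mul_one] at h12 h21 h22
  have hzero : ∑ ζ : Cfsg.IrrCharacter G, (if ζ ∈ Cfsg.principalBlock M G then
      Complex.normSq ((ζ : G → ℂ) (z * (y : G)) - (ζ : G → ℂ) z) else 0) = 0 := by
    have h0 : ((∑ ζ : Cfsg.IrrCharacter G, (if ζ ∈ Cfsg.principalBlock M G then
        Complex.normSq ((ζ : G → ℂ) (z * (y : G)) - (ζ : G → ℂ) z) else 0) : ℝ) : ℂ) = 0 := by
      rw [Complex.ofReal_sum]
      have h1 : ∀ ζ : Cfsg.IrrCharacter G, (((if ζ ∈ Cfsg.principalBlock M G then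
          Complex.normSq ((ζ : G → ℂ) (z * (y : G)) - (ζ : G → ℂ) z) else 0 : ℝ)) : ℂ)
          = (if ζ ∈ Cfsg.principalBlock M G then
              (ζ : G → ℂ) (z * (y : G)) * conj ((ζ : G → ℂ) (z * (y : G))) else 0)
            - (if ζ ∈ Cfsg.principalBlock M G then
              (ζ : G → ℂ) (z * (y : G)) * conj ((ζ : G → ℂ) z) else 0)
            - (if ζ ∈ Cfsg.principalBlock M G then
              (ζ : G → ℂ) z * conj ((ζ : G → ℂ) (z * (y : G))) else 0)
            + (if ζ ∈ Cfsg.principalBlock M G then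
              (ζ : G → ℂ) z * conj ((ζ : G → ℂ) z) else 0) := by
        intro ζ
        by_cases hζ' : ζ ∈ Cfsg.principalBlock M G
        · simp only [if_pos hζ']
          rw [← Complex.mul_conj, map_sub]
          ring
        · simp only [if_neg hζ']
          simp
      simp only [h1, Finset.sum_add_distrib, Finset.sum_sub_distrib]
      rw [h11, h12, h21, h22]
      ring
    exact_mod_cast h0
  have hterm := (Finset.sum_eq_zero_iff_of_nonneg (fun ζ _ => by
    split_ifs
    · exact Complex.normSq_nonneg _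
    · exact le_refl 0)).mp hzero ζ (Finset.mem_univ ζ)
  rw [if_pos hζ] at hterm
  exact sub_eq_zero.mp (Complex.normSq_eq_zero.mp hterm)

end Cfsg.Agent.Helper82
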