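import Cfsg.Agent.Helper82.OrdEngine
import Cfsg.Agent.Helper82.OrdAdhoc
import Cfsg.Agent.S0975

/-! # S0983: orders 3641 to 3900 (generated; helper82) -/

set_option autoImplicit false
set_option maxHeartbeats 0
set_option maxRecDepth 100000

namespace Cfsg.Agent.Helper82

theorem ord_chunk1 {G : Type*} [Group G] [Finite G] [IsSimpleGroup G]
    (hG : ¬ IsMulCommutative G) (n : ℕ) (hcard : Nat.card G = n) (h1 : 3641 ≤ n) (h2 : n ≤ 3900)
    (e1 : n ≠ 4080) (e2 : n ≠ 5616) (e3 : n ≠ 6048) (e4 : n ≠ 6072) : False := by
  interval_cases n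
  · exact eng_two_primes hG 11 331 1 1 (by norm_num) (by norm_num) (hcard.trans (by norm_num))
  · exact eng_two_mod_four hG (by rw [hcard])
  · exact eng_two_primes hG 3643 2 1 0 (by norm_num) (by norm_num) (hcard.trans (by norm_num))
  · exact eng_two_primes hG 2 911 2 1 (by norm_num) (by norm_num) (hcard.trans (by norm_num))
  · exact eng_two_primes hG 3 5 6 1 (by norm_num) (by norm_num) (hcard.trans (by norm_num))
  · exact eng_two_mod_four hG (by rw [hcard])
  · exact eng_two_primes hG 7 521 1 1 (by norm_num) (by norm_num) (hcard.trans (by norm_num))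
  · exact eng_big_prime hG 19 (by norm_num) (by rw [hcard]; norm_num) (by rw [hcard]; norm_num) (by rw [hcard]; norm_num) (by rw [hcard]; norm_num)
  · exact eng_two_primes hG 41 89 1 1 (by norm_num) (by norm_num) (hcard.trans (by norm_num))
  · exact eng_two_mod_four hG (by rw [hcard])
  · exact eng_two_primes hG 3 1217 1 1 (by norm_num) (by norm_num) (hcard.trans (by norm_num))
  · exact eng_big_prime hG 83 (by norm_num) (by rw [hcard]; norm_num) (by rw [hcard]; norm_num) (by rw [hcard]; norm_num) (by rw [hcard]; norm_num)
  · exact eng_two_primes hG 13 281 1 1 (by norm_num) (by norm_num) (hcard.trans (by norm_num))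
  · exact eng_two_mod_four hG (by rw [hcard])
  · exact eng_big_prime hG 43 (by norm_num) (by rw [hcard]; norm_num) (by rw [hcard]; norm_num) (by rw [hcard]; norm_num) (by rw [hcard]; norm_num)
  · exact eng_two_primes hG 2 457 3 1 (by norm_num) (by norm_num) (hcard.trans (by norm_num))
  · exact eng_big_prime hG 53 (by norm_num) (by rw [hcard]; norm_num) (by rw [hcard]; norm_num) (by rw [hcard]; norm_num) (by rw [hcard]; norm_num)
  · exact eng_two_mod_four hG (by rw [hcard])
  · exact eng_two_primes hG 3659 2 1 0 (by norm_num) (by norm_num) (hcard.trans (by norm_num))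
  · exact eng_big_prime hG 61 (by norm_num) (by rw [hcard]; norm_num) (by rw [hcard]; norm_num) (by rw [hcard]; norm_num) (by rw [hcard]; norm_num)
  · exact eng_two_primes hG 7 523 1 1 (by norm_num) (by norm_num) (hcard.trans (by norm_num))
  · exact eng_two_mod_four hG (by rw [hcard])
  · exact eng_big_prime hG 37 (by norm_num) (by rw [hcard]; norm_num) (by rw [hcard]; norm_num) (by rw [hcard]; norm_num) (by rw [hcard]; norm_num)
  · exact eng_two_primes hG 2 229 4 1 (by norm_num) (by norm_num) (hcard.trans (by norm_num))
  · exact eng_two_primes hG 5 733 1 1 (by norm_num) (by norm_num) (hcard.trans (by norm_num))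
  · exact eng_two_mod_four hG (by rw [hcard])
  · exact eng_two_primes hG 19 193 1 1 (by norm_num) (by norm_num) (hcard.trans (by norm_num))
  · exact eng_big_prime hG 131 (by norm_num) (by rw [hcard]; norm_num) (by rw [hcard]; norm_num) (by rw [hcard]; norm_num) (by rw [hcard]; norm_num)
  · exact eng_two_primes hG 3 1223 1 1 (by norm_num) (by norm_num) (hcard.trans (by norm_num))
  · exact eng_two_mod_four hG (by rw [hcard])
  · exact eng_two_primes hG 3671 2 1 0 (by norm_num) (by norm_num) (hcard.trans (by norm_num))
  · exact eng_big_prime hG 17 (by norm_num) (by rw [hcard]; norm_num) (by rw [hcard]; norm_num) (by rw [hcard]; norm_num) (by rw [hcard]; norm_num)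
  · exact eng_two_primes hG 3673 2 1 0 (by norm_num) (by norm_num) (hcard.trans (by norm_num))
  · exact eng_two_mod_four hG (by rw [hcard])
  · exact kill_three hG 3675 3 1225 5 7 2 2 hcard (by norm_num) (by norm_num) (by norm_num) (by norm_num) (by norm_num) (by norm_num) (by norm_num) (by norm_num) (by norm_num) (by norm_num) (by norm_num) (by decide +kernel)
  · exact eng_two_primes hG 2 919 2 1 (by norm_num) (by norm_num) (hcard.trans (by norm_num))
  · exact eng_two_primes hG 3677 2 1 0 (by norm_num) (by norm_num) (hcard.trans (by norm_num))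
  · exact eng_two_mod_four hG (by rw [hcard])
  · exact eng_two_primes hG 13 283 1 1 (by norm_num) (by norm_num) (hcard.trans (by norm_num))
  · exact eng_big_prime hG 23 (by norm_num) (by rw [hcard]; norm_num) (by rw [hcard]; norm_num) (by rw [hcard]; norm_num) (by rw [hcard]; norm_num)
  · exact eng_two_primes hG 3 409 2 1 (by norm_num) (by norm_num) (hcard.trans (by norm_num))
  · exact eng_two_mod_four hG (by rw [hcard])
  · exact eng_two_primes hG 29 127 1 1 (by norm_num) (by norm_num) (hcard.trans (by norm_num))
  · exact eng_big_prime hG 307 (by norm_num) (by rw [hcard]; norm_num) (by rw [hcard]; norm_num) (by rw [hcard]; norm_num) (by rw [hcard]; norm_num)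
  · exact eng_big_prime hG 67 (by norm_num) (by rw [hcard]; norm_num) (by rw [hcard]; norm_num) (by rw [hcard]; norm_num) (by rw [hcard]; norm_num)
  · exact eng_two_mod_four hG (by rw [hcard])
  · exact eng_two_primes hG 3 1229 1 1 (by norm_num) (by norm_num) (hcard.trans (by norm_num))
  · exact eng_two_primes hG 2 461 3 1 (by norm_num) (by norm_num) (hcard.trans (by norm_num))
  · exact eng_big_prime hG 31 (by norm_num) (by rw [hcard]; norm_num) (by rw [hcard]; norm_num) (by rw [hcard]; norm_num) (by rw [hcard]; norm_num)
  · exact eng_two_mod_four hG (by rw [hcard])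
  · exact eng_two_primes hG 3691 2 1 0 (by norm_num) (by norm_num) (hcard.trans (by norm_num))
  · exact eng_big_prime hG 71 (by norm_num) (by rw [hcard]; norm_num) (by rw [hcard]; norm_num) (by rw [hcard]; norm_num) (by rw [hcard]; norm_num)
  · exact eng_two_primes hG 3 1231 1 1 (by norm_num) (by norm_num) (hcard.trans (by norm_num))
  · exact eng_two_mod_four hG (by rw [hcard])
  · exact eng_two_primes hG 5 739 1 1 (by norm_num) (by norm_num) (hcard.trans (by norm_num))
  · exact absurd hcard o3696
  · exact eng_two_primes hG 3697 2 1 0 (by norm_num) (by norm_num) (hcard.trans (by norm_num))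
  · exact eng_two_mod_four hG (by rw [hcard])
  · exact eng_two_primes hG 3 137 3 1 (by norm_num) (by norm_num) (hcard.trans (by norm_num))
  · exact eng_big_prime hG 37 (by norm_num) (by rw [hcard]; norm_num) (by rw [hcard]; norm_num) (by rw [hcard]; norm_num) (by rw [hcard]; norm_num)
  · exact eng_two_primes hG 3701 2 1 0 (by norm_num) (by norm_num) (hcard.trans (by norm_num))
  · exact eng_two_mod_four hG (by rw [hcard])
  · exact eng_two_primes hG 7 23 1 2 (by norm_num) (by norm_num) (hcard.trans (by norm_num))
  · exact eng_two_primes hG 2 463 3 1 (by norm_num) (by norm_num) (hcard.trans (by norm_num))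
  · exact eng_big_prime hG 19 (by norm_num) (by rw [hcard]; norm_num) (by rw [hcard]; norm_num) (by rw [hcard]; norm_num) (by rw [hcard]; norm_num)
  · exact eng_two_mod_four hG (by rw [hcard])
  · exact eng_two_primes hG 11 337 1 1 (by norm_num) (by norm_num) (hcard.trans (by norm_num))
  · exact eng_big_prime hG 103 (by norm_num) (by rw [hcard]; norm_num) (by rw [hcard]; norm_num) (by rw [hcard]; norm_num) (by rw [hcard]; norm_num)
  · exact eng_two_primes hG 3709 2 1 0 (by norm_num) (by norm_num) (hcard.trans (by norm_num))
  · exact eng_two_mod_four hG (by rw [hcard])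
  · exact eng_two_primes hG 3 1237 1 1 (by norm_num) (by norm_num) (hcard.trans (by norm_num))
  · exact eng_two_primes hG 2 29 7 1 (by norm_num) (by norm_num) (hcard.trans (by norm_num))
  · exact eng_two_primes hG 47 79 1 1 (by norm_num) (by norm_num) (hcard.trans (by norm_num))
  · exact eng_two_mod_four hG (by rw [hcard])
  · exact eng_two_primes hG 5 743 1 1 (by norm_num) (by norm_num) (hcard.trans (by norm_num))
  · exact eng_two_primes hG 2 929 2 1 (by norm_num) (by norm_num) (hcard.trans (by norm_num))
  · exact eng_big_prime hG 59 (by norm_num) (by rw [hcard]; norm_num) (by rw [hcard]; norm_num) (by rw [hcard]; norm_num) (by rw [hcard]; norm_num)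
  · exact eng_two_mod_four hG (by rw [hcard])
  · exact eng_two_primes hG 3719 2 1 0 (by norm_num) (by norm_num) (hcard.trans (by norm_num))
  · exact eng_big_prime hG 31 (by norm_num) (by rw [hcard]; norm_num) (by rw [hcard]; norm_num) (by rw [hcard]; norm_num) (by rw [hcard]; norm_num)
  · exact eng_two_primes hG 61 2 2 0 (by norm_num) (by norm_num) (hcard.trans (by norm_num))
  · exact eng_two_mod_four hG (by rw [hcard])
  · exact eng_big_prime hG 73 (by norm_num) (by rw [hcard]; norm_num) (by rw [hcard]; norm_num) (by rw [hcard]; norm_num) (by rw [hcard]; norm_num)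
  · exact eng_big_prime hG 19 (by norm_num) (by rw [hcard]; norm_num) (by rw [hcard]; norm_num) (by rw [hcard]; norm_num) (by rw [hcard]; norm_num)
  · exact eng_two_primes hG 5 149 2 1 (by norm_num) (by norm_num) (hcard.trans (by norm_num))
  · exact eng_two_mod_four hG (by rw [hcard])
  · exact eng_two_primes hG 3727 2 1 0 (by norm_num) (by norm_num) (hcard.trans (by norm_num))
  · exact eng_two_primes hG 2 233 4 1 (by norm_num) (by norm_num) (hcard.trans (by norm_num))
  · exact eng_big_prime hG 113 (by norm_num) (by rw [hcard]; norm_num) (by rw [hcard]; norm_num) (by rw [hcard]; norm_num) (by rw [hcard]; norm_num)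
  · exact eng_two_mod_four hG (by rw [hcard])
  · exact eng_big_prime hG 41 (by norm_num) (by rw [hcard]; norm_num) (by rw [hcard]; norm_num) (by rw [hcard]; norm_num) (by rw [hcard]; norm_num)
  · exact eng_big_prime hG 311 (by norm_num) (by rw [hcard]; norm_num) (by rw [hcard]; norm_num) (by rw [hcard]; norm_num) (by rw [hcard]; norm_num)
  · exact eng_two_primes hG 3733 2 1 0 (by norm_num) (by norm_num) (hcard.trans (by norm_num))
  · exact eng_two_mod_four hG (by rw [hcard])
  · exact eng_big_prime hG 83 (by norm_num) (by rw [hcard]; norm_num) (by rw [hcard]; norm_num) (by rw [hcard]; norm_num) (by rw [hcard]; norm_num)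
  · exact eng_two_primes hG 2 467 3 1 (by norm_num) (by norm_num) (hcard.trans (by norm_num))
  · exact eng_two_primes hG 37 101 1 1 (by norm_num) (by norm_num) (hcard.trans (by norm_num))
  · exact eng_two_mod_four hG (by rw [hcard])
  · exact eng_two_primes hG 3739 2 1 0 (by norm_num) (by norm_num) (hcard.trans (by norm_num))
  · exact eng_big_prime hG 17 (by norm_num) (by rw [hcard]; norm_num) (by rw [hcard]; norm_num) (by rw [hcard]; norm_num) (by rw [hcard]; norm_num)
  · exact eng_big_prime hG 43 (by norm_num) (by rw [hcard]; norm_num) (by rw [hcard]; norm_num) (by rw [hcard]; norm_num) (by rw [hcard]; norm_num)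
  · exact eng_two_mod_four hG (by rw [hcard])
  · exact eng_two_primes hG 19 197 1 1 (by norm_num) (by norm_num) (hcard.trans (by norm_num))
  · exact absurd hcard Cfsg.Agent.S0975.result
  · exact eng_big_prime hG 107 (by norm_num) (by rw [hcard]; norm_num) (by rw [hcard]; norm_num) (by rw [hcard]; norm_num) (by rw [hcard]; norm_num)
  · exact eng_two_mod_four hG (by rw [hcard])
  · exact eng_two_primes hG 3 1249 1 1 (by norm_num) (by norm_num) (hcard.trans (by norm_num))
  · exact eng_two_primes hG 2 937 2 1 (by norm_num) (by norm_num) (hcard.trans (by norm_num))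
  · exact eng_two_primes hG 23 163 1 1 (by norm_num) (by norm_num) (hcard.trans (by norm_num))
  · exact eng_two_mod_four hG (by rw [hcard])
  · exact eng_two_primes hG 11 31 2 1 (by norm_num) (by norm_num) (hcard.trans (by norm_num))
  · exact eng_big_prime hG 67 (by norm_num) (by rw [hcard]; norm_num) (by rw [hcard]; norm_num) (by rw [hcard]; norm_num) (by rw [hcard]; norm_num)
  · exact eng_two_primes hG 3 139 3 1 (by norm_num) (by norm_num) (hcard.trans (by norm_num))
  · exact eng_two_mod_four hG (by rw [hcard])
  · exact eng_two_primes hG 5 751 1 1 (by norm_num) (by norm_num) (hcard.trans (by norm_num))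
  · exact eng_big_prime hG 313 (by norm_num) (by rw [hcard]; norm_num) (by rw [hcard]; norm_num) (by rw [hcard]; norm_num) (by rw [hcard]; norm_num)
  · exact eng_two_primes hG 13 17 1 2 (by norm_num) (by norm_num) (hcard.trans (by norm_num))
  · exact eng_two_mod_four hG (by rw [hcard])
  · exact eng_big_prime hG 179 (by norm_num) (by rw [hcard]; norm_num) (by rw [hcard]; norm_num) (by rw [hcard]; norm_num) (by rw [hcard]; norm_num)
  · exact eng_big_prime hG 47 (by norm_num) (by rw [hcard]; norm_num) (by rw [hcard]; norm_num) (by rw [hcard]; norm_num) (by rw [hcard]; norm_num)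
  · exact eng_two_primes hG 3761 2 1 0 (by norm_num) (by norm_num) (hcard.trans (by norm_num))
  · exact eng_two_mod_four hG (by rw [hcard])
  · exact eng_two_primes hG 53 71 1 1 (by norm_num) (by norm_num) (hcard.trans (by norm_num))
  · exact eng_two_primes hG 2 941 2 1 (by norm_num) (by norm_num) (hcard.trans (by norm_num))
  · exact eng_big_prime hG 251 (by norm_num) (by rw [hcard]; norm_num) (by rw [hcard]; norm_num) (by rw [hcard]; norm_num) (by rw [hcard]; norm_num)
  · exact eng_two_mod_four hG (by rw [hcard])
  · exact eng_two_primes hG 3767 2 1 0 (by norm_num) (by norm_num) (hcard.trans (by norm_num))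
  · exact eng_big_prime hG 157 (by norm_num) (by rw [hcard]; norm_num) (by rw [hcard]; norm_num) (by rw [hcard]; norm_num) (by rw [hcard]; norm_num)
  · exact eng_two_primes hG 3769 2 1 0 (by norm_num) (by norm_num) (hcard.trans (by norm_num))
  · exact eng_two_mod_four hG (by rw [hcard])
  · exact eng_two_primes hG 3 419 2 1 (by norm_num) (by norm_num) (hcard.trans (by norm_num))
  · exact eng_big_prime hG 41 (by norm_num) (by rw [hcard]; norm_num) (by rw [hcard]; norm_num) (by rw [hcard]; norm_num) (by rw [hcard]; norm_num)
  · exact eng_two_primes hG 7 11 3 1 (by norm_num) (by norm_num) (hcard.trans (by norm_num))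
  · exact eng_two_mod_four hG (by rw [hcard])
  · exact eng_two_primes hG 5 151 2 1 (by norm_num) (by norm_num) (hcard.trans (by norm_num))
  · exact eng_two_primes hG 2 59 6 1 (by norm_num) (by norm_num) (hcard.trans (by norm_num))
  · exact eng_two_primes hG 3 1259 1 1 (by norm_num) (by norm_num) (hcard.trans (by norm_num))
  · exact eng_two_mod_four hG (by rw [hcard])
  · exact eng_two_primes hG 3779 2 1 0 (by norm_num) (by norm_num) (hcard.trans (by norm_num))
  · exact absurd hcard o3780
  · exact eng_two_primes hG 19 199 1 1 (by norm_num) (by norm_num) (hcard.trans (by norm_num))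
  · exact eng_two_mod_four hG (by rw [hcard])
  · exact eng_big_prime hG 97 (by norm_num) (by rw [hcard]; norm_num) (by rw [hcard]; norm_num) (by rw [hcard]; norm_num) (by rw [hcard]; norm_num)
  · exact eng_big_prime hG 43 (by norm_num) (by rw [hcard]; norm_num) (by rw [hcard]; norm_num) (by rw [hcard]; norm_num) (by rw [hcard]; norm_num)
  · exact eng_two_primes hG 5 757 1 1 (by norm_num) (by norm_num) (hcard.trans (by norm_num))
  · exact eng_two_mod_four hG (by rw [hcard])
  · exact eng_two_primes hG 7 541 1 1 (by norm_num) (by norm_num) (hcard.trans (by norm_num))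
  · exact eng_two_primes hG 2 947 2 1 (by norm_num) (by norm_num) (hcard.trans (by norm_num))
  · exact eng_two_primes hG 3 421 2 1 (by norm_num) (by norm_num) (hcard.trans (by norm_num))
  · exact eng_two_mod_four hG (by rw [hcard])
  · exact eng_two_primes hG 17 223 1 1 (by norm_num) (by norm_num) (hcard.trans (by norm_num))
  · exact eng_big_prime hG 79 (by norm_num) (by rw [hcard]; norm_num) (by rw [hcard]; norm_num) (by rw [hcard]; norm_num) (by rw [hcard]; norm_num)
  · exact eng_two_primes hG 3793 2 1 0 (by norm_num) (by norm_num) (hcard.trans (by norm_num))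
  · exact eng_two_mod_four hG (by rw [hcard])
  · exact eng_big_prime hG 23 (by norm_num) (by rw [hcard]; norm_num) (by rw [hcard]; norm_num) (by rw [hcard]; norm_num) (by rw [hcard]; norm_num)
  · exact eng_big_prime hG 73 (by norm_num) (by rw [hcard]; norm_num) (by rw [hcard]; norm_num) (by rw [hcard]; norm_num) (by rw [hcard]; norm_num)
  · exact eng_two_primes hG 3797 2 1 0 (by norm_num) (by norm_num) (hcard.trans (by norm_num))
  · exact eng_two_mod_four hG (by rw [hcard])
  · exact eng_two_primes hG 29 131 1 1 (by norm_num) (by norm_num) (hcard.trans (by norm_num))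
  · exact eng_big_prime hG 19 (by norm_num) (by rw [hcard]; norm_num) (by rw [hcard]; norm_num) (by rw [hcard]; norm_num) (by rw [hcard]; norm_num)
  · exact eng_big_prime hG 181 (by norm_num) (by rw [hcard]; norm_num) (by rw [hcard]; norm_num) (by rw [hcard]; norm_num) (by rw [hcard]; norm_num)
  · exact eng_two_mod_four hG (by rw [hcard])
  · exact eng_two_primes hG 3803 2 1 0 (by norm_num) (by norm_num) (hcard.trans (by norm_num))
  · exact eng_big_prime hG 317 (by norm_num) (by rw [hcard]; norm_num) (by rw [hcard]; norm_num) (by rw [hcard]; norm_num) (by rw [hcard]; norm_num)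
  · exact eng_two_primes hG 5 761 1 1 (by norm_num) (by norm_num) (hcard.trans (by norm_num))
  · exact eng_two_mod_four hG (by rw [hcard])
  · exact eng_two_primes hG 3 47 4 1 (by norm_num) (by norm_num) (hcard.trans (by norm_num))
  · exact eng_big_prime hG 17 (by norm_num) (by rw [hcard]; norm_num) (by rw [hcard]; norm_num) (by rw [hcard]; norm_num) (by rw [hcard]; norm_num)
  · exact eng_two_primes hG 13 293 1 1 (by norm_num) (by norm_num) (hcard.trans (by norm_num))
  · exact eng_two_mod_four hG (by rw [hcard])
  · exact eng_two_primes hG 37 103 1 1 (by norm_num) (by norm_num) (hcard.trans (by norm_num))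
  · exact eng_two_primes hG 2 953 2 1 (by norm_num) (by norm_num) (hcard.trans (by norm_num))
  · exact eng_big_prime hG 41 (by norm_num) (by rw [hcard]; norm_num) (by rw [hcard]; norm_num) (by rw [hcard]; norm_num) (by rw [hcard]; norm_num)
  · exact eng_two_mod_four hG (by rw [hcard])
  · exact eng_big_prime hG 109 (by norm_num) (by rw [hcard]; norm_num) (by rw [hcard]; norm_num) (by rw [hcard]; norm_num) (by rw [hcard]; norm_num)
  · exact eng_big_prime hG 53 (by norm_num) (by rw [hcard]; norm_num) (by rw [hcard]; norm_num) (by rw [hcard]; norm_num) (by rw [hcard]; norm_num)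
  · exact eng_two_primes hG 11 347 1 1 (by norm_num) (by norm_num) (hcard.trans (by norm_num))
  · exact eng_two_mod_four hG (by rw [hcard])
  · exact eng_big_prime hG 67 (by norm_num) (by rw [hcard]; norm_num) (by rw [hcard]; norm_num) (by rw [hcard]; norm_num) (by rw [hcard]; norm_num)
  · exact eng_big_prime hG 191 (by norm_num) (by rw [hcard]; norm_num) (by rw [hcard]; norm_num) (by rw [hcard]; norm_num) (by rw [hcard]; norm_num)
  · exact eng_two_primes hG 3821 2 1 0 (by norm_num) (by norm_num) (hcard.trans (by norm_num))
  · exact eng_two_mod_four hG (by rw [hcard])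
  · exact eng_two_primes hG 3823 2 1 0 (by norm_num) (by norm_num) (hcard.trans (by norm_num))
  · exact eng_two_primes hG 2 239 4 1 (by norm_num) (by norm_num) (hcard.trans (by norm_num))
  · exact eng_big_prime hG 17 (by norm_num) (by rw [hcard]; norm_num) (by rw [hcard]; norm_num) (by rw [hcard]; norm_num) (by rw [hcard]; norm_num)
  · exact eng_two_mod_four hG (by rw [hcard])
  · exact eng_two_primes hG 43 89 1 1 (by norm_num) (by norm_num) (hcard.trans (by norm_num))
  · exact eng_big_prime hG 29 (by norm_num) (by rw [hcard]; norm_num) (by rw [hcard]; norm_num) (by rw [hcard]; norm_num) (by rw [hcard]; norm_num)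
  · exact eng_two_primes hG 7 547 1 1 (by norm_num) (by norm_num) (hcard.trans (by norm_num))
  · exact eng_two_mod_four hG (by rw [hcard])
  · exact eng_two_primes hG 3 1277 1 1 (by norm_num) (by norm_num) (hcard.trans (by norm_num))
  · exact eng_two_primes hG 2 479 3 1 (by norm_num) (by norm_num) (hcard.trans (by norm_num))
  · exact eng_two_primes hG 3833 2 1 0 (by norm_num) (by norm_num) (hcard.trans (by norm_num))
  · exact eng_two_mod_four hG (by rw [hcard])
  · exact eng_big_prime hG 59 (by norm_num) (by rw [hcard]; norm_num) (by rw [hcard]; norm_num) (by rw [hcard]; norm_num) (by rw [hcard]; norm_num)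
  · exact eng_big_prime hG 137 (by norm_num) (by rw [hcard]; norm_num) (by rw [hcard]; norm_num) (by rw [hcard]; norm_num) (by rw [hcard]; norm_num)
  · exact eng_two_primes hG 3 1279 1 1 (by norm_num) (by norm_num) (hcard.trans (by norm_num))
  · exact eng_two_mod_four hG (by rw [hcard])
  · exact eng_two_primes hG 11 349 1 1 (by norm_num) (by norm_num) (hcard.trans (by norm_num))
  · exact kill_three hG 3840 5 768 2 3 8 1 hcard (by norm_num) (by norm_num) (by norm_num) (by norm_num) (by norm_num) (by norm_num) (by norm_num) (by norm_num) (by norm_num) (by norm_num) (by norm_num) (by decide +kernel)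
  · exact eng_two_primes hG 23 167 1 1 (by norm_num) (by norm_num) (hcard.trans (by norm_num))
  · exact eng_two_mod_four hG (by rw [hcard])
  · exact eng_big_prime hG 61 (by norm_num) (by rw [hcard]; norm_num) (by rw [hcard]; norm_num) (by rw [hcard]; norm_num) (by rw [hcard]; norm_num)
  · exact eng_two_primes hG 2 31 2 2 (by norm_num) (by norm_num) (hcard.trans (by norm_num))
  · exact eng_two_primes hG 5 769 1 1 (by norm_num) (by norm_num) (hcard.trans (by norm_num))
  · exact eng_two_mod_four hG (by rw [hcard])
  · exact eng_two_primes hG 3847 2 1 0 (by norm_num) (by norm_num) (hcard.trans (by norm_num))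
  · exact eng_big_prime hG 37 (by norm_num) (by rw [hcard]; norm_num) (by rw [hcard]; norm_num) (by rw [hcard]; norm_num) (by rw [hcard]; norm_num)
  · exact eng_two_primes hG 3 1283 1 1 (by norm_num) (by norm_num) (hcard.trans (by norm_num))
  · exact eng_two_mod_four hG (by rw [hcard])
  · exact eng_two_primes hG 3851 2 1 0 (by norm_num) (by norm_num) (hcard.trans (by norm_num))
  · exact eng_big_prime hG 107 (by norm_num) (by rw [hcard]; norm_num) (by rw [hcard]; norm_num) (by rw [hcard]; norm_num) (by rw [hcard]; norm_num)
  · exact eng_two_primes hG 3853 2 1 0 (by norm_num) (by norm_num) (hcard.trans (by norm_num))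
  · exact eng_two_mod_four hG (by rw [hcard])
  · exact eng_big_prime hG 257 (by norm_num) (by rw [hcard]; norm_num) (by rw [hcard]; norm_num) (by rw [hcard]; norm_num) (by rw [hcard]; norm_num)
  · exact eng_two_primes hG 2 241 4 1 (by norm_num) (by norm_num) (hcard.trans (by norm_num))
  · exact eng_big_prime hG 29 (by norm_num) (by rw [hcard]; norm_num) (by rw [hcard]; norm_num) (by rw [hcard]; norm_num) (by rw [hcard]; norm_num)
  · exact eng_two_mod_four hG (by rw [hcard])
  · exact eng_two_primes hG 17 227 1 1 (by norm_num) (by norm_num) (hcard.trans (by norm_num))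
  · exact eng_big_prime hG 193 (by norm_num) (by rw [hcard]; norm_num) (by rw [hcard]; norm_num) (by rw [hcard]; norm_num) (by rw [hcard]; norm_num)
  · exact kill_basic hG 3861 11 1 351 hcard (by norm_num) (by norm_num) (by norm_num) (by norm_num) (by norm_num) (by norm_num) (by decide +kernel)
  · exact eng_two_mod_four hG (by rw [hcard])
  · exact eng_two_primes hG 3863 2 1 0 (by norm_num) (by norm_num) (hcard.trans (by norm_num))
  · exact eng_big_prime hG 23 (by norm_num) (by rw [hcard]; norm_num) (by rw [hcard]; norm_num) (by rw [hcard]; norm_num) (by rw [hcard]; norm_num)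
  · exact eng_two_primes hG 5 773 1 1 (by norm_num) (by norm_num) (hcard.trans (by norm_num))
  · exact eng_two_mod_four hG (by rw [hcard])
  · exact eng_two_primes hG 3 1289 1 1 (by norm_num) (by norm_num) (hcard.trans (by norm_num))
  · exact eng_two_primes hG 2 967 2 1 (by norm_num) (by norm_num) (hcard.trans (by norm_num))
  · exact eng_two_primes hG 53 73 1 1 (by norm_num) (by norm_num) (hcard.trans (by norm_num))
  · exact eng_two_mod_four hG (by rw [hcard])
  · exact eng_two_primes hG 7 79 2 1 (by norm_num) (by norm_num) (hcard.trans (by norm_num))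
  · exact eng_two_primes hG 2 11 5 2 (by norm_num) (by norm_num) (hcard.trans (by norm_num))
  · exact eng_two_primes hG 3 1291 1 1 (by norm_num) (by norm_num) (hcard.trans (by norm_num))
  · exact eng_two_mod_four hG (by rw [hcard])
  · exact eng_two_primes hG 5 31 3 1 (by norm_num) (by norm_num) (hcard.trans (by norm_num))
  · exact eng_big_prime hG 19 (by norm_num) (by rw [hcard]; norm_num) (by rw [hcard]; norm_num) (by rw [hcard]; norm_num) (by rw [hcard]; norm_num)
  · exact eng_two_primes hG 3877 2 1 0 (by norm_num) (by norm_num) (hcard.trans (by norm_num))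
  · exact eng_two_mod_four hG (by rw [hcard])
  · exact eng_two_primes hG 3 431 2 1 (by norm_num) (by norm_num) (hcard.trans (by norm_num))
  · exact eng_big_prime hG 97 (by norm_num) (by rw [hcard]; norm_num) (by rw [hcard]; norm_num) (by rw [hcard]; norm_num) (by rw [hcard]; norm_num)
  · exact eng_two_primes hG 3881 2 1 0 (by norm_num) (by norm_num) (hcard.trans (by norm_num))
  · exact eng_two_mod_four hG (by rw [hcard])
  · exact eng_two_primes hG 11 353 1 1 (by norm_num) (by norm_num) (hcard.trans (by norm_num))
  · exact eng_two_primes hG 2 971 2 1 (by norm_num) (by norm_num) (hcard.trans (by norm_num))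
  · exact eng_big_prime hG 37 (by norm_num) (by rw [hcard]; norm_num) (by rw [hcard]; norm_num) (by rw [hcard]; norm_num) (by rw [hcard]; norm_num)
  · exact eng_two_mod_four hG (by rw [hcard])
  · exact eng_two_primes hG 13 23 2 1 (by norm_num) (by norm_num) (hcard.trans (by norm_num))
  · exact eng_two_primes hG 2 3 4 5 (by norm_num) (by norm_num) (hcard.trans (by norm_num))
  · exact eng_two_primes hG 3889 2 1 0 (by norm_num) (by norm_num) (hcard.trans (by norm_num))
  · exact eng_two_mod_four hG (by rw [hcard])
  · exact eng_two_primes hG 3 1297 1 1 (by norm_num) (by norm_num) (hcard.trans (by norm_num))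
  · exact eng_big_prime hG 139 (by norm_num) (by rw [hcard]; norm_num) (by rw [hcard]; norm_num) (by rw [hcard]; norm_num) (by rw [hcard]; norm_num)
  · exact eng_two_primes hG 17 229 1 1 (by norm_num) (by norm_num) (hcard.trans (by norm_num))
  · exact eng_two_mod_four hG (by rw [hcard])
  · exact eng_big_prime hG 41 (by norm_num) (by rw [hcard]; norm_num) (by rw [hcard]; norm_num) (by rw [hcard]; norm_num) (by rw [hcard]; norm_num)
  · exact eng_two_primes hG 2 487 3 1 (by norm_num) (by norm_num) (hcard.trans (by norm_num))
  · exact eng_two_primes hG 3 433 2 1 (by norm_num) (by norm_num) (hcard.trans (by norm_num))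
  · exact eng_two_mod_four hG (by rw [hcard])
  · exact eng_two_primes hG 7 557 1 1 (by norm_num) (by norm_num) (hcard.trans (by norm_num))
  · exact kill_one hG 3900 13 300 hcard (by norm_num) (by norm_num) (by norm_num) (by norm_num) (by norm_num) (by norm_num) (by decide +kernel)

end Cfsg.Agent.Helper82
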