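import Cfsg.Agent.Helper82.OrdEngine
import Cfsg.Agent.Helper82.OrdAdhoc

/-! # S0983: orders 5981 to 6232 (generated; helper82) -/

set_option autoImplicit false
set_option maxHeartbeats 0
set_option maxRecDepth 100000

namespace Cfsg.Agent.Helper82

theorem ord_chunk10 {G : Type*} [Group G] [Finite G] [IsSimpleGroup G]
    (hG : ¬ IsMulCommutative G) (n : ℕ) (hcard : Nat.card G = n) (h1 : 5981 ≤ n) (h2 : n ≤ 6232)
    (e1 : n ≠ 4080) (e2 : n ≠ 5616) (e3 : n ≠ 6048) (e4 : n ≠ 6072) : False := by
  interval_cases n
  · exact eng_two_primes hG 5981 2 1 0 (by norm_num) (by norm_num) (hcard.trans (by norm_num))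
  · exact eng_two_mod_four hG (by rw [hcard])
  · exact eng_two_primes hG 31 193 1 1 (by norm_num) (by norm_num) (hcard.trans (by norm_num))
  · exact kill_basic hG 5984 17 1 352 hcard (by norm_num) (by norm_num) (by norm_num) (by norm_num) (by norm_num) (by norm_num) (by decide +kernel)
  · exact eng_big_prime hG 19 (by norm_num) (by rw [hcard]; norm_num) (by rw [hcard]; norm_num) (by rw [hcard]; norm_num) (by rw [hcard]; norm_num)
  · exact eng_two_mod_four hG (by rw [hcard])
  · exact eng_two_primes hG 5987 2 1 0 (by norm_num) (by norm_num) (hcard.trans (by norm_num))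
  · exact eng_big_prime hG 499 (by norm_num) (by rw [hcard]; norm_num) (by rw [hcard]; norm_num) (by rw [hcard]; norm_num) (by rw [hcard]; norm_num)
  · exact eng_two_primes hG 53 113 1 1 (by norm_num) (by norm_num) (hcard.trans (by norm_num))
  · exact eng_two_mod_four hG (by rw [hcard])
  · exact eng_two_primes hG 3 1997 1 1 (by norm_num) (by norm_num) (hcard.trans (by norm_num))
  · exact eng_big_prime hG 107 (by norm_num) (by rw [hcard]; norm_num) (by rw [hcard]; norm_num) (by rw [hcard]; norm_num) (by rw [hcard]; norm_num)
  · exact eng_two_primes hG 13 461 1 1 (by norm_num) (by norm_num) (hcard.trans (by norm_num))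
  · exact eng_two_mod_four hG (by rw [hcard])
  · exact eng_big_prime hG 109 (by norm_num) (by rw [hcard]; norm_num) (by rw [hcard]; norm_num) (by rw [hcard]; norm_num) (by rw [hcard]; norm_num)
  · exact eng_two_primes hG 2 1499 2 1 (by norm_num) (by norm_num) (hcard.trans (by norm_num))
  · exact eng_two_primes hG 3 1999 1 1 (by norm_num) (by norm_num) (hcard.trans (by norm_num))
  · exact eng_two_mod_four hG (by rw [hcard])
  · exact eng_two_primes hG 7 857 1 1 (by norm_num) (by norm_num) (hcard.trans (by norm_num))
  · exact kill_sq hG 6000 5 3 48 hcard (by norm_num) (by norm_num) (by norm_num) (by norm_num) (by norm_num) (by norm_num) (by decide +kernel)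
  · exact eng_two_primes hG 17 353 1 1 (by norm_num) (by norm_num) (hcard.trans (by norm_num))
  · exact eng_two_mod_four hG (by rw [hcard])
  · exact eng_big_prime hG 29 (by norm_num) (by rw [hcard]; norm_num) (by rw [hcard]; norm_num) (by rw [hcard]; norm_num) (by rw [hcard]; norm_num)
  · exact eng_big_prime hG 79 (by norm_num) (by rw [hcard]; norm_num) (by rw [hcard]; norm_num) (by rw [hcard]; norm_num) (by rw [hcard]; norm_num)
  · exact eng_two_primes hG 5 1201 1 1 (by norm_num) (by norm_num) (hcard.trans (by norm_num))
  · exact eng_two_mod_four hG (by rw [hcard])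
  · exact eng_two_primes hG 6007 2 1 0 (by norm_num) (by norm_num) (hcard.trans (by norm_num))
  · exact eng_two_primes hG 2 751 3 1 (by norm_num) (by norm_num) (hcard.trans (by norm_num))
  · exact eng_two_primes hG 3 2003 1 1 (by norm_num) (by norm_num) (hcard.trans (by norm_num))
  · exact eng_two_mod_four hG (by rw [hcard])
  · exact eng_two_primes hG 6011 2 1 0 (by norm_num) (by norm_num) (hcard.trans (by norm_num))
  · exact eng_big_prime hG 167 (by norm_num) (by rw [hcard]; norm_num) (by rw [hcard]; norm_num) (by rw [hcard]; norm_num) (by rw [hcard]; norm_num)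
  · exact eng_two_primes hG 7 859 1 1 (by norm_num) (by norm_num) (hcard.trans (by norm_num))
  · exact eng_two_mod_four hG (by rw [hcard])
  · exact eng_big_prime hG 401 (by norm_num) (by rw [hcard]; norm_num) (by rw [hcard]; norm_num) (by rw [hcard]; norm_num) (by rw [hcard]; norm_num)
  · exact eng_two_primes hG 2 47 7 1 (by norm_num) (by norm_num) (hcard.trans (by norm_num))
  · exact eng_two_primes hG 11 547 1 1 (by norm_num) (by norm_num) (hcard.trans (by norm_num))
  · exact eng_two_mod_four hG (by rw [hcard])
  · exact eng_two_primes hG 13 463 1 1 (by norm_num) (by norm_num) (hcard.trans (by norm_num))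
  · exact eng_big_prime hG 43 (by norm_num) (by rw [hcard]; norm_num) (by rw [hcard]; norm_num) (by rw [hcard]; norm_num) (by rw [hcard]; norm_num)
  · exact eng_two_primes hG 3 223 3 1 (by norm_num) (by norm_num) (hcard.trans (by norm_num))
  · exact eng_two_mod_four hG (by rw [hcard])
  · exact eng_two_primes hG 19 317 1 1 (by norm_num) (by norm_num) (hcard.trans (by norm_num))
  · exact eng_big_prime hG 251 (by norm_num) (by rw [hcard]; norm_num) (by rw [hcard]; norm_num) (by rw [hcard]; norm_num) (by rw [hcard]; norm_num)
  · exact eng_two_primes hG 5 241 2 1 (by norm_num) (by norm_num) (hcard.trans (by norm_num))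
  · exact eng_two_mod_four hG (by rw [hcard])
  · exact eng_big_prime hG 41 (by norm_num) (by rw [hcard]; norm_num) (by rw [hcard]; norm_num) (by rw [hcard]; norm_num) (by rw [hcard]; norm_num)
  · exact eng_big_prime hG 137 (by norm_num) (by rw [hcard]; norm_num) (by rw [hcard]; norm_num) (by rw [hcard]; norm_num) (by rw [hcard]; norm_num)
  · exact eng_two_primes hG 6029 2 1 0 (by norm_num) (by norm_num) (hcard.trans (by norm_num))
  · exact eng_two_mod_four hG (by rw [hcard])
  · exact eng_two_primes hG 37 163 1 1 (by norm_num) (by norm_num) (hcard.trans (by norm_num))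
  · exact eng_big_prime hG 29 (by norm_num) (by rw [hcard]; norm_num) (by rw [hcard]; norm_num) (by rw [hcard]; norm_num) (by rw [hcard]; norm_num)
  · exact eng_two_primes hG 3 2011 1 1 (by norm_num) (by norm_num) (hcard.trans (by norm_num))
  · exact eng_two_mod_four hG (by rw [hcard])
  · exact eng_big_prime hG 71 (by norm_num) (by rw [hcard]; norm_num) (by rw [hcard]; norm_num) (by rw [hcard]; norm_num) (by rw [hcard]; norm_num)
  · exact eng_big_prime hG 503 (by norm_num) (by rw [hcard]; norm_num) (by rw [hcard]; norm_num) (by rw [hcard]; norm_num) (by rw [hcard]; norm_num)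
  · exact eng_two_primes hG 6037 2 1 0 (by norm_num) (by norm_num) (hcard.trans (by norm_num))
  · exact eng_two_mod_four hG (by rw [hcard])
  · exact eng_big_prime hG 61 (by norm_num) (by rw [hcard]; norm_num) (by rw [hcard]; norm_num) (by rw [hcard]; norm_num) (by rw [hcard]; norm_num)
  · exact eng_big_prime hG 151 (by norm_num) (by rw [hcard]; norm_num) (by rw [hcard]; norm_num) (by rw [hcard]; norm_num) (by rw [hcard]; norm_num)
  · exact eng_two_primes hG 7 863 1 1 (by norm_num) (by norm_num) (hcard.trans (by norm_num))
  · exact eng_two_mod_four hG (by rw [hcard])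
  · exact eng_two_primes hG 6043 2 1 0 (by norm_num) (by norm_num) (hcard.trans (by norm_num))
  · exact eng_two_primes hG 2 1511 2 1 (by norm_num) (by norm_num) (hcard.trans (by norm_num))
  · exact eng_big_prime hG 31 (by norm_num) (by rw [hcard]; norm_num) (by rw [hcard]; norm_num) (by rw [hcard]; norm_num) (by rw [hcard]; norm_num)
  · exact eng_two_mod_four hG (by rw [hcard])
  · exact eng_two_primes hG 6047 2 1 0 (by norm_num) (by norm_num) (hcard.trans (by norm_num))
  · exact absurd rfl e3
  · exact eng_two_primes hG 23 263 1 1 (by norm_num) (by norm_num) (hcard.trans (by norm_num))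
  · exact eng_two_mod_four hG (by rw [hcard])
  · exact eng_two_primes hG 3 2017 1 1 (by norm_num) (by norm_num) (hcard.trans (by norm_num))
  · exact eng_big_prime hG 89 (by norm_num) (by rw [hcard]; norm_num) (by rw [hcard]; norm_num) (by rw [hcard]; norm_num) (by rw [hcard]; norm_num)
  · exact eng_two_primes hG 6053 2 1 0 (by norm_num) (by norm_num) (hcard.trans (by norm_num))
  · exact eng_two_mod_four hG (by rw [hcard])
  · exact eng_big_prime hG 173 (by norm_num) (by rw [hcard]; norm_num) (by rw [hcard]; norm_num) (by rw [hcard]; norm_num) (by rw [hcard]; norm_num)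
  · exact eng_two_primes hG 2 757 3 1 (by norm_num) (by norm_num) (hcard.trans (by norm_num))
  · exact eng_two_primes hG 3 673 2 1 (by norm_num) (by norm_num) (hcard.trans (by norm_num))
  · exact eng_two_mod_four hG (by rw [hcard])
  · exact eng_two_primes hG 73 83 1 1 (by norm_num) (by norm_num) (hcard.trans (by norm_num))
  · exact eng_big_prime hG 101 (by norm_num) (by rw [hcard]; norm_num) (by rw [hcard]; norm_num) (by rw [hcard]; norm_num) (by rw [hcard]; norm_num)
  · exact eng_big_prime hG 29 (by norm_num) (by rw [hcard]; norm_num) (by rw [hcard]; norm_num) (by rw [hcard]; norm_num) (by rw [hcard]; norm_num)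
  · exact eng_two_mod_four hG (by rw [hcard])
  · exact eng_big_prime hG 47 (by norm_num) (by rw [hcard]; norm_num) (by rw [hcard]; norm_num) (by rw [hcard]; norm_num) (by rw [hcard]; norm_num)
  · exact eng_two_primes hG 2 379 4 1 (by norm_num) (by norm_num) (hcard.trans (by norm_num))
  · exact eng_two_primes hG 5 1213 1 1 (by norm_num) (by norm_num) (hcard.trans (by norm_num))
  · exact eng_two_mod_four hG (by rw [hcard])
  · exact eng_two_primes hG 6067 2 1 0 (by norm_num) (by norm_num) (hcard.trans (by norm_num))
  · exact eng_big_prime hG 41 (by norm_num) (by rw [hcard]; norm_num) (by rw [hcard]; norm_num) (by rw [hcard]; norm_num) (by rw [hcard]; norm_num)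
  · exact kill_basic hG 6069 17 2 21 hcard (by norm_num) (by norm_num) (by norm_num) (by norm_num) (by norm_num) (by norm_num) (by decide +kernel)
  · exact eng_two_mod_four hG (by rw [hcard])
  · exact eng_two_primes hG 13 467 1 1 (by norm_num) (by norm_num) (hcard.trans (by norm_num))
  · exact absurd rfl e4
  · exact eng_two_primes hG 6073 2 1 0 (by norm_num) (by norm_num) (hcard.trans (by norm_num))
  · exact eng_two_mod_four hG (by rw [hcard])
  · exact eng_two_primes hG 3 5 5 2 (by norm_num) (by norm_num) (hcard.trans (by norm_num))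
  · exact eng_big_prime hG 31 (by norm_num) (by rw [hcard]; norm_num) (by rw [hcard]; norm_num) (by rw [hcard]; norm_num) (by rw [hcard]; norm_num)
  · exact eng_two_primes hG 59 103 1 1 (by norm_num) (by norm_num) (hcard.trans (by norm_num))
  · exact eng_two_mod_four hG (by rw [hcard])
  · exact eng_two_primes hG 6079 2 1 0 (by norm_num) (by norm_num) (hcard.trans (by norm_num))
  · exact eng_big_prime hG 19 (by norm_num) (by rw [hcard]; norm_num) (by rw [hcard]; norm_num) (by rw [hcard]; norm_num) (by rw [hcard]; norm_num)
  · exact eng_two_primes hG 3 2027 1 1 (by norm_num) (by norm_num) (hcard.trans (by norm_num))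
  · exact eng_two_mod_four hG (by rw [hcard])
  · exact eng_big_prime hG 79 (by norm_num) (by rw [hcard]; norm_num) (by rw [hcard]; norm_num) (by rw [hcard]; norm_num) (by rw [hcard]; norm_num)
  · exact kill_basic hG 6084 13 2 36 hcard (by norm_num) (by norm_num) (by norm_num) (by norm_num) (by norm_num) (by norm_num) (by decide +kernel)
  · exact eng_two_primes hG 5 1217 1 1 (by norm_num) (by norm_num) (hcard.trans (by norm_num))
  · exact eng_two_mod_four hG (by rw [hcard])
  · exact eng_two_primes hG 3 2029 1 1 (by norm_num) (by norm_num) (hcard.trans (by norm_num))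
  · exact eng_two_primes hG 2 761 3 1 (by norm_num) (by norm_num) (hcard.trans (by norm_num))
  · exact eng_two_primes hG 6089 2 1 0 (by norm_num) (by norm_num) (hcard.trans (by norm_num))
  · exact eng_two_mod_four hG (by rw [hcard])
  · exact eng_two_primes hG 6091 2 1 0 (by norm_num) (by norm_num) (hcard.trans (by norm_num))
  · exact eng_two_primes hG 2 1523 2 1 (by norm_num) (by norm_num) (hcard.trans (by norm_num))
  · exact eng_two_primes hG 3 677 2 1 (by norm_num) (by norm_num) (hcard.trans (by norm_num))
  · exact eng_two_mod_four hG (by rw [hcard])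
  · exact eng_big_prime hG 53 (by norm_num) (by rw [hcard]; norm_num) (by rw [hcard]; norm_num) (by rw [hcard]; norm_num) (by rw [hcard]; norm_num)
  · exact eng_big_prime hG 127 (by norm_num) (by rw [hcard]; norm_num) (by rw [hcard]; norm_num) (by rw [hcard]; norm_num) (by rw [hcard]; norm_num)
  · exact eng_big_prime hG 67 (by norm_num) (by rw [hcard]; norm_num) (by rw [hcard]; norm_num) (by rw [hcard]; norm_num) (by rw [hcard]; norm_num)
  · exact eng_two_mod_four hG (by rw [hcard])
  · exact eng_big_prime hG 107 (by norm_num) (by rw [hcard]; norm_num) (by rw [hcard]; norm_num) (by rw [hcard]; norm_num) (by rw [hcard]; norm_num)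
  · exact eng_big_prime hG 61 (by norm_num) (by rw [hcard]; norm_num) (by rw [hcard]; norm_num) (by rw [hcard]; norm_num) (by rw [hcard]; norm_num)
  · exact eng_two_primes hG 6101 2 1 0 (by norm_num) (by norm_num) (hcard.trans (by norm_num))
  · exact eng_two_mod_four hG (by rw [hcard])
  · exact eng_two_primes hG 17 359 1 1 (by norm_num) (by norm_num) (hcard.trans (by norm_num))
  · exact eng_big_prime hG 109 (by norm_num) (by rw [hcard]; norm_num) (by rw [hcard]; norm_num) (by rw [hcard]; norm_num) (by rw [hcard]; norm_num)
  · exact eng_big_prime hG 37 (by norm_num) (by rw [hcard]; norm_num) (by rw [hcard]; norm_num) (by rw [hcard]; norm_num) (by rw [hcard]; norm_num)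
  · exact eng_two_mod_four hG (by rw [hcard])
  · exact eng_two_primes hG 31 197 1 1 (by norm_num) (by norm_num) (hcard.trans (by norm_num))
  · exact eng_big_prime hG 509 (by norm_num) (by rw [hcard]; norm_num) (by rw [hcard]; norm_num) (by rw [hcard]; norm_num) (by rw [hcard]; norm_num)
  · exact eng_two_primes hG 41 149 1 1 (by norm_num) (by norm_num) (hcard.trans (by norm_num))
  · exact eng_two_mod_four hG (by rw [hcard])
  · exact eng_big_prime hG 97 (by norm_num) (by rw [hcard]; norm_num) (by rw [hcard]; norm_num) (by rw [hcard]; norm_num) (by rw [hcard]; norm_num)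
  · exact eng_two_primes hG 2 191 5 1 (by norm_num) (by norm_num) (hcard.trans (by norm_num))
  · exact eng_two_primes hG 6113 2 1 0 (by norm_num) (by norm_num) (hcard.trans (by norm_num))
  · exact eng_two_mod_four hG (by rw [hcard])
  · exact eng_two_primes hG 5 1223 1 1 (by norm_num) (by norm_num) (hcard.trans (by norm_num))
  · exact eng_big_prime hG 139 (by norm_num) (by rw [hcard]; norm_num) (by rw [hcard]; norm_num) (by rw [hcard]; norm_num) (by rw [hcard]; norm_num)
  · exact eng_two_primes hG 3 2039 1 1 (by norm_num) (by norm_num) (hcard.trans (by norm_num))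
  · exact eng_two_mod_four hG (by rw [hcard])
  · exact eng_two_primes hG 29 211 1 1 (by norm_num) (by norm_num) (hcard.trans (by norm_num))
  · exact kill_one hG 6120 17 360 hcard (by norm_num) (by norm_num) (by norm_num) (by norm_num) (by norm_num) (by norm_num) (by decide +kernel)
  · exact eng_two_primes hG 6121 2 1 0 (by norm_num) (by norm_num) (hcard.trans (by norm_num))
  · exact eng_two_mod_four hG (by rw [hcard])
  · exact eng_big_prime hG 157 (by norm_num) (by rw [hcard]; norm_num) (by rw [hcard]; norm_num) (by rw [hcard]; norm_num) (by rw [hcard]; norm_num)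
  · exact eng_two_primes hG 2 1531 2 1 (by norm_num) (by norm_num) (hcard.trans (by norm_num))
  · exact eng_two_primes hG 5 7 3 2 (by norm_num) (by norm_num) (hcard.trans (by norm_num))
  · exact eng_two_mod_four hG (by rw [hcard])
  · exact eng_two_primes hG 11 557 1 1 (by norm_num) (by norm_num) (hcard.trans (by norm_num))
  · exact eng_two_primes hG 2 383 4 1 (by norm_num) (by norm_num) (hcard.trans (by norm_num))
  · exact eng_two_primes hG 3 227 3 1 (by norm_num) (by norm_num) (hcard.trans (by norm_num))
  · exact eng_two_mod_four hG (by rw [hcard])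
  · exact eng_two_primes hG 6131 2 1 0 (by norm_num) (by norm_num) (hcard.trans (by norm_num))
  · exact eng_big_prime hG 73 (by norm_num) (by rw [hcard]; norm_num) (by rw [hcard]; norm_num) (by rw [hcard]; norm_num) (by rw [hcard]; norm_num)
  · exact eng_two_primes hG 6133 2 1 0 (by norm_num) (by norm_num) (hcard.trans (by norm_num))
  · exact eng_two_mod_four hG (by rw [hcard])
  · exact eng_big_prime hG 409 (by norm_num) (by rw [hcard]; norm_num) (by rw [hcard]; norm_num) (by rw [hcard]; norm_num) (by rw [hcard]; norm_num)
  · exact eng_big_prime hG 59 (by norm_num) (by rw [hcard]; norm_num) (by rw [hcard]; norm_num) (by rw [hcard]; norm_num) (by rw [hcard]; norm_num)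
  · exact eng_two_primes hG 17 19 1 2 (by norm_num) (by norm_num) (hcard.trans (by norm_num))
  · exact eng_two_mod_four hG (by rw [hcard])
  · exact eng_two_primes hG 7 877 1 1 (by norm_num) (by norm_num) (hcard.trans (by norm_num))
  · exact eng_big_prime hG 307 (by norm_num) (by rw [hcard]; norm_num) (by rw [hcard]; norm_num) (by rw [hcard]; norm_num) (by rw [hcard]; norm_num)
  · exact eng_big_prime hG 89 (by norm_num) (by rw [hcard]; norm_num) (by rw [hcard]; norm_num) (by rw [hcard]; norm_num) (by rw [hcard]; norm_num)
  · exact eng_two_mod_four hG (by rw [hcard])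
  · exact eng_two_primes hG 6143 2 1 0 (by norm_num) (by norm_num) (hcard.trans (by norm_num))
  · exact eng_two_primes hG 2 3 11 1 (by norm_num) (by norm_num) (hcard.trans (by norm_num))
  · exact eng_two_primes hG 5 1229 1 1 (by norm_num) (by norm_num) (hcard.trans (by norm_num))
  · exact eng_two_mod_four hG (by rw [hcard])
  · exact eng_two_primes hG 3 683 2 1 (by norm_num) (by norm_num) (hcard.trans (by norm_num))
  · exact eng_big_prime hG 53 (by norm_num) (by rw [hcard]; norm_num) (by rw [hcard]; norm_num) (by rw [hcard]; norm_num) (by rw [hcard]; norm_num)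
  · exact eng_big_prime hG 43 (by norm_num) (by rw [hcard]; norm_num) (by rw [hcard]; norm_num) (by rw [hcard]; norm_num) (by rw [hcard]; norm_num)
  · exact eng_two_mod_four hG (by rw [hcard])
  · exact eng_two_primes hG 6151 2 1 0 (by norm_num) (by norm_num) (hcard.trans (by norm_num))
  · exact eng_two_primes hG 2 769 3 1 (by norm_num) (by norm_num) (hcard.trans (by norm_num))
  · exact eng_big_prime hG 293 (by norm_num) (by rw [hcard]; norm_num) (by rw [hcard]; norm_num) (by rw [hcard]; norm_num) (by rw [hcard]; norm_num)
  · exact eng_two_mod_four hG (by rw [hcard])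
  · exact eng_two_primes hG 5 1231 1 1 (by norm_num) (by norm_num) (hcard.trans (by norm_num))
  · exact eng_big_prime hG 19 (by norm_num) (by rw [hcard]; norm_num) (by rw [hcard]; norm_num) (by rw [hcard]; norm_num) (by rw [hcard]; norm_num)
  · exact eng_two_primes hG 47 131 1 1 (by norm_num) (by norm_num) (hcard.trans (by norm_num))
  · exact eng_two_mod_four hG (by rw [hcard])
  · exact eng_two_primes hG 3 2053 1 1 (by norm_num) (by norm_num) (hcard.trans (by norm_num))
  · exact kill_one hG 6160 7 880 hcard (by norm_num) (by norm_num) (by norm_num) (by norm_num) (by norm_num) (by norm_num) (by decide +kernel)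
  · exact eng_two_primes hG 61 101 1 1 (by norm_num) (by norm_num) (hcard.trans (by norm_num))
  · exact eng_two_mod_four hG (by rw [hcard])
  · exact eng_two_primes hG 6163 2 1 0 (by norm_num) (by norm_num) (hcard.trans (by norm_num))
  · exact eng_big_prime hG 67 (by norm_num) (by rw [hcard]; norm_num) (by rw [hcard]; norm_num) (by rw [hcard]; norm_num) (by rw [hcard]; norm_num)
  · exact eng_big_prime hG 137 (by norm_num) (by rw [hcard]; norm_num) (by rw [hcard]; norm_num) (by rw [hcard]; norm_num) (by rw [hcard]; norm_num)
  · exact eng_two_mod_four hG (by rw [hcard])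
  · exact eng_two_primes hG 7 881 1 1 (by norm_num) (by norm_num) (hcard.trans (by norm_num))
  · exact eng_big_prime hG 257 (by norm_num) (by rw [hcard]; norm_num) (by rw [hcard]; norm_num) (by rw [hcard]; norm_num) (by rw [hcard]; norm_num)
  · exact eng_two_primes hG 31 199 1 1 (by norm_num) (by norm_num) (hcard.trans (by norm_num))
  · exact eng_two_mod_four hG (by rw [hcard])
  · exact kill_basic hG 6171 11 2 51 hcard (by norm_num) (by norm_num) (by norm_num) (by norm_num) (by norm_num) (by norm_num) (by decide +kernel)
  · exact eng_two_primes hG 2 1543 2 1 (by norm_num) (by norm_num) (hcard.trans (by norm_num))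
  · exact eng_two_primes hG 6173 2 1 0 (by norm_num) (by norm_num) (hcard.trans (by norm_num))
  · exact eng_two_mod_four hG (by rw [hcard])
  · exact eng_big_prime hG 19 (by norm_num) (by rw [hcard]; norm_num) (by rw [hcard]; norm_num) (by rw [hcard]; norm_num) (by rw [hcard]; norm_num)
  · exact eng_two_primes hG 2 193 5 1 (by norm_num) (by norm_num) (hcard.trans (by norm_num))
  · exact eng_big_prime hG 71 (by norm_num) (by rw [hcard]; norm_num) (by rw [hcard]; norm_num) (by rw [hcard]; norm_num) (by rw [hcard]; norm_num)
  · exact eng_two_mod_four hG (by rw [hcard])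
  · exact eng_two_primes hG 37 167 1 1 (by norm_num) (by norm_num) (hcard.trans (by norm_num))
  · exact eng_big_prime hG 103 (by norm_num) (by rw [hcard]; norm_num) (by rw [hcard]; norm_num) (by rw [hcard]; norm_num) (by rw [hcard]; norm_num)
  · exact eng_two_primes hG 7 883 1 1 (by norm_num) (by norm_num) (hcard.trans (by norm_num))
  · exact eng_two_mod_four hG (by rw [hcard])
  · exact eng_two_primes hG 3 229 3 1 (by norm_num) (by norm_num) (hcard.trans (by norm_num))
  · exact eng_two_primes hG 2 773 3 1 (by norm_num) (by norm_num) (hcard.trans (by norm_num))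
  · exact eng_two_primes hG 5 1237 1 1 (by norm_num) (by norm_num) (hcard.trans (by norm_num))
  · exact eng_two_mod_four hG (by rw [hcard])
  · exact eng_two_primes hG 23 269 1 1 (by norm_num) (by norm_num) (hcard.trans (by norm_num))
  · exact kill_basic hG 6188 13 1 476 hcard (by norm_num) (by norm_num) (by norm_num) (by norm_num) (by norm_num) (by norm_num) (by decide +kernel)
  · exact eng_two_primes hG 3 2063 1 1 (by norm_num) (by norm_num) (hcard.trans (by norm_num))
  · exact eng_two_mod_four hG (by rw [hcard])
  · exact eng_two_primes hG 41 151 1 1 (by norm_num) (by norm_num) (hcard.trans (by norm_num))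
  · exact eng_big_prime hG 43 (by norm_num) (by rw [hcard]; norm_num) (by rw [hcard]; norm_num) (by rw [hcard]; norm_num) (by rw [hcard]; norm_num)
  · exact eng_two_primes hG 11 563 1 1 (by norm_num) (by norm_num) (hcard.trans (by norm_num))
  · exact eng_two_mod_four hG (by rw [hcard])
  · exact eng_big_prime hG 59 (by norm_num) (by rw [hcard]; norm_num) (by rw [hcard]; norm_num) (by rw [hcard]; norm_num) (by rw [hcard]; norm_num)
  · exact eng_two_primes hG 2 1549 2 1 (by norm_num) (by norm_num) (hcard.trans (by norm_num))
  · exact eng_two_primes hG 6197 2 1 0 (by norm_num) (by norm_num) (hcard.trans (by norm_num))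
  · exact eng_two_mod_four hG (by rw [hcard])
  · exact eng_two_primes hG 6199 2 1 0 (by norm_num) (by norm_num) (hcard.trans (by norm_num))
  · exact eng_big_prime hG 31 (by norm_num) (by rw [hcard]; norm_num) (by rw [hcard]; norm_num) (by rw [hcard]; norm_num) (by rw [hcard]; norm_num)
  · exact eng_big_prime hG 53 (by norm_num) (by rw [hcard]; norm_num) (by rw [hcard]; norm_num) (by rw [hcard]; norm_num) (by rw [hcard]; norm_num)
  · exact eng_two_mod_four hG (by rw [hcard])
  · exact eng_two_primes hG 6203 2 1 0 (by norm_num) (by norm_num) (hcard.trans (by norm_num))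
  · exact eng_big_prime hG 47 (by norm_num) (by rw [hcard]; norm_num) (by rw [hcard]; norm_num) (by rw [hcard]; norm_num) (by rw [hcard]; norm_num)
  · exact eng_big_prime hG 73 (by norm_num) (by rw [hcard]; norm_num) (by rw [hcard]; norm_num) (by rw [hcard]; norm_num) (by rw [hcard]; norm_num)
  · exact eng_two_mod_four hG (by rw [hcard])
  · exact eng_two_primes hG 3 2069 1 1 (by norm_num) (by norm_num) (hcard.trans (by norm_num))
  · exact eng_two_primes hG 2 97 6 1 (by norm_num) (by norm_num) (hcard.trans (by norm_num))
  · exact eng_two_primes hG 7 887 1 1 (by norm_num) (by norm_num) (hcard.trans (by norm_num))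
  · exact eng_two_mod_four hG (by rw [hcard])
  · exact eng_two_primes hG 6211 2 1 0 (by norm_num) (by norm_num) (hcard.trans (by norm_num))
  · exact eng_two_primes hG 2 1553 2 1 (by norm_num) (by norm_num) (hcard.trans (by norm_num))
  · exact eng_big_prime hG 109 (by norm_num) (by rw [hcard]; norm_num) (by rw [hcard]; norm_num) (by rw [hcard]; norm_num) (by rw [hcard]; norm_num)
  · exact eng_two_mod_four hG (by rw [hcard])
  · exact eng_big_prime hG 113 (by norm_num) (by rw [hcard]; norm_num) (by rw [hcard]; norm_num) (by rw [hcard]; norm_num) (by rw [hcard]; norm_num)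
  · exact eng_big_prime hG 37 (by norm_num) (by rw [hcard]; norm_num) (by rw [hcard]; norm_num) (by rw [hcard]; norm_num) (by rw [hcard]; norm_num)
  · exact eng_two_primes hG 6217 2 1 0 (by norm_num) (by norm_num) (hcard.trans (by norm_num))
  · exact eng_two_mod_four hG (by rw [hcard])
  · exact eng_two_primes hG 3 691 2 1 (by norm_num) (by norm_num) (hcard.trans (by norm_num))
  · exact eng_big_prime hG 311 (by norm_num) (by rw [hcard]; norm_num) (by rw [hcard]; norm_num) (by rw [hcard]; norm_num) (by rw [hcard]; norm_num)
  · exact eng_two_primes hG 6221 2 1 0 (by norm_num) (by norm_num) (hcard.trans (by norm_num))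
  · exact eng_two_mod_four hG (by rw [hcard])
  · exact eng_two_primes hG 7 127 2 1 (by norm_num) (by norm_num) (hcard.trans (by norm_num))
  · exact eng_two_primes hG 2 389 4 1 (by norm_num) (by norm_num) (hcard.trans (by norm_num))
  · exact eng_big_prime hG 83 (by norm_num) (by rw [hcard]; norm_num) (by rw [hcard]; norm_num) (by rw [hcard]; norm_num) (by rw [hcard]; norm_num)
  · exact eng_two_mod_four hG (by rw [hcard])
  · exact eng_two_primes hG 13 479 1 1 (by norm_num) (by norm_num) (hcard.trans (by norm_num))
  · exact eng_big_prime hG 173 (by norm_num) (by rw [hcard]; norm_num) (by rw [hcard]; norm_num) (by rw [hcard]; norm_num) (by rw [hcard]; norm_num)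
  · exact eng_two_primes hG 6229 2 1 0 (by norm_num) (by norm_num) (hcard.trans (by norm_num))
  · exact eng_two_mod_four hG (by rw [hcard])
  · exact eng_big_prime hG 67 (by norm_num) (by rw [hcard]; norm_num) (by rw [hcard]; norm_num) (by rw [hcard]; norm_num) (by rw [hcard]; norm_num)
  · exact eng_big_prime hG 41 (by norm_num) (by rw [hcard]; norm_num) (by rw [hcard]; norm_num) (by rw [hcard]; norm_num) (by rw [hcard]; norm_num)

end Cfsg.Agent.Helper82
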