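import Cfsg.Agent.Helper82.OrdEngine
import Cfsg.Agent.Helper82.OrdAdhoc
import Cfsg.Agent.S0976

/-! # S0983: orders 3901 to 4160 (generated; helper82) -/

set_option autoImplicit false
set_option maxHeartbeats 0
set_option maxRecDepth 100000

namespace Cfsg.Agent.Helper82

theorem ord_chunk2 {G : Type*} [Group G] [Finite G] [IsSimpleGroup G]
    (hG : ¬ IsMulCommutative G) (n : ℕ) (hcard : Nat.card G = n) (h1 : 3901 ≤ n) (h2 : n ≤ 4160)
    (e1 : n ≠ 4080) (e2 : n ≠ 5616) (e3 : n ≠ 6048) (e4 : n ≠ 6072) : False := by
  interval_cases n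
  · exact eng_two_primes hG 47 83 1 1 (by norm_num) (by norm_num) (hcard.trans (by norm_num))
  · exact eng_two_mod_four hG (by rw [hcard])
  · exact eng_two_primes hG 3 1301 1 1 (by norm_num) (by norm_num) (hcard.trans (by norm_num))
  · exact eng_two_primes hG 2 61 6 1 (by norm_num) (by norm_num) (hcard.trans (by norm_num))
  · exact eng_big_prime hG 71 (by norm_num) (by rw [hcard]; norm_num) (by rw [hcard]; norm_num) (by rw [hcard]; norm_num) (by rw [hcard]; norm_num)
  · exact eng_two_mod_four hG (by rw [hcard])
  · exact eng_two_primes hG 3907 2 1 0 (by norm_num) (by norm_num) (hcard.trans (by norm_num))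
  · exact eng_two_primes hG 2 977 2 1 (by norm_num) (by norm_num) (hcard.trans (by norm_num))
  · exact eng_two_primes hG 3 1303 1 1 (by norm_num) (by norm_num) (hcard.trans (by norm_num))
  · exact eng_two_mod_four hG (by rw [hcard])
  · exact eng_two_primes hG 3911 2 1 0 (by norm_num) (by norm_num) (hcard.trans (by norm_num))
  · exact eng_big_prime hG 163 (by norm_num) (by rw [hcard]; norm_num) (by rw [hcard]; norm_num) (by rw [hcard]; norm_num) (by rw [hcard]; norm_num)
  · exact eng_big_prime hG 43 (by norm_num) (by rw [hcard]; norm_num) (by rw [hcard]; norm_num) (by rw [hcard]; norm_num) (by rw [hcard]; norm_num)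
  · exact eng_two_mod_four hG (by rw [hcard])
  · exact eng_big_prime hG 29 (by norm_num) (by rw [hcard]; norm_num) (by rw [hcard]; norm_num) (by rw [hcard]; norm_num) (by rw [hcard]; norm_num)
  · exact eng_big_prime hG 89 (by norm_num) (by rw [hcard]; norm_num) (by rw [hcard]; norm_num) (by rw [hcard]; norm_num) (by rw [hcard]; norm_num)
  · exact eng_two_primes hG 3917 2 1 0 (by norm_num) (by norm_num) (hcard.trans (by norm_num))
  · exact eng_two_mod_four hG (by rw [hcard])
  · exact eng_two_primes hG 3919 2 1 0 (by norm_num) (by norm_num) (hcard.trans (by norm_num))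
  · exact kill_basic hG 3920 7 2 80 hcard (by norm_num) (by norm_num) (by norm_num) (by norm_num) (by norm_num) (by norm_num) (by decide +kernel)
  · exact eng_two_primes hG 3 1307 1 1 (by norm_num) (by norm_num) (hcard.trans (by norm_num))
  · exact eng_two_mod_four hG (by rw [hcard])
  · exact eng_two_primes hG 3923 2 1 0 (by norm_num) (by norm_num) (hcard.trans (by norm_num))
  · exact eng_big_prime hG 109 (by norm_num) (by rw [hcard]; norm_num) (by rw [hcard]; norm_num) (by rw [hcard]; norm_num) (by rw [hcard]; norm_num)
  · exact eng_two_primes hG 5 157 2 1 (by norm_num) (by norm_num) (hcard.trans (by norm_num))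
  · exact eng_two_mod_four hG (by rw [hcard])
  · exact eng_big_prime hG 17 (by norm_num) (by rw [hcard]; norm_num) (by rw [hcard]; norm_num) (by rw [hcard]; norm_num) (by rw [hcard]; norm_num)
  · exact eng_two_primes hG 2 491 3 1 (by norm_num) (by norm_num) (hcard.trans (by norm_num))
  · exact eng_two_primes hG 3929 2 1 0 (by norm_num) (by norm_num) (hcard.trans (by norm_num))
  · exact eng_two_mod_four hG (by rw [hcard])
  · exact eng_two_primes hG 3931 2 1 0 (by norm_num) (by norm_num) (hcard.trans (by norm_num))
  · exact eng_two_primes hG 2 983 2 1 (by norm_num) (by norm_num) (hcard.trans (by norm_num))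
  · exact eng_big_prime hG 23 (by norm_num) (by rw [hcard]; norm_num) (by rw [hcard]; norm_num) (by rw [hcard]; norm_num) (by rw [hcard]; norm_num)
  · exact eng_two_mod_four hG (by rw [hcard])
  · exact eng_two_primes hG 5 787 1 1 (by norm_num) (by norm_num) (hcard.trans (by norm_num))
  · exact eng_big_prime hG 41 (by norm_num) (by rw [hcard]; norm_num) (by rw [hcard]; norm_num) (by rw [hcard]; norm_num) (by rw [hcard]; norm_num)
  · exact eng_two_primes hG 31 127 1 1 (by norm_num) (by norm_num) (hcard.trans (by norm_num))
  · exact eng_two_mod_four hG (by rw [hcard])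
  · exact eng_big_prime hG 101 (by norm_num) (by rw [hcard]; norm_num) (by rw [hcard]; norm_num) (by rw [hcard]; norm_num) (by rw [hcard]; norm_num)
  · exact eng_big_prime hG 197 (by norm_num) (by rw [hcard]; norm_num) (by rw [hcard]; norm_num) (by rw [hcard]; norm_num) (by rw [hcard]; norm_num)
  · exact eng_two_primes hG 7 563 1 1 (by norm_num) (by norm_num) (hcard.trans (by norm_num))
  · exact eng_two_mod_four hG (by rw [hcard])
  · exact eng_two_primes hG 3943 2 1 0 (by norm_num) (by norm_num) (hcard.trans (by norm_num))
  · exact eng_big_prime hG 29 (by norm_num) (by rw [hcard]; norm_num) (by rw [hcard]; norm_num) (by rw [hcard]; norm_num) (by rw [hcard]; norm_num)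
  · exact eng_big_prime hG 263 (by norm_num) (by rw [hcard]; norm_num) (by rw [hcard]; norm_num) (by rw [hcard]; norm_num) (by rw [hcard]; norm_num)
  · exact eng_two_mod_four hG (by rw [hcard])
  · exact eng_two_primes hG 3947 2 1 0 (by norm_num) (by norm_num) (hcard.trans (by norm_num))
  · exact eng_big_prime hG 47 (by norm_num) (by rw [hcard]; norm_num) (by rw [hcard]; norm_num) (by rw [hcard]; norm_num) (by rw [hcard]; norm_num)
  · exact eng_two_primes hG 11 359 1 1 (by norm_num) (by norm_num) (hcard.trans (by norm_num))
  · exact eng_two_mod_four hG (by rw [hcard])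
  · exact eng_two_primes hG 3 439 2 1 (by norm_num) (by norm_num) (hcard.trans (by norm_num))
  · exact eng_big_prime hG 19 (by norm_num) (by rw [hcard]; norm_num) (by rw [hcard]; norm_num) (by rw [hcard]; norm_num) (by rw [hcard]; norm_num)
  · exact eng_two_primes hG 59 67 1 1 (by norm_num) (by norm_num) (hcard.trans (by norm_num))
  · exact eng_two_mod_four hG (by rw [hcard])
  · exact eng_big_prime hG 113 (by norm_num) (by rw [hcard]; norm_num) (by rw [hcard]; norm_num) (by rw [hcard]; norm_num) (by rw [hcard]; norm_num)
  · exact eng_big_prime hG 43 (by norm_num) (by rw [hcard]; norm_num) (by rw [hcard]; norm_num) (by rw [hcard]; norm_num) (by rw [hcard]; norm_num)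
  · exact eng_two_primes hG 3 1319 1 1 (by norm_num) (by norm_num) (hcard.trans (by norm_num))
  · exact eng_two_mod_four hG (by rw [hcard])
  · exact eng_two_primes hG 37 107 1 1 (by norm_num) (by norm_num) (hcard.trans (by norm_num))
  · exact absurd hcard o3960
  · exact eng_two_primes hG 17 233 1 1 (by norm_num) (by norm_num) (hcard.trans (by norm_num))
  · exact eng_two_mod_four hG (by rw [hcard])
  · exact eng_two_primes hG 3 1321 1 1 (by norm_num) (by norm_num) (hcard.trans (by norm_num))
  · exact eng_two_primes hG 2 991 2 1 (by norm_num) (by norm_num) (hcard.trans (by norm_num))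
  · exact eng_big_prime hG 61 (by norm_num) (by rw [hcard]; norm_num) (by rw [hcard]; norm_num) (by rw [hcard]; norm_num) (by rw [hcard]; norm_num)
  · exact eng_two_mod_four hG (by rw [hcard])
  · exact eng_two_primes hG 3967 2 1 0 (by norm_num) (by norm_num) (hcard.trans (by norm_num))
  · exact eng_two_primes hG 2 31 7 1 (by norm_num) (by norm_num) (hcard.trans (by norm_num))
  · exact eng_two_primes hG 3 7 4 2 (by norm_num) (by norm_num) (hcard.trans (by norm_num))
  · exact eng_two_mod_four hG (by rw [hcard])
  · exact eng_two_primes hG 11 19 1 2 (by norm_num) (by norm_num) (hcard.trans (by norm_num))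
  · exact eng_big_prime hG 331 (by norm_num) (by rw [hcard]; norm_num) (by rw [hcard]; norm_num) (by rw [hcard]; norm_num) (by rw [hcard]; norm_num)
  · exact eng_two_primes hG 29 137 1 1 (by norm_num) (by norm_num) (hcard.trans (by norm_num))
  · exact eng_two_mod_four hG (by rw [hcard])
  · exact eng_big_prime hG 53 (by norm_num) (by rw [hcard]; norm_num) (by rw [hcard]; norm_num) (by rw [hcard]; norm_num) (by rw [hcard]; norm_num)
  · exact eng_big_prime hG 71 (by norm_num) (by rw [hcard]; norm_num) (by rw [hcard]; norm_num) (by rw [hcard]; norm_num) (by rw [hcard]; norm_num)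
  · exact eng_two_primes hG 41 97 1 1 (by norm_num) (by norm_num) (hcard.trans (by norm_num))
  · exact eng_two_mod_four hG (by rw [hcard])
  · exact eng_two_primes hG 23 173 1 1 (by norm_num) (by norm_num) (hcard.trans (by norm_num))
  · exact eng_big_prime hG 199 (by norm_num) (by rw [hcard]; norm_num) (by rw [hcard]; norm_num) (by rw [hcard]; norm_num) (by rw [hcard]; norm_num)
  · exact eng_two_primes hG 3 1327 1 1 (by norm_num) (by norm_num) (hcard.trans (by norm_num))
  · exact eng_two_mod_four hG (by rw [hcard])
  · exact eng_two_primes hG 7 569 1 1 (by norm_num) (by norm_num) (hcard.trans (by norm_num))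
  · exact eng_big_prime hG 83 (by norm_num) (by rw [hcard]; norm_num) (by rw [hcard]; norm_num) (by rw [hcard]; norm_num) (by rw [hcard]; norm_num)
  · exact eng_two_primes hG 5 797 1 1 (by norm_num) (by norm_num) (hcard.trans (by norm_num))
  · exact eng_two_mod_four hG (by rw [hcard])
  · exact eng_two_primes hG 3 443 2 1 (by norm_num) (by norm_num) (hcard.trans (by norm_num))
  · exact eng_two_primes hG 2 997 2 1 (by norm_num) (by norm_num) (hcard.trans (by norm_num))
  · exact eng_two_primes hG 3989 2 1 0 (by norm_num) (by norm_num) (hcard.trans (by norm_num))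
  · exact eng_two_mod_four hG (by rw [hcard])
  · exact eng_two_primes hG 13 307 1 1 (by norm_num) (by norm_num) (hcard.trans (by norm_num))
  · exact eng_two_primes hG 2 499 3 1 (by norm_num) (by norm_num) (hcard.trans (by norm_num))
  · exact eng_two_primes hG 3 11 1 3 (by norm_num) (by norm_num) (hcard.trans (by norm_num))
  · exact eng_two_mod_four hG (by rw [hcard])
  · exact eng_big_prime hG 47 (by norm_num) (by rw [hcard]; norm_num) (by rw [hcard]; norm_num) (by rw [hcard]; norm_num) (by rw [hcard]; norm_num)
  · exact eng_big_prime hG 37 (by norm_num) (by rw [hcard]; norm_num) (by rw [hcard]; norm_num) (by rw [hcard]; norm_num) (by rw [hcard]; norm_num)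
  · exact eng_two_primes hG 7 571 1 1 (by norm_num) (by norm_num) (hcard.trans (by norm_num))
  · exact eng_two_mod_four hG (by rw [hcard])
  · exact eng_big_prime hG 43 (by norm_num) (by rw [hcard]; norm_num) (by rw [hcard]; norm_num) (by rw [hcard]; norm_num) (by rw [hcard]; norm_num)
  · exact eng_two_primes hG 2 5 5 3 (by norm_num) (by norm_num) (hcard.trans (by norm_num))
  · exact eng_two_primes hG 4001 2 1 0 (by norm_num) (by norm_num) (hcard.trans (by norm_num))
  · exact eng_two_mod_four hG (by rw [hcard])
  · exact eng_two_primes hG 4003 2 1 0 (by norm_num) (by norm_num) (hcard.trans (by norm_num))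
  · exact kill_one hG 4004 13 308 hcard (by norm_num) (by norm_num) (by norm_num) (by norm_num) (by norm_num) (by norm_num) (by decide +kernel)
  · exact eng_big_prime hG 89 (by norm_num) (by rw [hcard]; norm_num) (by rw [hcard]; norm_num) (by rw [hcard]; norm_num) (by rw [hcard]; norm_num)
  · exact eng_two_mod_four hG (by rw [hcard])
  · exact eng_two_primes hG 4007 2 1 0 (by norm_num) (by norm_num) (hcard.trans (by norm_num))
  · exact eng_big_prime hG 167 (by norm_num) (by rw [hcard]; norm_num) (by rw [hcard]; norm_num) (by rw [hcard]; norm_num) (by rw [hcard]; norm_num)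
  · exact eng_two_primes hG 19 211 1 1 (by norm_num) (by norm_num) (hcard.trans (by norm_num))
  · exact eng_two_mod_four hG (by rw [hcard])
  · exact eng_big_prime hG 191 (by norm_num) (by rw [hcard]; norm_num) (by rw [hcard]; norm_num) (by rw [hcard]; norm_num) (by rw [hcard]; norm_num)
  · exact eng_big_prime hG 59 (by norm_num) (by rw [hcard]; norm_num) (by rw [hcard]; norm_num) (by rw [hcard]; norm_num) (by rw [hcard]; norm_num)
  · exact eng_two_primes hG 4013 2 1 0 (by norm_num) (by norm_num) (hcard.trans (by norm_num))
  · exact eng_two_mod_four hG (by rw [hcard])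
  · exact eng_big_prime hG 73 (by norm_num) (by rw [hcard]; norm_num) (by rw [hcard]; norm_num) (by rw [hcard]; norm_num) (by rw [hcard]; norm_num)
  · exact eng_two_primes hG 2 251 4 1 (by norm_num) (by norm_num) (hcard.trans (by norm_num))
  · exact eng_big_prime hG 103 (by norm_num) (by rw [hcard]; norm_num) (by rw [hcard]; norm_num) (by rw [hcard]; norm_num) (by rw [hcard]; norm_num)
  · exact eng_two_mod_four hG (by rw [hcard])
  · exact eng_two_primes hG 4019 2 1 0 (by norm_num) (by norm_num) (hcard.trans (by norm_num))
  · exact eng_big_prime hG 67 (by norm_num) (by rw [hcard]; norm_num) (by rw [hcard]; norm_num) (by rw [hcard]; norm_num) (by rw [hcard]; norm_num)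
  · exact eng_two_primes hG 4021 2 1 0 (by norm_num) (by norm_num) (hcard.trans (by norm_num))
  · exact eng_two_mod_four hG (by rw [hcard])
  · exact eng_two_primes hG 3 149 3 1 (by norm_num) (by norm_num) (hcard.trans (by norm_num))
  · exact eng_two_primes hG 2 503 3 1 (by norm_num) (by norm_num) (hcard.trans (by norm_num))
  · exact eng_big_prime hG 23 (by norm_num) (by rw [hcard]; norm_num) (by rw [hcard]; norm_num) (by rw [hcard]; norm_num) (by rw [hcard]; norm_num)
  · exact eng_two_mod_four hG (by rw [hcard])
  · exact eng_two_primes hG 4027 2 1 0 (by norm_num) (by norm_num) (hcard.trans (by norm_num))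
  · exact eng_big_prime hG 53 (by norm_num) (by rw [hcard]; norm_num) (by rw [hcard]; norm_num) (by rw [hcard]; norm_num) (by rw [hcard]; norm_num)
  · exact eng_big_prime hG 79 (by norm_num) (by rw [hcard]; norm_num) (by rw [hcard]; norm_num) (by rw [hcard]; norm_num) (by rw [hcard]; norm_num)
  · exact eng_two_mod_four hG (by rw [hcard])
  · exact eng_two_primes hG 29 139 1 1 (by norm_num) (by norm_num) (hcard.trans (by norm_num))
  · exact absurd hcard Cfsg.Agent.S0976.result
  · exact eng_two_primes hG 37 109 1 1 (by norm_num) (by norm_num) (hcard.trans (by norm_num))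
  · exact eng_two_mod_four hG (by rw [hcard])
  · exact eng_big_prime hG 269 (by norm_num) (by rw [hcard]; norm_num) (by rw [hcard]; norm_num) (by rw [hcard]; norm_num) (by rw [hcard]; norm_num)
  · exact eng_two_primes hG 2 1009 2 1 (by norm_num) (by norm_num) (hcard.trans (by norm_num))
  · exact eng_two_primes hG 11 367 1 1 (by norm_num) (by norm_num) (hcard.trans (by norm_num))
  · exact eng_two_mod_four hG (by rw [hcard])
  · exact eng_two_primes hG 7 577 1 1 (by norm_num) (by norm_num) (hcard.trans (by norm_num))
  · exact eng_big_prime hG 101 (by norm_num) (by rw [hcard]; norm_num) (by rw [hcard]; norm_num) (by rw [hcard]; norm_num) (by rw [hcard]; norm_num)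
  · exact eng_two_primes hG 3 449 2 1 (by norm_num) (by norm_num) (hcard.trans (by norm_num))
  · exact eng_two_mod_four hG (by rw [hcard])
  · exact eng_two_primes hG 13 311 1 1 (by norm_num) (by norm_num) (hcard.trans (by norm_num))
  · exact eng_big_prime hG 337 (by norm_num) (by rw [hcard]; norm_num) (by rw [hcard]; norm_num) (by rw [hcard]; norm_num) (by rw [hcard]; norm_num)
  · exact eng_two_primes hG 5 809 1 1 (by norm_num) (by norm_num) (hcard.trans (by norm_num))
  · exact eng_two_mod_four hG (by rw [hcard])
  · exact eng_big_prime hG 71 (by norm_num) (by rw [hcard]; norm_num) (by rw [hcard]; norm_num) (by rw [hcard]; norm_num) (by rw [hcard]; norm_num)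
  · exact eng_big_prime hG 23 (by norm_num) (by rw [hcard]; norm_num) (by rw [hcard]; norm_num) (by rw [hcard]; norm_num) (by rw [hcard]; norm_num)
  · exact eng_two_primes hG 4049 2 1 0 (by norm_num) (by norm_num) (hcard.trans (by norm_num))
  · exact eng_two_mod_four hG (by rw [hcard])
  · exact eng_two_primes hG 4051 2 1 0 (by norm_num) (by norm_num) (hcard.trans (by norm_num))
  · exact eng_two_primes hG 2 1013 2 1 (by norm_num) (by norm_num) (hcard.trans (by norm_num))
  · exact eng_big_prime hG 193 (by norm_num) (by rw [hcard]; norm_num) (by rw [hcard]; norm_num) (by rw [hcard]; norm_num) (by rw [hcard]; norm_num)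
  · exact eng_two_mod_four hG (by rw [hcard])
  · exact eng_two_primes hG 5 811 1 1 (by norm_num) (by norm_num) (hcard.trans (by norm_num))
  · exact kill_basic hG 4056 13 2 24 hcard (by norm_num) (by norm_num) (by norm_num) (by norm_num) (by norm_num) (by norm_num) (by decide +kernel)
  · exact eng_two_primes hG 4057 2 1 0 (by norm_num) (by norm_num) (hcard.trans (by norm_num))
  · exact eng_two_mod_four hG (by rw [hcard])
  · exact eng_big_prime hG 41 (by norm_num) (by rw [hcard]; norm_num) (by rw [hcard]; norm_num) (by rw [hcard]; norm_num) (by rw [hcard]; norm_num)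
  · exact eng_big_prime hG 29 (by norm_num) (by rw [hcard]; norm_num) (by rw [hcard]; norm_num) (by rw [hcard]; norm_num) (by rw [hcard]; norm_num)
  · exact eng_two_primes hG 31 131 1 1 (by norm_num) (by norm_num) (hcard.trans (by norm_num))
  · exact eng_two_mod_four hG (by rw [hcard])
  · exact eng_two_primes hG 17 239 1 1 (by norm_num) (by norm_num) (hcard.trans (by norm_num))
  · exact eng_two_primes hG 2 127 5 1 (by norm_num) (by norm_num) (hcard.trans (by norm_num))
  · exact eng_big_prime hG 271 (by norm_num) (by rw [hcard]; norm_num) (by rw [hcard]; norm_num) (by rw [hcard]; norm_num) (by rw [hcard]; norm_num)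
  · exact eng_two_mod_four hG (by rw [hcard])
  · exact eng_two_primes hG 7 83 2 1 (by norm_num) (by norm_num) (hcard.trans (by norm_num))
  · exact eng_big_prime hG 113 (by norm_num) (by rw [hcard]; norm_num) (by rw [hcard]; norm_num) (by rw [hcard]; norm_num) (by rw [hcard]; norm_num)
  · exact eng_two_primes hG 13 313 1 1 (by norm_num) (by norm_num) (hcard.trans (by norm_num))
  · exact eng_two_mod_four hG (by rw [hcard])
  · exact eng_big_prime hG 59 (by norm_num) (by rw [hcard]; norm_num) (by rw [hcard]; norm_num) (by rw [hcard]; norm_num) (by rw [hcard]; norm_num)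
  · exact eng_two_primes hG 2 509 3 1 (by norm_num) (by norm_num) (hcard.trans (by norm_num))
  · exact eng_two_primes hG 4073 2 1 0 (by norm_num) (by norm_num) (hcard.trans (by norm_num))
  · exact eng_two_mod_four hG (by rw [hcard])
  · exact eng_two_primes hG 5 163 2 1 (by norm_num) (by norm_num) (hcard.trans (by norm_num))
  · exact eng_two_primes hG 2 1019 2 1 (by norm_num) (by norm_num) (hcard.trans (by norm_num))
  · exact eng_two_primes hG 3 151 3 1 (by norm_num) (by norm_num) (hcard.trans (by norm_num))
  · exact eng_two_mod_four hG (by rw [hcard])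
  · exact eng_two_primes hG 4079 2 1 0 (by norm_num) (by norm_num) (hcard.trans (by norm_num))
  · exact absurd rfl e1
  · exact eng_big_prime hG 53 (by norm_num) (by rw [hcard]; norm_num) (by rw [hcard]; norm_num) (by rw [hcard]; norm_num) (by rw [hcard]; norm_num)
  · exact eng_two_mod_four hG (by rw [hcard])
  · exact eng_two_primes hG 3 1361 1 1 (by norm_num) (by norm_num) (hcard.trans (by norm_num))
  · exact eng_two_primes hG 2 1021 2 1 (by norm_num) (by norm_num) (hcard.trans (by norm_num))
  · exact eng_big_prime hG 43 (by norm_num) (by rw [hcard]; norm_num) (by rw [hcard]; norm_num) (by rw [hcard]; norm_num) (by rw [hcard]; norm_num)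
  · exact eng_two_mod_four hG (by rw [hcard])
  · exact eng_two_primes hG 61 67 1 1 (by norm_num) (by norm_num) (hcard.trans (by norm_num))
  · exact eng_big_prime hG 73 (by norm_num) (by rw [hcard]; norm_num) (by rw [hcard]; norm_num) (by rw [hcard]; norm_num) (by rw [hcard]; norm_num)
  · exact eng_big_prime hG 47 (by norm_num) (by rw [hcard]; norm_num) (by rw [hcard]; norm_num) (by rw [hcard]; norm_num) (by rw [hcard]; norm_num)
  · exact eng_two_mod_four hG (by rw [hcard])
  · exact eng_two_primes hG 4091 2 1 0 (by norm_num) (by norm_num) (hcard.trans (by norm_num))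
  · exact eng_big_prime hG 31 (by norm_num) (by rw [hcard]; norm_num) (by rw [hcard]; norm_num) (by rw [hcard]; norm_num) (by rw [hcard]; norm_num)
  · exact eng_two_primes hG 4093 2 1 0 (by norm_num) (by norm_num) (hcard.trans (by norm_num))
  · exact eng_two_mod_four hG (by rw [hcard])
  · exact kill_one hG 4095 7 585 hcard (by norm_num) (by norm_num) (by norm_num) (by norm_num) (by norm_num) (by norm_num) (by decide +kernel)
  · exact eng_two_primes hG 2 2 12 0 (by norm_num) (by norm_num) (hcard.trans (by norm_num))
  · exact eng_two_primes hG 17 241 1 1 (by norm_num) (by norm_num) (hcard.trans (by norm_num))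
  · exact eng_two_mod_four hG (by rw [hcard])
  · exact eng_two_primes hG 4099 2 1 0 (by norm_num) (by norm_num) (hcard.trans (by norm_num))
  · exact eng_big_prime hG 41 (by norm_num) (by rw [hcard]; norm_num) (by rw [hcard]; norm_num) (by rw [hcard]; norm_num) (by rw [hcard]; norm_num)
  · exact eng_two_primes hG 3 1367 1 1 (by norm_num) (by norm_num) (hcard.trans (by norm_num))
  · exact eng_two_mod_four hG (by rw [hcard])
  · exact eng_two_primes hG 11 373 1 1 (by norm_num) (by norm_num) (hcard.trans (by norm_num))
  · exact eng_big_prime hG 19 (by norm_num) (by rw [hcard]; norm_num) (by rw [hcard]; norm_num) (by rw [hcard]; norm_num) (by rw [hcard]; norm_num)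
  · exact eng_two_primes hG 5 821 1 1 (by norm_num) (by norm_num) (hcard.trans (by norm_num))
  · exact eng_two_mod_four hG (by rw [hcard])
  · exact eng_two_primes hG 3 37 1 2 (by norm_num) (by norm_num) (hcard.trans (by norm_num))
  · exact eng_big_prime hG 79 (by norm_num) (by rw [hcard]; norm_num) (by rw [hcard]; norm_num) (by rw [hcard]; norm_num) (by rw [hcard]; norm_num)
  · exact eng_two_primes hG 7 587 1 1 (by norm_num) (by norm_num) (hcard.trans (by norm_num))
  · exact eng_two_mod_four hG (by rw [hcard])
  · exact eng_two_primes hG 4111 2 1 0 (by norm_num) (by norm_num) (hcard.trans (by norm_num))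
  · exact eng_two_primes hG 2 257 4 1 (by norm_num) (by norm_num) (hcard.trans (by norm_num))
  · exact eng_two_primes hG 3 457 2 1 (by norm_num) (by norm_num) (hcard.trans (by norm_num))
  · exact eng_two_mod_four hG (by rw [hcard])
  · exact eng_two_primes hG 5 823 1 1 (by norm_num) (by norm_num) (hcard.trans (by norm_num))
  · exact kill_basic hG 4116 7 3 12 hcard (by norm_num) (by norm_num) (by norm_num) (by norm_num) (by norm_num) (by norm_num) (by decide +kernel)
  · exact eng_two_primes hG 23 179 1 1 (by norm_num) (by norm_num) (hcard.trans (by norm_num))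
  · exact eng_two_mod_four hG (by rw [hcard])
  · exact eng_two_primes hG 3 1373 1 1 (by norm_num) (by norm_num) (hcard.trans (by norm_num))
  · exact eng_big_prime hG 103 (by norm_num) (by rw [hcard]; norm_num) (by rw [hcard]; norm_num) (by rw [hcard]; norm_num) (by rw [hcard]; norm_num)
  · exact eng_two_primes hG 13 317 1 1 (by norm_num) (by norm_num) (hcard.trans (by norm_num))
  · exact eng_two_mod_four hG (by rw [hcard])
  · exact eng_big_prime hG 31 (by norm_num) (by rw [hcard]; norm_num) (by rw [hcard]; norm_num) (by rw [hcard]; norm_num) (by rw [hcard]; norm_num)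
  · exact eng_two_primes hG 2 1031 2 1 (by norm_num) (by norm_num) (hcard.trans (by norm_num))
  · exact kill_basic hG 4125 5 3 33 hcard (by norm_num) (by norm_num) (by norm_num) (by norm_num) (by norm_num) (by norm_num) (by decide +kernel)
  · exact eng_two_mod_four hG (by rw [hcard])
  · exact eng_two_primes hG 4127 2 1 0 (by norm_num) (by norm_num) (hcard.trans (by norm_num))
  · exact eng_big_prime hG 43 (by norm_num) (by rw [hcard]; norm_num) (by rw [hcard]; norm_num) (by rw [hcard]; norm_num) (by rw [hcard]; norm_num)
  · exact eng_two_primes hG 4129 2 1 0 (by norm_num) (by norm_num) (hcard.trans (by norm_num))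
  · exact eng_two_mod_four hG (by rw [hcard])
  · exact eng_two_primes hG 3 17 5 1 (by norm_num) (by norm_num) (hcard.trans (by norm_num))
  · exact eng_two_primes hG 2 1033 2 1 (by norm_num) (by norm_num) (hcard.trans (by norm_num))
  · exact eng_two_primes hG 4133 2 1 0 (by norm_num) (by norm_num) (hcard.trans (by norm_num))
  · exact eng_two_mod_four hG (by rw [hcard])
  · exact eng_two_primes hG 5 827 1 1 (by norm_num) (by norm_num) (hcard.trans (by norm_num))
  · exact eng_big_prime hG 47 (by norm_num) (by rw [hcard]; norm_num) (by rw [hcard]; norm_num) (by rw [hcard]; norm_num) (by rw [hcard]; norm_num)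
  · exact eng_big_prime hG 197 (by norm_num) (by rw [hcard]; norm_num) (by rw [hcard]; norm_num) (by rw [hcard]; norm_num) (by rw [hcard]; norm_num)
  · exact eng_two_mod_four hG (by rw [hcard])
  · exact eng_two_primes hG 4139 2 1 0 (by norm_num) (by norm_num) (hcard.trans (by norm_num))
  · exact eng_big_prime hG 23 (by norm_num) (by rw [hcard]; norm_num) (by rw [hcard]; norm_num) (by rw [hcard]; norm_num) (by rw [hcard]; norm_num)
  · exact eng_two_primes hG 41 101 1 1 (by norm_num) (by norm_num) (hcard.trans (by norm_num))
  · exact eng_two_mod_four hG (by rw [hcard])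
  · exact eng_two_primes hG 3 1381 1 1 (by norm_num) (by norm_num) (hcard.trans (by norm_num))
  · exact eng_big_prime hG 37 (by norm_num) (by rw [hcard]; norm_num) (by rw [hcard]; norm_num) (by rw [hcard]; norm_num) (by rw [hcard]; norm_num)
  · exact eng_two_primes hG 5 829 1 1 (by norm_num) (by norm_num) (hcard.trans (by norm_num))
  · exact eng_two_mod_four hG (by rw [hcard])
  · exact eng_big_prime hG 29 (by norm_num) (by rw [hcard]; norm_num) (by rw [hcard]; norm_num) (by rw [hcard]; norm_num) (by rw [hcard]; norm_num)
  · exact eng_big_prime hG 61 (by norm_num) (by rw [hcard]; norm_num) (by rw [hcard]; norm_num) (by rw [hcard]; norm_num) (by rw [hcard]; norm_num)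
  · exact eng_two_primes hG 3 461 2 1 (by norm_num) (by norm_num) (hcard.trans (by norm_num))
  · exact eng_two_mod_four hG (by rw [hcard])
  · exact eng_two_primes hG 7 593 1 1 (by norm_num) (by norm_num) (hcard.trans (by norm_num))
  · exact eng_big_prime hG 173 (by norm_num) (by rw [hcard]; norm_num) (by rw [hcard]; norm_num) (by rw [hcard]; norm_num) (by rw [hcard]; norm_num)
  · exact eng_two_primes hG 4153 2 1 0 (by norm_num) (by norm_num) (hcard.trans (by norm_num))
  · exact eng_two_mod_four hG (by rw [hcard])
  · exact eng_big_prime hG 277 (by norm_num) (by rw [hcard]; norm_num) (by rw [hcard]; norm_num) (by rw [hcard]; norm_num) (by rw [hcard]; norm_num)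
  · exact eng_two_primes hG 2 1039 2 1 (by norm_num) (by norm_num) (hcard.trans (by norm_num))
  · exact eng_two_primes hG 4157 2 1 0 (by norm_num) (by norm_num) (hcard.trans (by norm_num))
  · exact eng_two_mod_four hG (by rw [hcard])
  · exact eng_two_primes hG 4159 2 1 0 (by norm_num) (by norm_num) (hcard.trans (by norm_num))
  · exact kill_three hG 4160 13 320 2 5 6 1 hcard (by norm_num) (by norm_num) (by norm_num) (by norm_num) (by norm_num) (by norm_num) (by norm_num) (by norm_num) (by norm_num) (by norm_num) (by norm_num) (by decide +kernel)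

end Cfsg.Agent.Helper82
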