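import Cfsg.Agent.Helper82.OrdEngine
import Cfsg.Agent.Helper82.OrdAdhoc
import Cfsg.Agent.S0977

/-! # S0983: orders 4161 to 4420 (generated; helper82) -/

set_option autoImplicit false
set_option maxHeartbeats 0
set_option maxRecDepth 100000

namespace Cfsg.Agent.Helper82

theorem ord_chunk3 {G : Type*} [Group G] [Finite G] [IsSimpleGroup G]
    (hG : ¬ IsMulCommutative G) (n : ℕ) (hcard : Nat.card G = n) (h1 : 4161 ≤ n) (h2 : n ≤ 4420)
    (e1 : n ≠ 4080) (e2 : n ≠ 5616) (e3 : n ≠ 6048) (e4 : n ≠ 6072) : False := by
  interval_cases n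
  · exact eng_big_prime hG 73 (by norm_num) (by rw [hcard]; norm_num) (by rw [hcard]; norm_num) (by rw [hcard]; norm_num) (by rw [hcard]; norm_num)
  · exact eng_two_mod_four hG (by rw [hcard])
  · exact eng_two_primes hG 23 181 1 1 (by norm_num) (by norm_num) (hcard.trans (by norm_num))
  · exact eng_big_prime hG 347 (by norm_num) (by rw [hcard]; norm_num) (by rw [hcard]; norm_num) (by rw [hcard]; norm_num) (by rw [hcard]; norm_num)
  · exact eng_big_prime hG 17 (by norm_num) (by rw [hcard]; norm_num) (by rw [hcard]; norm_num) (by rw [hcard]; norm_num) (by rw [hcard]; norm_num)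
  · exact eng_two_mod_four hG (by rw [hcard])
  · exact eng_two_primes hG 3 463 2 1 (by norm_num) (by norm_num) (hcard.trans (by norm_num))
  · exact eng_two_primes hG 2 521 3 1 (by norm_num) (by norm_num) (hcard.trans (by norm_num))
  · exact eng_two_primes hG 11 379 1 1 (by norm_num) (by norm_num) (hcard.trans (by norm_num))
  · exact eng_two_mod_four hG (by rw [hcard])
  · exact eng_two_primes hG 43 97 1 1 (by norm_num) (by norm_num) (hcard.trans (by norm_num))
  · exact eng_big_prime hG 149 (by norm_num) (by rw [hcard]; norm_num) (by rw [hcard]; norm_num) (by rw [hcard]; norm_num) (by rw [hcard]; norm_num)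
  · exact eng_big_prime hG 107 (by norm_num) (by rw [hcard]; norm_num) (by rw [hcard]; norm_num) (by rw [hcard]; norm_num) (by rw [hcard]; norm_num)
  · exact eng_two_mod_four hG (by rw [hcard])
  · exact eng_two_primes hG 5 167 2 1 (by norm_num) (by norm_num) (hcard.trans (by norm_num))
  · exact eng_big_prime hG 29 (by norm_num) (by rw [hcard]; norm_num) (by rw [hcard]; norm_num) (by rw [hcard]; norm_num) (by rw [hcard]; norm_num)
  · exact eng_two_primes hG 4177 2 1 0 (by norm_num) (by norm_num) (hcard.trans (by norm_num))
  · exact eng_two_mod_four hG (by rw [hcard])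
  · exact eng_big_prime hG 199 (by norm_num) (by rw [hcard]; norm_num) (by rw [hcard]; norm_num) (by rw [hcard]; norm_num) (by rw [hcard]; norm_num)
  · exact eng_big_prime hG 19 (by norm_num) (by rw [hcard]; norm_num) (by rw [hcard]; norm_num) (by rw [hcard]; norm_num) (by rw [hcard]; norm_num)
  · exact eng_two_primes hG 37 113 1 1 (by norm_num) (by norm_num) (hcard.trans (by norm_num))
  · exact eng_two_mod_four hG (by rw [hcard])
  · exact eng_two_primes hG 47 89 1 1 (by norm_num) (by norm_num) (hcard.trans (by norm_num))
  · exact eng_two_primes hG 2 523 3 1 (by norm_num) (by norm_num) (hcard.trans (by norm_num))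
  · exact eng_big_prime hG 31 (by norm_num) (by rw [hcard]; norm_num) (by rw [hcard]; norm_num) (by rw [hcard]; norm_num) (by rw [hcard]; norm_num)
  · exact eng_two_mod_four hG (by rw [hcard])
  · exact eng_two_primes hG 53 79 1 1 (by norm_num) (by norm_num) (hcard.trans (by norm_num))
  · exact eng_big_prime hG 349 (by norm_num) (by rw [hcard]; norm_num) (by rw [hcard]; norm_num) (by rw [hcard]; norm_num) (by rw [hcard]; norm_num)
  · exact eng_two_primes hG 59 71 1 1 (by norm_num) (by norm_num) (hcard.trans (by norm_num))
  · exact eng_two_mod_four hG (by rw [hcard])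
  · exact eng_big_prime hG 127 (by norm_num) (by rw [hcard]; norm_num) (by rw [hcard]; norm_num) (by rw [hcard]; norm_num) (by rw [hcard]; norm_num)
  · exact eng_two_primes hG 2 131 5 1 (by norm_num) (by norm_num) (hcard.trans (by norm_num))
  · exact eng_two_primes hG 7 599 1 1 (by norm_num) (by norm_num) (hcard.trans (by norm_num))
  · exact eng_two_mod_four hG (by rw [hcard])
  · exact eng_two_primes hG 5 839 1 1 (by norm_num) (by norm_num) (hcard.trans (by norm_num))
  · exact eng_two_primes hG 2 1049 2 1 (by norm_num) (by norm_num) (hcard.trans (by norm_num))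
  · exact eng_two_primes hG 3 1399 1 1 (by norm_num) (by norm_num) (hcard.trans (by norm_num))
  · exact eng_two_mod_four hG (by rw [hcard])
  · exact eng_big_prime hG 19 (by norm_num) (by rw [hcard]; norm_num) (by rw [hcard]; norm_num) (by rw [hcard]; norm_num) (by rw [hcard]; norm_num)
  · exact absurd hcard o4200
  · exact eng_two_primes hG 4201 2 1 0 (by norm_num) (by norm_num) (hcard.trans (by norm_num))
  · exact eng_two_mod_four hG (by rw [hcard])
  · exact eng_two_primes hG 3 467 2 1 (by norm_num) (by norm_num) (hcard.trans (by norm_num))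
  · exact eng_two_primes hG 2 1051 2 1 (by norm_num) (by norm_num) (hcard.trans (by norm_num))
  · exact eng_two_primes hG 5 29 1 2 (by norm_num) (by norm_num) (hcard.trans (by norm_num))
  · exact eng_two_mod_four hG (by rw [hcard])
  · exact eng_two_primes hG 7 601 1 1 (by norm_num) (by norm_num) (hcard.trans (by norm_num))
  · exact eng_two_primes hG 2 263 4 1 (by norm_num) (by norm_num) (hcard.trans (by norm_num))
  · exact eng_big_prime hG 61 (by norm_num) (by rw [hcard]; norm_num) (by rw [hcard]; norm_num) (by rw [hcard]; norm_num) (by rw [hcard]; norm_num)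
  · exact eng_two_mod_four hG (by rw [hcard])
  · exact eng_two_primes hG 4211 2 1 0 (by norm_num) (by norm_num) (hcard.trans (by norm_num))
  · exact absurd (eng_four hG 13 3 1 4 (by norm_num) (by norm_num) (by norm_num) (by norm_num) (hcard.trans (by norm_num))) (by rw [hcard]; norm_num)
  · exact eng_two_primes hG 11 383 1 1 (by norm_num) (by norm_num) (hcard.trans (by norm_num))
  · exact eng_two_mod_four hG (by rw [hcard])
  · exact eng_big_prime hG 281 (by norm_num) (by rw [hcard]; norm_num) (by rw [hcard]; norm_num) (by rw [hcard]; norm_num) (by rw [hcard]; norm_num)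
  · exact eng_big_prime hG 31 (by norm_num) (by rw [hcard]; norm_num) (by rw [hcard]; norm_num) (by rw [hcard]; norm_num) (by rw [hcard]; norm_num)
  · exact eng_two_primes hG 4217 2 1 0 (by norm_num) (by norm_num) (hcard.trans (by norm_num))
  · exact eng_two_mod_four hG (by rw [hcard])
  · exact eng_two_primes hG 4219 2 1 0 (by norm_num) (by norm_num) (hcard.trans (by norm_num))
  · exact eng_big_prime hG 211 (by norm_num) (by rw [hcard]; norm_num) (by rw [hcard]; norm_num) (by rw [hcard]; norm_num) (by rw [hcard]; norm_num)
  · exact eng_big_prime hG 67 (by norm_num) (by rw [hcard]; norm_num) (by rw [hcard]; norm_num) (by rw [hcard]; norm_num) (by rw [hcard]; norm_num)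
  · exact eng_two_mod_four hG (by rw [hcard])
  · exact eng_two_primes hG 41 103 1 1 (by norm_num) (by norm_num) (hcard.trans (by norm_num))
  · exact kill_three hG 4224 11 384 2 3 7 1 hcard (by norm_num) (by norm_num) (by norm_num) (by norm_num) (by norm_num) (by norm_num) (by norm_num) (by norm_num) (by norm_num) (by norm_num) (by norm_num) (by decide +kernel)
  · exact eng_two_primes hG 5 13 2 2 (by norm_num) (by norm_num) (hcard.trans (by norm_num))
  · exact eng_two_mod_four hG (by rw [hcard])
  · exact eng_two_primes hG 3 1409 1 1 (by norm_num) (by norm_num) (hcard.trans (by norm_num))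
  · exact eng_big_prime hG 151 (by norm_num) (by rw [hcard]; norm_num) (by rw [hcard]; norm_num) (by rw [hcard]; norm_num) (by rw [hcard]; norm_num)
  · exact eng_two_primes hG 4229 2 1 0 (by norm_num) (by norm_num) (hcard.trans (by norm_num))
  · exact eng_two_mod_four hG (by rw [hcard])
  · exact eng_two_primes hG 4231 2 1 0 (by norm_num) (by norm_num) (hcard.trans (by norm_num))
  · exact eng_two_primes hG 2 23 3 2 (by norm_num) (by norm_num) (hcard.trans (by norm_num))
  · exact eng_big_prime hG 83 (by norm_num) (by rw [hcard]; norm_num) (by rw [hcard]; norm_num) (by rw [hcard]; norm_num) (by rw [hcard]; norm_num)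
  · exact eng_two_mod_four hG (by rw [hcard])
  · exact kill_basic hG 4235 11 2 35 hcard (by norm_num) (by norm_num) (by norm_num) (by norm_num) (by norm_num) (by norm_num) (by decide +kernel)
  · exact eng_big_prime hG 353 (by norm_num) (by rw [hcard]; norm_num) (by rw [hcard]; norm_num) (by rw [hcard]; norm_num) (by rw [hcard]; norm_num)
  · exact eng_two_primes hG 19 223 1 1 (by norm_num) (by norm_num) (hcard.trans (by norm_num))
  · exact eng_two_mod_four hG (by rw [hcard])
  · exact eng_two_primes hG 3 157 3 1 (by norm_num) (by norm_num) (hcard.trans (by norm_num))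
  · exact eng_big_prime hG 53 (by norm_num) (by rw [hcard]; norm_num) (by rw [hcard]; norm_num) (by rw [hcard]; norm_num) (by rw [hcard]; norm_num)
  · exact eng_two_primes hG 4241 2 1 0 (by norm_num) (by norm_num) (hcard.trans (by norm_num))
  · exact eng_two_mod_four hG (by rw [hcard])
  · exact eng_two_primes hG 4243 2 1 0 (by norm_num) (by norm_num) (hcard.trans (by norm_num))
  · exact eng_two_primes hG 2 1061 2 1 (by norm_num) (by norm_num) (hcard.trans (by norm_num))
  · exact eng_big_prime hG 283 (by norm_num) (by rw [hcard]; norm_num) (by rw [hcard]; norm_num) (by rw [hcard]; norm_num) (by rw [hcard]; norm_num)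
  · exact eng_two_mod_four hG (by rw [hcard])
  · exact eng_two_primes hG 31 137 1 1 (by norm_num) (by norm_num) (hcard.trans (by norm_num))
  · exact eng_big_prime hG 59 (by norm_num) (by rw [hcard]; norm_num) (by rw [hcard]; norm_num) (by rw [hcard]; norm_num) (by rw [hcard]; norm_num)
  · exact eng_two_primes hG 7 607 1 1 (by norm_num) (by norm_num) (hcard.trans (by norm_num))
  · exact eng_two_mod_four hG (by rw [hcard])
  · exact eng_big_prime hG 109 (by norm_num) (by rw [hcard]; norm_num) (by rw [hcard]; norm_num) (by rw [hcard]; norm_num) (by rw [hcard]; norm_num)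
  · exact eng_two_primes hG 2 1063 2 1 (by norm_num) (by norm_num) (hcard.trans (by norm_num))
  · exact eng_two_primes hG 4253 2 1 0 (by norm_num) (by norm_num) (hcard.trans (by norm_num))
  · exact eng_two_mod_four hG (by rw [hcard])
  · exact eng_big_prime hG 37 (by norm_num) (by rw [hcard]; norm_num) (by rw [hcard]; norm_num) (by rw [hcard]; norm_num) (by rw [hcard]; norm_num)
  · exact eng_big_prime hG 19 (by norm_num) (by rw [hcard]; norm_num) (by rw [hcard]; norm_num) (by rw [hcard]; norm_num) (by rw [hcard]; norm_num)
  · exact eng_big_prime hG 43 (by norm_num) (by rw [hcard]; norm_num) (by rw [hcard]; norm_num) (by rw [hcard]; norm_num) (by rw [hcard]; norm_num)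
  · exact eng_two_mod_four hG (by rw [hcard])
  · exact eng_two_primes hG 4259 2 1 0 (by norm_num) (by norm_num) (hcard.trans (by norm_num))
  · exact eng_big_prime hG 71 (by norm_num) (by rw [hcard]; norm_num) (by rw [hcard]; norm_num) (by rw [hcard]; norm_num) (by rw [hcard]; norm_num)
  · exact eng_two_primes hG 4261 2 1 0 (by norm_num) (by norm_num) (hcard.trans (by norm_num))
  · exact eng_two_mod_four hG (by rw [hcard])
  · exact eng_big_prime hG 29 (by norm_num) (by rw [hcard]; norm_num) (by rw [hcard]; norm_num) (by rw [hcard]; norm_num) (by rw [hcard]; norm_num)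
  · exact eng_big_prime hG 41 (by norm_num) (by rw [hcard]; norm_num) (by rw [hcard]; norm_num) (by rw [hcard]; norm_num) (by rw [hcard]; norm_num)
  · exact eng_two_primes hG 5 853 1 1 (by norm_num) (by norm_num) (hcard.trans (by norm_num))
  · exact eng_two_mod_four hG (by rw [hcard])
  · exact eng_two_primes hG 17 251 1 1 (by norm_num) (by norm_num) (hcard.trans (by norm_num))
  · exact eng_big_prime hG 97 (by norm_num) (by rw [hcard]; norm_num) (by rw [hcard]; norm_num) (by rw [hcard]; norm_num) (by rw [hcard]; norm_num)
  · exact eng_two_primes hG 3 1423 1 1 (by norm_num) (by norm_num) (hcard.trans (by norm_num))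
  · exact eng_two_mod_four hG (by rw [hcard])
  · exact eng_two_primes hG 4271 2 1 0 (by norm_num) (by norm_num) (hcard.trans (by norm_num))
  · exact eng_big_prime hG 89 (by norm_num) (by rw [hcard]; norm_num) (by rw [hcard]; norm_num) (by rw [hcard]; norm_num) (by rw [hcard]; norm_num)
  · exact eng_two_primes hG 4273 2 1 0 (by norm_num) (by norm_num) (hcard.trans (by norm_num))
  · exact eng_two_mod_four hG (by rw [hcard])
  · exact eng_big_prime hG 19 (by norm_num) (by rw [hcard]; norm_num) (by rw [hcard]; norm_num) (by rw [hcard]; norm_num) (by rw [hcard]; norm_num)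
  · exact eng_two_primes hG 2 1069 2 1 (by norm_num) (by norm_num) (hcard.trans (by norm_num))
  · exact eng_big_prime hG 47 (by norm_num) (by rw [hcard]; norm_num) (by rw [hcard]; norm_num) (by rw [hcard]; norm_num) (by rw [hcard]; norm_num)
  · exact eng_two_mod_four hG (by rw [hcard])
  · exact eng_two_primes hG 11 389 1 1 (by norm_num) (by norm_num) (hcard.trans (by norm_num))
  · exact eng_big_prime hG 107 (by norm_num) (by rw [hcard]; norm_num) (by rw [hcard]; norm_num) (by rw [hcard]; norm_num) (by rw [hcard]; norm_num)
  · exact eng_two_primes hG 3 1427 1 1 (by norm_num) (by norm_num) (hcard.trans (by norm_num))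
  · exact eng_two_mod_four hG (by rw [hcard])
  · exact eng_two_primes hG 4283 2 1 0 (by norm_num) (by norm_num) (hcard.trans (by norm_num))
  · exact eng_big_prime hG 17 (by norm_num) (by rw [hcard]; norm_num) (by rw [hcard]; norm_num) (by rw [hcard]; norm_num) (by rw [hcard]; norm_num)
  · exact eng_two_primes hG 5 857 1 1 (by norm_num) (by norm_num) (hcard.trans (by norm_num))
  · exact eng_two_mod_four hG (by rw [hcard])
  · exact eng_two_primes hG 3 1429 1 1 (by norm_num) (by norm_num) (hcard.trans (by norm_num))
  · exact eng_two_primes hG 2 67 6 1 (by norm_num) (by norm_num) (hcard.trans (by norm_num))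
  · exact eng_two_primes hG 4289 2 1 0 (by norm_num) (by norm_num) (hcard.trans (by norm_num))
  · exact eng_two_mod_four hG (by rw [hcard])
  · exact eng_two_primes hG 7 613 1 1 (by norm_num) (by norm_num) (hcard.trans (by norm_num))
  · exact eng_big_prime hG 37 (by norm_num) (by rw [hcard]; norm_num) (by rw [hcard]; norm_num) (by rw [hcard]; norm_num) (by rw [hcard]; norm_num)
  · exact eng_two_primes hG 3 53 4 1 (by norm_num) (by norm_num) (hcard.trans (by norm_num))
  · exact eng_two_mod_four hG (by rw [hcard])
  · exact eng_two_primes hG 5 859 1 1 (by norm_num) (by norm_num) (hcard.trans (by norm_num))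
  · exact eng_big_prime hG 179 (by norm_num) (by rw [hcard]; norm_num) (by rw [hcard]; norm_num) (by rw [hcard]; norm_num) (by rw [hcard]; norm_num)
  · exact eng_two_primes hG 4297 2 1 0 (by norm_num) (by norm_num) (hcard.trans (by norm_num))
  · exact eng_two_mod_four hG (by rw [hcard])
  · exact eng_two_primes hG 3 1433 1 1 (by norm_num) (by norm_num) (hcard.trans (by norm_num))
  · exact eng_big_prime hG 43 (by norm_num) (by rw [hcard]; norm_num) (by rw [hcard]; norm_num) (by rw [hcard]; norm_num) (by rw [hcard]; norm_num)
  · exact eng_big_prime hG 23 (by norm_num) (by rw [hcard]; norm_num) (by rw [hcard]; norm_num) (by rw [hcard]; norm_num) (by rw [hcard]; norm_num)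
  · exact eng_two_mod_four hG (by rw [hcard])
  · exact eng_two_primes hG 13 331 1 1 (by norm_num) (by norm_num) (hcard.trans (by norm_num))
  · exact eng_two_primes hG 2 269 4 1 (by norm_num) (by norm_num) (hcard.trans (by norm_num))
  · exact eng_big_prime hG 41 (by norm_num) (by rw [hcard]; norm_num) (by rw [hcard]; norm_num) (by rw [hcard]; norm_num) (by rw [hcard]; norm_num)
  · exact eng_two_mod_four hG (by rw [hcard])
  · exact eng_two_primes hG 59 73 1 1 (by norm_num) (by norm_num) (hcard.trans (by norm_num))
  · exact eng_big_prime hG 359 (by norm_num) (by rw [hcard]; norm_num) (by rw [hcard]; norm_num) (by rw [hcard]; norm_num) (by rw [hcard]; norm_num)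
  · exact eng_two_primes hG 31 139 1 1 (by norm_num) (by norm_num) (hcard.trans (by norm_num))
  · exact eng_two_mod_four hG (by rw [hcard])
  · exact eng_two_primes hG 3 479 2 1 (by norm_num) (by norm_num) (hcard.trans (by norm_num))
  · exact kill_three hG 4312 11 392 2 7 3 2 hcard (by norm_num) (by norm_num) (by norm_num) (by norm_num) (by norm_num) (by norm_num) (by norm_num) (by norm_num) (by norm_num) (by norm_num) (by norm_num) (by decide +kernel)
  · exact eng_two_primes hG 19 227 1 1 (by norm_num) (by norm_num) (hcard.trans (by norm_num))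
  · exact eng_two_mod_four hG (by rw [hcard])
  · exact eng_two_primes hG 5 863 1 1 (by norm_num) (by norm_num) (hcard.trans (by norm_num))
  · exact eng_big_prime hG 83 (by norm_num) (by rw [hcard]; norm_num) (by rw [hcard]; norm_num) (by rw [hcard]; norm_num) (by rw [hcard]; norm_num)
  · exact eng_two_primes hG 3 1439 1 1 (by norm_num) (by norm_num) (hcard.trans (by norm_num))
  · exact eng_two_mod_four hG (by rw [hcard])
  · exact eng_two_primes hG 7 617 1 1 (by norm_num) (by norm_num) (hcard.trans (by norm_num))
  · exact absurd hcard Cfsg.Agent.S0977.result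
  · exact eng_two_primes hG 29 149 1 1 (by norm_num) (by norm_num) (hcard.trans (by norm_num))
  · exact eng_two_mod_four hG (by rw [hcard])
  · exact eng_big_prime hG 131 (by norm_num) (by rw [hcard]; norm_num) (by rw [hcard]; norm_num) (by rw [hcard]; norm_num) (by rw [hcard]; norm_num)
  · exact eng_big_prime hG 47 (by norm_num) (by rw [hcard]; norm_num) (by rw [hcard]; norm_num) (by rw [hcard]; norm_num) (by rw [hcard]; norm_num)
  · exact eng_two_primes hG 5 173 2 1 (by norm_num) (by norm_num) (hcard.trans (by norm_num))
  · exact eng_two_mod_four hG (by rw [hcard])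
  · exact eng_two_primes hG 4327 2 1 0 (by norm_num) (by norm_num) (hcard.trans (by norm_num))
  · exact eng_two_primes hG 2 541 3 1 (by norm_num) (by norm_num) (hcard.trans (by norm_num))
  · exact eng_big_prime hG 37 (by norm_num) (by rw [hcard]; norm_num) (by rw [hcard]; norm_num) (by rw [hcard]; norm_num) (by rw [hcard]; norm_num)
  · exact eng_two_mod_four hG (by rw [hcard])
  · exact eng_two_primes hG 61 71 1 1 (by norm_num) (by norm_num) (hcard.trans (by norm_num))
  · exact eng_big_prime hG 19 (by norm_num) (by rw [hcard]; norm_num) (by rw [hcard]; norm_num) (by rw [hcard]; norm_num) (by rw [hcard]; norm_num)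
  · exact eng_two_primes hG 7 619 1 1 (by norm_num) (by norm_num) (hcard.trans (by norm_num))
  · exact eng_two_mod_four hG (by rw [hcard])
  · exact eng_big_prime hG 17 (by norm_num) (by rw [hcard]; norm_num) (by rw [hcard]; norm_num) (by rw [hcard]; norm_num) (by rw [hcard]; norm_num)
  · exact eng_two_primes hG 2 271 4 1 (by norm_num) (by norm_num) (hcard.trans (by norm_num))
  · exact eng_two_primes hG 4337 2 1 0 (by norm_num) (by norm_num) (hcard.trans (by norm_num))
  · exact eng_two_mod_four hG (by rw [hcard])
  · exact eng_two_primes hG 4339 2 1 0 (by norm_num) (by norm_num) (hcard.trans (by norm_num))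
  · exact eng_big_prime hG 31 (by norm_num) (by rw [hcard]; norm_num) (by rw [hcard]; norm_num) (by rw [hcard]; norm_num) (by rw [hcard]; norm_num)
  · exact eng_two_primes hG 3 1447 1 1 (by norm_num) (by norm_num) (hcard.trans (by norm_num))
  · exact eng_two_mod_four hG (by rw [hcard])
  · exact eng_two_primes hG 43 101 1 1 (by norm_num) (by norm_num) (hcard.trans (by norm_num))
  · exact eng_big_prime hG 181 (by norm_num) (by rw [hcard]; norm_num) (by rw [hcard]; norm_num) (by rw [hcard]; norm_num) (by rw [hcard]; norm_num)
  · exact eng_big_prime hG 79 (by norm_num) (by rw [hcard]; norm_num) (by rw [hcard]; norm_num) (by rw [hcard]; norm_num) (by rw [hcard]; norm_num)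
  · exact eng_two_mod_four hG (by rw [hcard])
  · exact eng_big_prime hG 23 (by norm_num) (by rw [hcard]; norm_num) (by rw [hcard]; norm_num) (by rw [hcard]; norm_num) (by rw [hcard]; norm_num)
  · exact eng_two_primes hG 2 1087 2 1 (by norm_num) (by norm_num) (hcard.trans (by norm_num))
  · exact eng_two_primes hG 4349 2 1 0 (by norm_num) (by norm_num) (hcard.trans (by norm_num))
  · exact eng_two_mod_four hG (by rw [hcard])
  · exact eng_two_primes hG 19 229 1 1 (by norm_num) (by norm_num) (hcard.trans (by norm_num))
  · exact eng_two_primes hG 2 17 8 1 (by norm_num) (by norm_num) (hcard.trans (by norm_num))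
  · exact eng_two_primes hG 3 1451 1 1 (by norm_num) (by norm_num) (hcard.trans (by norm_num))
  · exact eng_two_mod_four hG (by rw [hcard])
  · exact eng_big_prime hG 67 (by norm_num) (by rw [hcard]; norm_num) (by rw [hcard]; norm_num) (by rw [hcard]; norm_num) (by rw [hcard]; norm_num)
  · exact kill_basic hG 4356 11 2 36 hcard (by norm_num) (by norm_num) (by norm_num) (by norm_num) (by norm_num) (by norm_num) (by decide +kernel)
  · exact eng_two_primes hG 4357 2 1 0 (by norm_num) (by norm_num) (hcard.trans (by norm_num))
  · exact eng_two_mod_four hG (by rw [hcard])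
  · exact eng_two_primes hG 3 1453 1 1 (by norm_num) (by norm_num) (hcard.trans (by norm_num))
  · exact eng_big_prime hG 109 (by norm_num) (by rw [hcard]; norm_num) (by rw [hcard]; norm_num) (by rw [hcard]; norm_num) (by rw [hcard]; norm_num)
  · exact eng_two_primes hG 7 89 2 1 (by norm_num) (by norm_num) (hcard.trans (by norm_num))
  · exact eng_two_mod_four hG (by rw [hcard])
  · exact eng_two_primes hG 4363 2 1 0 (by norm_num) (by norm_num) (hcard.trans (by norm_num))
  · exact eng_two_primes hG 2 1091 2 1 (by norm_num) (by norm_num) (hcard.trans (by norm_num))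
  · exact eng_big_prime hG 97 (by norm_num) (by rw [hcard]; norm_num) (by rw [hcard]; norm_num) (by rw [hcard]; norm_num) (by rw [hcard]; norm_num)
  · exact eng_two_mod_four hG (by rw [hcard])
  · exact eng_two_primes hG 11 397 1 1 (by norm_num) (by norm_num) (hcard.trans (by norm_num))
  · exact kill_one hG 4368 13 336 hcard (by norm_num) (by norm_num) (by norm_num) (by norm_num) (by norm_num) (by norm_num) (by decide +kernel)
  · exact eng_two_primes hG 17 257 1 1 (by norm_num) (by norm_num) (hcard.trans (by norm_num))
  · exact eng_two_mod_four hG (by rw [hcard])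
  · exact eng_big_prime hG 47 (by norm_num) (by rw [hcard]; norm_num) (by rw [hcard]; norm_num) (by rw [hcard]; norm_num) (by rw [hcard]; norm_num)
  · exact eng_two_primes hG 2 1093 2 1 (by norm_num) (by norm_num) (hcard.trans (by norm_num))
  · exact eng_two_primes hG 4373 2 1 0 (by norm_num) (by norm_num) (hcard.trans (by norm_num))
  · exact eng_two_mod_four hG (by rw [hcard])
  · exact eng_two_primes hG 5 7 4 1 (by norm_num) (by norm_num) (hcard.trans (by norm_num))
  · exact eng_two_primes hG 2 547 3 1 (by norm_num) (by norm_num) (hcard.trans (by norm_num))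
  · exact eng_two_primes hG 3 1459 1 1 (by norm_num) (by norm_num) (hcard.trans (by norm_num))
  · exact eng_two_mod_four hG (by rw [hcard])
  · exact eng_two_primes hG 29 151 1 1 (by norm_num) (by norm_num) (hcard.trans (by norm_num))
  · exact eng_big_prime hG 73 (by norm_num) (by rw [hcard]; norm_num) (by rw [hcard]; norm_num) (by rw [hcard]; norm_num) (by rw [hcard]; norm_num)
  · exact eng_two_primes hG 13 337 1 1 (by norm_num) (by norm_num) (hcard.trans (by norm_num))
  · exact eng_two_mod_four hG (by rw [hcard])
  · exact eng_two_primes hG 3 487 2 1 (by norm_num) (by norm_num) (hcard.trans (by norm_num))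
  · exact eng_two_primes hG 2 137 5 1 (by norm_num) (by norm_num) (hcard.trans (by norm_num))
  · exact eng_two_primes hG 5 877 1 1 (by norm_num) (by norm_num) (hcard.trans (by norm_num))
  · exact eng_two_mod_four hG (by rw [hcard])
  · exact eng_two_primes hG 41 107 1 1 (by norm_num) (by norm_num) (hcard.trans (by norm_num))
  · exact eng_two_primes hG 2 1097 2 1 (by norm_num) (by norm_num) (hcard.trans (by norm_num))
  · exact eng_big_prime hG 19 (by norm_num) (by rw [hcard]; norm_num) (by rw [hcard]; norm_num) (by rw [hcard]; norm_num) (by rw [hcard]; norm_num)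
  · exact eng_two_mod_four hG (by rw [hcard])
  · exact eng_two_primes hG 4391 2 1 0 (by norm_num) (by norm_num) (hcard.trans (by norm_num))
  · exact eng_big_prime hG 61 (by norm_num) (by rw [hcard]; norm_num) (by rw [hcard]; norm_num) (by rw [hcard]; norm_num) (by rw [hcard]; norm_num)
  · exact eng_two_primes hG 23 191 1 1 (by norm_num) (by norm_num) (hcard.trans (by norm_num))
  · exact eng_two_mod_four hG (by rw [hcard])
  · exact eng_big_prime hG 293 (by norm_num) (by rw [hcard]; norm_num) (by rw [hcard]; norm_num) (by rw [hcard]; norm_num) (by rw [hcard]; norm_num)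
  · exact eng_big_prime hG 157 (by norm_num) (by rw [hcard]; norm_num) (by rw [hcard]; norm_num) (by rw [hcard]; norm_num) (by rw [hcard]; norm_num)
  · exact eng_two_primes hG 4397 2 1 0 (by norm_num) (by norm_num) (hcard.trans (by norm_num))
  · exact eng_two_mod_four hG (by rw [hcard])
  · exact eng_two_primes hG 53 83 1 1 (by norm_num) (by norm_num) (hcard.trans (by norm_num))
  · exact kill_three hG 4400 11 400 2 5 4 2 hcard (by norm_num) (by norm_num) (by norm_num) (by norm_num) (by norm_num) (by norm_num) (by norm_num) (by norm_num) (by norm_num) (by norm_num) (by norm_num) (by decide +kernel)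
  · exact eng_two_primes hG 3 163 3 1 (by norm_num) (by norm_num) (hcard.trans (by norm_num))
  · exact eng_two_mod_four hG (by rw [hcard])
  · exact eng_big_prime hG 37 (by norm_num) (by rw [hcard]; norm_num) (by rw [hcard]; norm_num) (by rw [hcard]; norm_num) (by rw [hcard]; norm_num)
  · exact eng_big_prime hG 367 (by norm_num) (by rw [hcard]; norm_num) (by rw [hcard]; norm_num) (by rw [hcard]; norm_num) (by rw [hcard]; norm_num)
  · exact eng_two_primes hG 5 881 1 1 (by norm_num) (by norm_num) (hcard.trans (by norm_num))
  · exact eng_two_mod_four hG (by rw [hcard])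
  · exact eng_big_prime hG 113 (by norm_num) (by rw [hcard]; norm_num) (by rw [hcard]; norm_num) (by rw [hcard]; norm_num) (by rw [hcard]; norm_num)
  · exact eng_big_prime hG 29 (by norm_num) (by rw [hcard]; norm_num) (by rw [hcard]; norm_num) (by rw [hcard]; norm_num) (by rw [hcard]; norm_num)
  · exact eng_two_primes hG 4409 2 1 0 (by norm_num) (by norm_num) (hcard.trans (by norm_num))
  · exact eng_two_mod_four hG (by rw [hcard])
  · exact eng_two_primes hG 11 401 1 1 (by norm_num) (by norm_num) (hcard.trans (by norm_num))
  · exact eng_two_primes hG 2 1103 2 1 (by norm_num) (by norm_num) (hcard.trans (by norm_num))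
  · exact eng_two_primes hG 3 1471 1 1 (by norm_num) (by norm_num) (hcard.trans (by norm_num))
  · exact eng_two_mod_four hG (by rw [hcard])
  · exact eng_two_primes hG 5 883 1 1 (by norm_num) (by norm_num) (hcard.trans (by norm_num))
  · exact eng_big_prime hG 23 (by norm_num) (by rw [hcard]; norm_num) (by rw [hcard]; norm_num) (by rw [hcard]; norm_num) (by rw [hcard]; norm_num)
  · exact eng_two_primes hG 7 631 1 1 (by norm_num) (by norm_num) (hcard.trans (by norm_num))
  · exact eng_two_mod_four hG (by rw [hcard])
  · exact eng_two_primes hG 3 491 2 1 (by norm_num) (by norm_num) (hcard.trans (by norm_num))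
  · exact eng_big_prime hG 17 (by norm_num) (by rw [hcard]; norm_num) (by rw [hcard]; norm_num) (by rw [hcard]; norm_num) (by rw [hcard]; norm_num)

end Cfsg.Agent.Helper82
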