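import Cfsg.Agent.Helper82.OrdEngine
import Cfsg.Agent.Helper82.OrdAdhoc

/-! # S0983: orders 4421 to 4680 (generated; helper82) -/

set_option autoImplicit false
set_option maxHeartbeats 0
set_option maxRecDepth 100000

namespace Cfsg.Agent.Helper82

theorem ord_chunk4 {G : Type*} [Group G] [Finite G] [IsSimpleGroup G]
    (hG : ¬ IsMulCommutative G) (n : ℕ) (hcard : Nat.card G = n) (h1 : 4421 ≤ n) (h2 : n ≤ 4680)
    (e1 : n ≠ 4080) (e2 : n ≠ 5616) (e3 : n ≠ 6048) (e4 : n ≠ 6072) : False := by
  interval_cases n
  · exact eng_two_primes hG 4421 2 1 0 (by norm_num) (by norm_num) (hcard.trans (by norm_num))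
  · exact eng_two_mod_four hG (by rw [hcard])
  · exact eng_two_primes hG 4423 2 1 0 (by norm_num) (by norm_num) (hcard.trans (by norm_num))
  · exact eng_big_prime hG 79 (by norm_num) (by rw [hcard]; norm_num) (by rw [hcard]; norm_num) (by rw [hcard]; norm_num) (by rw [hcard]; norm_num)
  · exact eng_big_prime hG 59 (by norm_num) (by rw [hcard]; norm_num) (by rw [hcard]; norm_num) (by rw [hcard]; norm_num) (by rw [hcard]; norm_num)
  · exact eng_two_mod_four hG (by rw [hcard])
  · exact eng_two_primes hG 19 233 1 1 (by norm_num) (by norm_num) (hcard.trans (by norm_num))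
  · exact eng_big_prime hG 41 (by norm_num) (by rw [hcard]; norm_num) (by rw [hcard]; norm_num) (by rw [hcard]; norm_num) (by rw [hcard]; norm_num)
  · exact eng_two_primes hG 43 103 1 1 (by norm_num) (by norm_num) (hcard.trans (by norm_num))
  · exact eng_two_mod_four hG (by rw [hcard])
  · exact eng_big_prime hG 211 (by norm_num) (by rw [hcard]; norm_num) (by rw [hcard]; norm_num) (by rw [hcard]; norm_num) (by rw [hcard]; norm_num)
  · exact eng_two_primes hG 2 277 4 1 (by norm_num) (by norm_num) (hcard.trans (by norm_num))
  · exact eng_big_prime hG 31 (by norm_num) (by rw [hcard]; norm_num) (by rw [hcard]; norm_num) (by rw [hcard]; norm_num) (by rw [hcard]; norm_num)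
  · exact eng_two_mod_four hG (by rw [hcard])
  · exact eng_two_primes hG 5 887 1 1 (by norm_num) (by norm_num) (hcard.trans (by norm_num))
  · exact eng_two_primes hG 2 1109 2 1 (by norm_num) (by norm_num) (hcard.trans (by norm_num))
  · exact eng_big_prime hG 29 (by norm_num) (by rw [hcard]; norm_num) (by rw [hcard]; norm_num) (by rw [hcard]; norm_num) (by rw [hcard]; norm_num)
  · exact eng_two_mod_four hG (by rw [hcard])
  · exact eng_two_primes hG 23 193 1 1 (by norm_num) (by norm_num) (hcard.trans (by norm_num))
  · exact eng_big_prime hG 37 (by norm_num) (by rw [hcard]; norm_num) (by rw [hcard]; norm_num) (by rw [hcard]; norm_num) (by rw [hcard]; norm_num)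
  · exact eng_two_primes hG 4441 2 1 0 (by norm_num) (by norm_num) (hcard.trans (by norm_num))
  · exact eng_two_mod_four hG (by rw [hcard])
  · exact eng_two_primes hG 3 1481 1 1 (by norm_num) (by norm_num) (hcard.trans (by norm_num))
  · exact eng_big_prime hG 101 (by norm_num) (by rw [hcard]; norm_num) (by rw [hcard]; norm_num) (by rw [hcard]; norm_num) (by rw [hcard]; norm_num)
  · exact eng_big_prime hG 127 (by norm_num) (by rw [hcard]; norm_num) (by rw [hcard]; norm_num) (by rw [hcard]; norm_num) (by rw [hcard]; norm_num)
  · exact eng_two_mod_four hG (by rw [hcard])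
  · exact eng_two_primes hG 4447 2 1 0 (by norm_num) (by norm_num) (hcard.trans (by norm_num))
  · exact eng_two_primes hG 2 139 5 1 (by norm_num) (by norm_num) (hcard.trans (by norm_num))
  · exact eng_two_primes hG 3 1483 1 1 (by norm_num) (by norm_num) (hcard.trans (by norm_num))
  · exact eng_two_mod_four hG (by rw [hcard])
  · exact eng_two_primes hG 4451 2 1 0 (by norm_num) (by norm_num) (hcard.trans (by norm_num))
  · exact eng_big_prime hG 53 (by norm_num) (by rw [hcard]; norm_num) (by rw [hcard]; norm_num) (by rw [hcard]; norm_num) (by rw [hcard]; norm_num)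
  · exact eng_two_primes hG 61 73 1 1 (by norm_num) (by norm_num) (hcard.trans (by norm_num))
  · exact eng_two_mod_four hG (by rw [hcard])
  · exact kill_three hG 4455 11 405 3 5 4 1 hcard (by norm_num) (by norm_num) (by norm_num) (by norm_num) (by norm_num) (by norm_num) (by norm_num) (by norm_num) (by norm_num) (by norm_num) (by norm_num) (by decide +kernel)
  · exact eng_two_primes hG 2 557 3 1 (by norm_num) (by norm_num) (hcard.trans (by norm_num))
  · exact eng_two_primes hG 4457 2 1 0 (by norm_num) (by norm_num) (hcard.trans (by norm_num))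
  · exact eng_two_mod_four hG (by rw [hcard])
  · exact eng_two_primes hG 7 13 3 1 (by norm_num) (by norm_num) (hcard.trans (by norm_num))
  · exact eng_big_prime hG 223 (by norm_num) (by rw [hcard]; norm_num) (by rw [hcard]; norm_num) (by rw [hcard]; norm_num) (by rw [hcard]; norm_num)
  · exact eng_two_primes hG 3 1487 1 1 (by norm_num) (by norm_num) (hcard.trans (by norm_num))
  · exact eng_two_mod_four hG (by rw [hcard])
  · exact eng_two_primes hG 4463 2 1 0 (by norm_num) (by norm_num) (hcard.trans (by norm_num))
  · exact eng_big_prime hG 31 (by norm_num) (by rw [hcard]; norm_num) (by rw [hcard]; norm_num) (by rw [hcard]; norm_num) (by rw [hcard]; norm_num)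
  · exact eng_big_prime hG 47 (by norm_num) (by rw [hcard]; norm_num) (by rw [hcard]; norm_num) (by rw [hcard]; norm_num) (by rw [hcard]; norm_num)
  · exact eng_two_mod_four hG (by rw [hcard])
  · exact eng_two_primes hG 3 1489 1 1 (by norm_num) (by norm_num) (hcard.trans (by norm_num))
  · exact eng_two_primes hG 2 1117 2 1 (by norm_num) (by norm_num) (hcard.trans (by norm_num))
  · exact eng_two_primes hG 41 109 1 1 (by norm_num) (by norm_num) (hcard.trans (by norm_num))
  · exact eng_two_mod_four hG (by rw [hcard])
  · exact eng_two_primes hG 17 263 1 1 (by norm_num) (by norm_num) (hcard.trans (by norm_num))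
  · exact eng_big_prime hG 43 (by norm_num) (by rw [hcard]; norm_num) (by rw [hcard]; norm_num) (by rw [hcard]; norm_num) (by rw [hcard]; norm_num)
  · exact eng_big_prime hG 71 (by norm_num) (by rw [hcard]; norm_num) (by rw [hcard]; norm_num) (by rw [hcard]; norm_num) (by rw [hcard]; norm_num)
  · exact eng_two_mod_four hG (by rw [hcard])
  · exact eng_two_primes hG 5 179 2 1 (by norm_num) (by norm_num) (hcard.trans (by norm_num))
  · exact eng_big_prime hG 373 (by norm_num) (by rw [hcard]; norm_num) (by rw [hcard]; norm_num) (by rw [hcard]; norm_num) (by rw [hcard]; norm_num)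
  · exact eng_two_primes hG 11 37 2 1 (by norm_num) (by norm_num) (hcard.trans (by norm_num))
  · exact eng_two_mod_four hG (by rw [hcard])
  · exact eng_two_primes hG 3 1493 1 1 (by norm_num) (by norm_num) (hcard.trans (by norm_num))
  · exact kill_three hG 4480 7 640 2 5 7 1 hcard (by norm_num) (by norm_num) (by norm_num) (by norm_num) (by norm_num) (by norm_num) (by norm_num) (by norm_num) (by norm_num) (by norm_num) (by norm_num) (by decide +kernel)
  · exact eng_two_primes hG 4481 2 1 0 (by norm_num) (by norm_num) (hcard.trans (by norm_num))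
  · exact eng_two_mod_four hG (by rw [hcard])
  · exact eng_two_primes hG 4483 2 1 0 (by norm_num) (by norm_num) (hcard.trans (by norm_num))
  · exact eng_big_prime hG 59 (by norm_num) (by rw [hcard]; norm_num) (by rw [hcard]; norm_num) (by rw [hcard]; norm_num) (by rw [hcard]; norm_num)
  · exact eng_big_prime hG 23 (by norm_num) (by rw [hcard]; norm_num) (by rw [hcard]; norm_num) (by rw [hcard]; norm_num) (by rw [hcard]; norm_num)
  · exact eng_two_mod_four hG (by rw [hcard])
  · exact eng_two_primes hG 7 641 1 1 (by norm_num) (by norm_num) (hcard.trans (by norm_num))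
  · exact eng_big_prime hG 17 (by norm_num) (by rw [hcard]; norm_num) (by rw [hcard]; norm_num) (by rw [hcard]; norm_num) (by rw [hcard]; norm_num)
  · exact eng_two_primes hG 67 2 2 0 (by norm_num) (by norm_num) (hcard.trans (by norm_num))
  · exact eng_two_mod_four hG (by rw [hcard])
  · exact eng_two_primes hG 3 499 2 1 (by norm_num) (by norm_num) (hcard.trans (by norm_num))
  · exact eng_two_primes hG 2 1123 2 1 (by norm_num) (by norm_num) (hcard.trans (by norm_num))
  · exact eng_two_primes hG 4493 2 1 0 (by norm_num) (by norm_num) (hcard.trans (by norm_num))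
  · exact eng_two_mod_four hG (by rw [hcard])
  · exact eng_big_prime hG 31 (by norm_num) (by rw [hcard]; norm_num) (by rw [hcard]; norm_num) (by rw [hcard]; norm_num) (by rw [hcard]; norm_num)
  · exact eng_two_primes hG 2 281 4 1 (by norm_num) (by norm_num) (hcard.trans (by norm_num))
  · exact eng_two_primes hG 3 1499 1 1 (by norm_num) (by norm_num) (hcard.trans (by norm_num))
  · exact eng_two_mod_four hG (by rw [hcard])
  · exact eng_two_primes hG 11 409 1 1 (by norm_num) (by norm_num) (hcard.trans (by norm_num))
  · exact kill_sq hG 4500 5 3 36 hcard (by norm_num) (by norm_num) (by norm_num) (by norm_num) (by norm_num) (by norm_num) (by decide +kernel)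
  · exact eng_two_primes hG 7 643 1 1 (by norm_num) (by norm_num) (hcard.trans (by norm_num))
  · exact eng_two_mod_four hG (by rw [hcard])
  · exact eng_big_prime hG 79 (by norm_num) (by rw [hcard]; norm_num) (by rw [hcard]; norm_num) (by rw [hcard]; norm_num) (by rw [hcard]; norm_num)
  · exact eng_two_primes hG 2 563 3 1 (by norm_num) (by norm_num) (hcard.trans (by norm_num))
  · exact eng_big_prime hG 53 (by norm_num) (by rw [hcard]; norm_num) (by rw [hcard]; norm_num) (by rw [hcard]; norm_num) (by rw [hcard]; norm_num)
  · exact eng_two_mod_four hG (by rw [hcard])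
  · exact eng_two_primes hG 4507 2 1 0 (by norm_num) (by norm_num) (hcard.trans (by norm_num))
  · exact eng_big_prime hG 23 (by norm_num) (by rw [hcard]; norm_num) (by rw [hcard]; norm_num) (by rw [hcard]; norm_num) (by rw [hcard]; norm_num)
  · exact eng_two_primes hG 3 167 3 1 (by norm_num) (by norm_num) (hcard.trans (by norm_num))
  · exact eng_two_mod_four hG (by rw [hcard])
  · exact eng_two_primes hG 13 347 1 1 (by norm_num) (by norm_num) (hcard.trans (by norm_num))
  · exact eng_big_prime hG 47 (by norm_num) (by rw [hcard]; norm_num) (by rw [hcard]; norm_num) (by rw [hcard]; norm_num) (by rw [hcard]; norm_num)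
  · exact eng_two_primes hG 4513 2 1 0 (by norm_num) (by norm_num) (hcard.trans (by norm_num))
  · exact eng_two_mod_four hG (by rw [hcard])
  · exact eng_big_prime hG 43 (by norm_num) (by rw [hcard]; norm_num) (by rw [hcard]; norm_num) (by rw [hcard]; norm_num) (by rw [hcard]; norm_num)
  · exact eng_two_primes hG 2 1129 2 1 (by norm_num) (by norm_num) (hcard.trans (by norm_num))
  · exact eng_two_primes hG 4517 2 1 0 (by norm_num) (by norm_num) (hcard.trans (by norm_num))
  · exact eng_two_mod_four hG (by rw [hcard])
  · exact eng_two_primes hG 4519 2 1 0 (by norm_num) (by norm_num) (hcard.trans (by norm_num))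
  · exact eng_big_prime hG 113 (by norm_num) (by rw [hcard]; norm_num) (by rw [hcard]; norm_num) (by rw [hcard]; norm_num) (by rw [hcard]; norm_num)
  · exact eng_big_prime hG 137 (by norm_num) (by rw [hcard]; norm_num) (by rw [hcard]; norm_num) (by rw [hcard]; norm_num) (by rw [hcard]; norm_num)
  · exact eng_two_mod_four hG (by rw [hcard])
  · exact eng_two_primes hG 4523 2 1 0 (by norm_num) (by norm_num) (hcard.trans (by norm_num))
  · exact eng_big_prime hG 29 (by norm_num) (by rw [hcard]; norm_num) (by rw [hcard]; norm_num) (by rw [hcard]; norm_num) (by rw [hcard]; norm_num)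
  · exact eng_two_primes hG 5 181 2 1 (by norm_num) (by norm_num) (hcard.trans (by norm_num))
  · exact eng_two_mod_four hG (by rw [hcard])
  · exact eng_two_primes hG 3 503 2 1 (by norm_num) (by norm_num) (hcard.trans (by norm_num))
  · exact eng_two_primes hG 2 283 4 1 (by norm_num) (by norm_num) (hcard.trans (by norm_num))
  · exact eng_two_primes hG 7 647 1 1 (by norm_num) (by norm_num) (hcard.trans (by norm_num))
  · exact eng_two_mod_four hG (by rw [hcard])
  · exact eng_two_primes hG 23 197 1 1 (by norm_num) (by norm_num) (hcard.trans (by norm_num))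
  · exact eng_big_prime hG 103 (by norm_num) (by rw [hcard]; norm_num) (by rw [hcard]; norm_num) (by rw [hcard]; norm_num) (by rw [hcard]; norm_num)
  · exact eng_two_primes hG 3 1511 1 1 (by norm_num) (by norm_num) (hcard.trans (by norm_num))
  · exact eng_two_mod_four hG (by rw [hcard])
  · exact eng_two_primes hG 5 907 1 1 (by norm_num) (by norm_num) (hcard.trans (by norm_num))
  · exact kill_three hG 4536 7 648 2 3 3 4 hcard (by norm_num) (by norm_num) (by norm_num) (by norm_num) (by norm_num) (by norm_num) (by norm_num) (by norm_num) (by norm_num) (by norm_num) (by norm_num) (by decide +kernel)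
  · exact eng_two_primes hG 13 349 1 1 (by norm_num) (by norm_num) (hcard.trans (by norm_num))
  · exact eng_two_mod_four hG (by rw [hcard])
  · exact eng_big_prime hG 89 (by norm_num) (by rw [hcard]; norm_num) (by rw [hcard]; norm_num) (by rw [hcard]; norm_num) (by rw [hcard]; norm_num)
  · exact eng_big_prime hG 227 (by norm_num) (by rw [hcard]; norm_num) (by rw [hcard]; norm_num) (by rw [hcard]; norm_num) (by rw [hcard]; norm_num)
  · exact eng_two_primes hG 19 239 1 1 (by norm_num) (by norm_num) (hcard.trans (by norm_num))
  · exact eng_two_mod_four hG (by rw [hcard])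
  · exact eng_big_prime hG 59 (by norm_num) (by rw [hcard]; norm_num) (by rw [hcard]; norm_num) (by rw [hcard]; norm_num) (by rw [hcard]; norm_num)
  · exact eng_two_primes hG 2 71 6 1 (by norm_num) (by norm_num) (hcard.trans (by norm_num))
  · exact eng_big_prime hG 101 (by norm_num) (by rw [hcard]; norm_num) (by rw [hcard]; norm_num) (by rw [hcard]; norm_num) (by rw [hcard]; norm_num)
  · exact eng_two_mod_four hG (by rw [hcard])
  · exact eng_two_primes hG 4547 2 1 0 (by norm_num) (by norm_num) (hcard.trans (by norm_num))
  · exact eng_big_prime hG 379 (by norm_num) (by rw [hcard]; norm_num) (by rw [hcard]; norm_num) (by rw [hcard]; norm_num) (by rw [hcard]; norm_num)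
  · exact eng_two_primes hG 4549 2 1 0 (by norm_num) (by norm_num) (hcard.trans (by norm_num))
  · exact eng_two_mod_four hG (by rw [hcard])
  · exact eng_big_prime hG 41 (by norm_num) (by rw [hcard]; norm_num) (by rw [hcard]; norm_num) (by rw [hcard]; norm_num) (by rw [hcard]; norm_num)
  · exact eng_two_primes hG 2 569 3 1 (by norm_num) (by norm_num) (hcard.trans (by norm_num))
  · exact eng_two_primes hG 29 157 1 1 (by norm_num) (by norm_num) (hcard.trans (by norm_num))
  · exact eng_two_mod_four hG (by rw [hcard])
  · exact eng_two_primes hG 5 911 1 1 (by norm_num) (by norm_num) (hcard.trans (by norm_num))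
  · exact eng_big_prime hG 67 (by norm_num) (by rw [hcard]; norm_num) (by rw [hcard]; norm_num) (by rw [hcard]; norm_num) (by rw [hcard]; norm_num)
  · exact eng_big_prime hG 31 (by norm_num) (by rw [hcard]; norm_num) (by rw [hcard]; norm_num) (by rw [hcard]; norm_num) (by rw [hcard]; norm_num)
  · exact eng_two_mod_four hG (by rw [hcard])
  · exact eng_two_primes hG 47 97 1 1 (by norm_num) (by norm_num) (hcard.trans (by norm_num))
  · exact eng_big_prime hG 19 (by norm_num) (by rw [hcard]; norm_num) (by rw [hcard]; norm_num) (by rw [hcard]; norm_num) (by rw [hcard]; norm_num)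
  · exact eng_two_primes hG 4561 2 1 0 (by norm_num) (by norm_num) (hcard.trans (by norm_num))
  · exact eng_two_mod_four hG (by rw [hcard])
  · exact eng_two_primes hG 3 13 3 2 (by norm_num) (by norm_num) (hcard.trans (by norm_num))
  · exact eng_big_prime hG 163 (by norm_num) (by rw [hcard]; norm_num) (by rw [hcard]; norm_num) (by rw [hcard]; norm_num) (by rw [hcard]; norm_num)
  · exact eng_big_prime hG 83 (by norm_num) (by rw [hcard]; norm_num) (by rw [hcard]; norm_num) (by rw [hcard]; norm_num) (by rw [hcard]; norm_num)
  · exact eng_two_mod_four hG (by rw [hcard])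
  · exact eng_two_primes hG 4567 2 1 0 (by norm_num) (by norm_num) (hcard.trans (by norm_num))
  · exact eng_two_primes hG 2 571 3 1 (by norm_num) (by norm_num) (hcard.trans (by norm_num))
  · exact eng_two_primes hG 3 1523 1 1 (by norm_num) (by norm_num) (hcard.trans (by norm_num))
  · exact eng_two_mod_four hG (by rw [hcard])
  · exact eng_two_primes hG 7 653 1 1 (by norm_num) (by norm_num) (hcard.trans (by norm_num))
  · exact eng_big_prime hG 127 (by norm_num) (by rw [hcard]; norm_num) (by rw [hcard]; norm_num) (by rw [hcard]; norm_num) (by rw [hcard]; norm_num)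
  · exact eng_two_primes hG 17 269 1 1 (by norm_num) (by norm_num) (hcard.trans (by norm_num))
  · exact eng_two_mod_four hG (by rw [hcard])
  · exact eng_big_prime hG 61 (by norm_num) (by rw [hcard]; norm_num) (by rw [hcard]; norm_num) (by rw [hcard]; norm_num) (by rw [hcard]; norm_num)
  · exact kill_basic hG 4576 11 1 416 hcard (by norm_num) (by norm_num) (by norm_num) (by norm_num) (by norm_num) (by norm_num) (by decide +kernel)
  · exact eng_two_primes hG 23 199 1 1 (by norm_num) (by norm_num) (hcard.trans (by norm_num))
  · exact eng_two_mod_four hG (by rw [hcard])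
  · exact eng_two_primes hG 19 241 1 1 (by norm_num) (by norm_num) (hcard.trans (by norm_num))
  · exact eng_big_prime hG 229 (by norm_num) (by rw [hcard]; norm_num) (by rw [hcard]; norm_num) (by rw [hcard]; norm_num) (by rw [hcard]; norm_num)
  · exact eng_two_primes hG 3 509 2 1 (by norm_num) (by norm_num) (hcard.trans (by norm_num))
  · exact eng_two_mod_four hG (by rw [hcard])
  · exact eng_two_primes hG 4583 2 1 0 (by norm_num) (by norm_num) (hcard.trans (by norm_num))
  · exact eng_big_prime hG 191 (by norm_num) (by rw [hcard]; norm_num) (by rw [hcard]; norm_num) (by rw [hcard]; norm_num) (by rw [hcard]; norm_num)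
  · exact eng_big_prime hG 131 (by norm_num) (by rw [hcard]; norm_num) (by rw [hcard]; norm_num) (by rw [hcard]; norm_num) (by rw [hcard]; norm_num)
  · exact eng_two_mod_four hG (by rw [hcard])
  · exact eng_big_prime hG 139 (by norm_num) (by rw [hcard]; norm_num) (by rw [hcard]; norm_num) (by rw [hcard]; norm_num) (by rw [hcard]; norm_num)
  · exact eng_big_prime hG 37 (by norm_num) (by rw [hcard]; norm_num) (by rw [hcard]; norm_num) (by rw [hcard]; norm_num) (by rw [hcard]; norm_num)
  · exact eng_two_primes hG 13 353 1 1 (by norm_num) (by norm_num) (hcard.trans (by norm_num))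
  · exact eng_two_mod_four hG (by rw [hcard])
  · exact eng_two_primes hG 4591 2 1 0 (by norm_num) (by norm_num) (hcard.trans (by norm_num))
  · exact eng_big_prime hG 41 (by norm_num) (by rw [hcard]; norm_num) (by rw [hcard]; norm_num) (by rw [hcard]; norm_num) (by rw [hcard]; norm_num)
  · exact eng_two_primes hG 3 1531 1 1 (by norm_num) (by norm_num) (hcard.trans (by norm_num))
  · exact eng_two_mod_four hG (by rw [hcard])
  · exact eng_two_primes hG 5 919 1 1 (by norm_num) (by norm_num) (hcard.trans (by norm_num))
  · exact eng_big_prime hG 383 (by norm_num) (by rw [hcard]; norm_num) (by rw [hcard]; norm_num) (by rw [hcard]; norm_num) (by rw [hcard]; norm_num)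
  · exact eng_two_primes hG 4597 2 1 0 (by norm_num) (by norm_num) (hcard.trans (by norm_num))
  · exact eng_two_mod_four hG (by rw [hcard])
  · exact eng_big_prime hG 73 (by norm_num) (by rw [hcard]; norm_num) (by rw [hcard]; norm_num) (by rw [hcard]; norm_num) (by rw [hcard]; norm_num)
  · exact eng_big_prime hG 23 (by norm_num) (by rw [hcard]; norm_num) (by rw [hcard]; norm_num) (by rw [hcard]; norm_num) (by rw [hcard]; norm_num)
  · exact eng_two_primes hG 43 107 1 1 (by norm_num) (by norm_num) (hcard.trans (by norm_num))
  · exact eng_two_mod_four hG (by rw [hcard])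
  · exact eng_two_primes hG 4603 2 1 0 (by norm_num) (by norm_num) (hcard.trans (by norm_num))
  · exact eng_two_primes hG 2 1151 2 1 (by norm_num) (by norm_num) (hcard.trans (by norm_num))
  · exact eng_big_prime hG 307 (by norm_num) (by rw [hcard]; norm_num) (by rw [hcard]; norm_num) (by rw [hcard]; norm_num) (by rw [hcard]; norm_num)
  · exact eng_two_mod_four hG (by rw [hcard])
  · exact eng_two_primes hG 17 271 1 1 (by norm_num) (by norm_num) (hcard.trans (by norm_num))
  · exact eng_two_primes hG 2 3 9 2 (by norm_num) (by norm_num) (hcard.trans (by norm_num))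
  · exact eng_two_primes hG 11 419 1 1 (by norm_num) (by norm_num) (hcard.trans (by norm_num))
  · exact eng_two_mod_four hG (by rw [hcard])
  · exact eng_big_prime hG 53 (by norm_num) (by rw [hcard]; norm_num) (by rw [hcard]; norm_num) (by rw [hcard]; norm_num) (by rw [hcard]; norm_num)
  · exact eng_two_primes hG 2 1153 2 1 (by norm_num) (by norm_num) (hcard.trans (by norm_num))
  · exact eng_two_primes hG 7 659 1 1 (by norm_num) (by norm_num) (hcard.trans (by norm_num))
  · exact eng_two_mod_four hG (by rw [hcard])
  · exact eng_big_prime hG 71 (by norm_num) (by rw [hcard]; norm_num) (by rw [hcard]; norm_num) (by rw [hcard]; norm_num) (by rw [hcard]; norm_num)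
  · exact eng_two_primes hG 2 577 3 1 (by norm_num) (by norm_num) (hcard.trans (by norm_num))
  · exact eng_two_primes hG 3 19 5 1 (by norm_num) (by norm_num) (hcard.trans (by norm_num))
  · exact eng_two_mod_four hG (by rw [hcard])
  · exact eng_two_primes hG 31 149 1 1 (by norm_num) (by norm_num) (hcard.trans (by norm_num))
  · exact absurd hcard o4620
  · exact eng_two_primes hG 4621 2 1 0 (by norm_num) (by norm_num) (hcard.trans (by norm_num))
  · exact eng_two_mod_four hG (by rw [hcard])
  · exact eng_big_prime hG 67 (by norm_num) (by rw [hcard]; norm_num) (by rw [hcard]; norm_num) (by rw [hcard]; norm_num) (by rw [hcard]; norm_num)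
  · exact eng_two_primes hG 2 17 4 2 (by norm_num) (by norm_num) (hcard.trans (by norm_num))
  · exact eng_two_primes hG 5 37 3 1 (by norm_num) (by norm_num) (hcard.trans (by norm_num))
  · exact eng_two_mod_four hG (by rw [hcard])
  · exact eng_two_primes hG 7 661 1 1 (by norm_num) (by norm_num) (hcard.trans (by norm_num))
  · exact eng_big_prime hG 89 (by norm_num) (by rw [hcard]; norm_num) (by rw [hcard]; norm_num) (by rw [hcard]; norm_num) (by rw [hcard]; norm_num)
  · exact eng_two_primes hG 3 1543 1 1 (by norm_num) (by norm_num) (hcard.trans (by norm_num))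
  · exact eng_two_mod_four hG (by rw [hcard])
  · exact eng_two_primes hG 11 421 1 1 (by norm_num) (by norm_num) (hcard.trans (by norm_num))
  · exact eng_big_prime hG 193 (by norm_num) (by rw [hcard]; norm_num) (by rw [hcard]; norm_num) (by rw [hcard]; norm_num) (by rw [hcard]; norm_num)
  · exact eng_two_primes hG 41 113 1 1 (by norm_num) (by norm_num) (hcard.trans (by norm_num))
  · exact eng_two_mod_four hG (by rw [hcard])
  · exact eng_big_prime hG 103 (by norm_num) (by rw [hcard]; norm_num) (by rw [hcard]; norm_num) (by rw [hcard]; norm_num) (by rw [hcard]; norm_num)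
  · exact eng_big_prime hG 61 (by norm_num) (by rw [hcard]; norm_num) (by rw [hcard]; norm_num) (by rw [hcard]; norm_num) (by rw [hcard]; norm_num)
  · exact eng_two_primes hG 4637 2 1 0 (by norm_num) (by norm_num) (hcard.trans (by norm_num))
  · exact eng_two_mod_four hG (by rw [hcard])
  · exact eng_two_primes hG 4639 2 1 0 (by norm_num) (by norm_num) (hcard.trans (by norm_num))
  · exact eng_big_prime hG 29 (by norm_num) (by rw [hcard]; norm_num) (by rw [hcard]; norm_num) (by rw [hcard]; norm_num) (by rw [hcard]; norm_num)
  · exact eng_big_prime hG 17 (by norm_num) (by rw [hcard]; norm_num) (by rw [hcard]; norm_num) (by rw [hcard]; norm_num) (by rw [hcard]; norm_num)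
  · exact eng_two_mod_four hG (by rw [hcard])
  · exact eng_two_primes hG 4643 2 1 0 (by norm_num) (by norm_num) (hcard.trans (by norm_num))
  · exact eng_big_prime hG 43 (by norm_num) (by rw [hcard]; norm_num) (by rw [hcard]; norm_num) (by rw [hcard]; norm_num) (by rw [hcard]; norm_num)
  · exact eng_two_primes hG 5 929 1 1 (by norm_num) (by norm_num) (hcard.trans (by norm_num))
  · exact eng_two_mod_four hG (by rw [hcard])
  · exact eng_two_primes hG 3 1549 1 1 (by norm_num) (by norm_num) (hcard.trans (by norm_num))
  · exact eng_big_prime hG 83 (by norm_num) (by rw [hcard]; norm_num) (by rw [hcard]; norm_num) (by rw [hcard]; norm_num) (by rw [hcard]; norm_num)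
  · exact eng_two_primes hG 4649 2 1 0 (by norm_num) (by norm_num) (hcard.trans (by norm_num))
  · exact eng_two_mod_four hG (by rw [hcard])
  · exact eng_two_primes hG 4651 2 1 0 (by norm_num) (by norm_num) (hcard.trans (by norm_num))
  · exact eng_two_primes hG 2 1163 2 1 (by norm_num) (by norm_num) (hcard.trans (by norm_num))
  · exact eng_big_prime hG 47 (by norm_num) (by rw [hcard]; norm_num) (by rw [hcard]; norm_num) (by rw [hcard]; norm_num) (by rw [hcard]; norm_num)
  · exact eng_two_mod_four hG (by rw [hcard])
  · exact eng_big_prime hG 19 (by norm_num) (by rw [hcard]; norm_num) (by rw [hcard]; norm_num) (by rw [hcard]; norm_num) (by rw [hcard]; norm_num)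
  · exact eng_big_prime hG 97 (by norm_num) (by rw [hcard]; norm_num) (by rw [hcard]; norm_num) (by rw [hcard]; norm_num) (by rw [hcard]; norm_num)
  · exact eng_two_primes hG 4657 2 1 0 (by norm_num) (by norm_num) (hcard.trans (by norm_num))
  · exact eng_two_mod_four hG (by rw [hcard])
  · exact eng_two_primes hG 3 1553 1 1 (by norm_num) (by norm_num) (hcard.trans (by norm_num))
  · exact eng_big_prime hG 233 (by norm_num) (by rw [hcard]; norm_num) (by rw [hcard]; norm_num) (by rw [hcard]; norm_num) (by rw [hcard]; norm_num)
  · exact eng_two_primes hG 59 79 1 1 (by norm_num) (by norm_num) (hcard.trans (by norm_num))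
  · exact eng_two_mod_four hG (by rw [hcard])
  · exact eng_two_primes hG 4663 2 1 0 (by norm_num) (by norm_num) (hcard.trans (by norm_num))
  · exact eng_big_prime hG 53 (by norm_num) (by rw [hcard]; norm_num) (by rw [hcard]; norm_num) (by rw [hcard]; norm_num) (by rw [hcard]; norm_num)
  · exact eng_big_prime hG 311 (by norm_num) (by rw [hcard]; norm_num) (by rw [hcard]; norm_num) (by rw [hcard]; norm_num) (by rw [hcard]; norm_num)
  · exact eng_two_mod_four hG (by rw [hcard])
  · exact eng_two_primes hG 13 359 1 1 (by norm_num) (by norm_num) (hcard.trans (by norm_num))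
  · exact eng_big_prime hG 389 (by norm_num) (by rw [hcard]; norm_num) (by rw [hcard]; norm_num) (by rw [hcard]; norm_num) (by rw [hcard]; norm_num)
  · exact eng_big_prime hG 29 (by norm_num) (by rw [hcard]; norm_num) (by rw [hcard]; norm_num) (by rw [hcard]; norm_num) (by rw [hcard]; norm_num)
  · exact eng_two_mod_four hG (by rw [hcard])
  · exact eng_two_primes hG 3 173 3 1 (by norm_num) (by norm_num) (hcard.trans (by norm_num))
  · exact eng_two_primes hG 2 73 6 1 (by norm_num) (by norm_num) (hcard.trans (by norm_num))
  · exact eng_two_primes hG 4673 2 1 0 (by norm_num) (by norm_num) (hcard.trans (by norm_num))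
  · exact eng_two_mod_four hG (by rw [hcard])
  · exact eng_big_prime hG 17 (by norm_num) (by rw [hcard]; norm_num) (by rw [hcard]; norm_num) (by rw [hcard]; norm_num) (by rw [hcard]; norm_num)
  · exact eng_big_prime hG 167 (by norm_num) (by rw [hcard]; norm_num) (by rw [hcard]; norm_num) (by rw [hcard]; norm_num) (by rw [hcard]; norm_num)
  · exact eng_two_primes hG 3 1559 1 1 (by norm_num) (by norm_num) (hcard.trans (by norm_num))
  · exact eng_two_mod_four hG (by rw [hcard])
  · exact eng_two_primes hG 4679 2 1 0 (by norm_num) (by norm_num) (hcard.trans (by norm_num))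
  · exact absurd hcard o4680

end Cfsg.Agent.Helper82
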