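import Mathlib
import Cfsg.Agent.Helper62.PKDefs
import Cfsg.Agent.Helper99.PKB2

/-!
# CALL PK (helper62), piece O6 (helper82, double): `Z₁ = Z` and `Z` is commutative
-/

set_option autoImplicit false

namespace Cfsg.Agent.Helper82

open Cfsg Subgroup Cfsg.Agent.Helper62

universe u

variable {G : Type u} [Group G] [Finite G]

/-- O6 [M]. `Z₁ = Z` and `Z` is commutative, given that `K₁*` is commutative and inside `M`. -/
theorem pk_over_Zeq {M K H T K₁ : Subgroup G} (hK₁c : IsCyclic K₁)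
    (hle : pkS M K ≤ K₁) (hTK : T ≤ K) (hT : (Nat.card T).Prime)
    (hK₁Z : K₁ ≤ pkZ M K) (hTS₁ : T ≤ pkS H K₁) (hKZ₁ : K ≤ pkZ H K₁)
    (hcomm : ∀ a ∈ pkS H K₁, ∀ b ∈ pkS H K₁, a * b = b * a) (hS₁M : pkS H K₁ ≤ M)
    (hcent : ∀ k ∈ K, k ≠ 1 → M ⊓ centralizer ({k} : Set G) = pkZ M K) :
    pkZ H K₁ = pkZ M K ∧ ∀ a ∈ pkZ M K, ∀ b ∈ pkZ M K, a * b = b * a := by
  have hTne : T ≠ ⊥ := by
    rintro rfl
    rw [Subgroup.card_bot] at hT
    exact Nat.not_prime_one hT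
  obtain ⟨t, htT, ht1⟩ : ∃ t ∈ T, t ≠ 1 := by
    by_contra h
    push Not at h
    exact hTne ((Subgroup.eq_bot_iff_forall T).mpr h)
  have hS₁Z : pkS H K₁ ≤ pkZ M K := by
    intro b hb
    rw [← hcent t (hTK htT) ht1]
    have h2 : b ∈ centralizer ({t} : Set G) := by
      rw [mem_centralizer_singleton_iff]
      exact hcomm b hb t (hTS₁ htT)
    exact ⟨hS₁M hb, h2⟩
  have heq : pkZ H K₁ = pkZ M K := by
    apply le_antisymm
    · exact sup_le hK₁Z hS₁Z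
    · exact sup_le hKZ₁ (hle.trans le_sup_left)
  refine ⟨heq, ?_⟩
  rw [← heq]
  have hcen : pkS H K₁ ≤ centralizer (K₁ : Set G) := inf_le_right
  have hK₁comm : ∀ a ∈ K₁, ∀ b ∈ K₁, a * b = b * a := by
    intro a ha b hb
    let _ := IsCyclic.commGroup (α := K₁)
    have h1 := mul_comm (⟨a, ha⟩ : K₁) ⟨b, hb⟩
    exact congrArg Subtype.val h1
  have hmix : ∀ k ∈ K₁, ∀ y ∈ pkS H K₁, k * y = y * k := fun k hk y hy =>
    (Subgroup.mem_centralizer_iff.1 (hcen hy)) k hk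
  intro a ha b hb
  obtain ⟨k1, hk1, y1, hy1, rfl⟩ := (Cfsg.Agent.Helper99.pk_mem_sup hcen a).mp ha
  obtain ⟨k2, hk2, y2, hy2, rfl⟩ := (Cfsg.Agent.Helper99.pk_mem_sup hcen b).mp hb
  have e1 := hK₁comm k1 hk1 k2 hk2
  have e2 := hcomm y1 hy1 y2 hy2
  have e3 := hmix k2 hk2 y1 hy1
  have e4 := hmix k1 hk1 y2 hy2
  calc k1 * y1 * (k2 * y2) = k1 * (y1 * k2) * y2 := by group
    _ = k1 * (k2 * y1) * y2 := by rw [← e3]
    _ = (k1 * k2) * (y1 * y2) := by group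
    _ = (k2 * k1) * (y2 * y1) := by rw [e1, e2]
    _ = k2 * (k1 * y2) * y1 := by group
    _ = k2 * (y2 * k1) * y1 := by rw [e4]
    _ = k2 * y2 * (k1 * y1) := by group

end Cfsg.Agent.Helper82
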