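import Cfsg.Agent.Helper82.PrincipalTwo

/-!
# Inner products with the indicator of the `p`-regular elements (helper82)

* `classInner_pregInd_of_not_mem`: the indicator function of the `p`-regular elements is
  orthogonal to the irreducible characters outside the principal `p`-block.
* `classInner_pregInd_one`, `classInner_pregInd_pregInd`: inner products of these indicators.
* `exists_nontrivial_mem_principalBlock_inter`: if `p ≠ q` divide `|G|` and `G` has no element of
  order `p q`, then the principal `p`-block and the principal `q`-block share a nonprincipal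
  character.

Everything is in `namespace Cfsg.Agent.Helper82`.
-/

set_option autoImplicit false

namespace Cfsg.Agent.Helper82

open scoped ComplexConjugate

universe u

variable {G : Type u} [Group G] [Fintype G]

omit [Fintype G] in
theorem conj_pregInd (p : ℕ) (g : G) :
    conj (Helper75.pregInd p G g) = Helper75.pregInd p G g := by
  unfold Helper75.pregInd
  split_ifs <;> simp

/-- The indicator function of the `p`-regular elements is orthogonal to the irreducible characters
outside the principal `p`-block. -/
theorem classInner_pregInd_of_not_mem {p : ℕ} [Fact p.Prime] {M : Ideal Cfsg.AlgInt}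
    (hM : Cfsg.IsPModular p M) {ψ : Cfsg.IrrCharacter G} (hψ : ψ ∉ Cfsg.principalBlock M G) :
    Cfsg.classInner (Helper75.pregInd p G) (ψ : G → ℂ) = 0 := by
  have h := Helper75.omega_pregInd_of_not_mem hM hψ
  unfold Helper81.omega at h
  have h1 : ∑ g : G, Helper75.pregInd p G g * (ψ : G → ℂ) g = 0 := by
    rcases div_eq_zero_iff.mp h with h | h
    · exact h
    · exact absurd h (Helper81.irr_one_ne_zero ψ)
  unfold Cfsg.classInner
  have h2 : ∑ g : G, Helper75.pregInd p G g * conj ((ψ : G → ℂ) g) =
      conj (∑ g : G, Helper75.pregInd p G g * (ψ : G → ℂ) g) := by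
    rw [map_sum]
    refine Finset.sum_congr rfl fun g _ => ?_
    rw [map_mul, conj_pregInd]
  rw [h2, h1, map_zero, mul_zero]

/-- The inner product of two indicator functions of regular elements. -/
theorem classInner_pregInd_pregInd (p q : ℕ) [DecidableEq G] :
    Cfsg.classInner (Helper75.pregInd p G) (Helper75.pregInd q G) =
      (Nat.card G : ℂ)⁻¹ * ((Finset.univ.filter (fun g : G => ¬ p ∣ orderOf g) ∩
        Finset.univ.filter (fun g : G => ¬ q ∣ orderOf g)).card : ℂ) := by
  unfold Cfsg.classInner
  congr 1
  rw [← Finset.filter_and, Finset.card_filter]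
  push_cast
  refine Finset.sum_congr rfl fun g _ => ?_
  rw [conj_pregInd]
  unfold Helper75.pregInd
  by_cases h1 : p ∣ orderOf g <;> by_cases h2 : q ∣ orderOf g <;> simp [h1, h2]

/-- The inner product of the indicator function of the `p`-regular elements with the principal
character. -/
theorem classInner_pregInd_one (p : ℕ) [DecidableEq G] :
    Cfsg.classInner (Helper75.pregInd p G) (fun _ => (1 : ℂ)) =
      (Nat.card G : ℂ)⁻¹ * ((Finset.univ.filter (fun g : G => ¬ p ∣ orderOf g)).card : ℂ) := by
  unfold Cfsg.classInner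
  congr 1
  rw [Finset.card_filter]
  push_cast
  refine Finset.sum_congr rfl fun g _ => ?_
  unfold Helper75.pregInd
  by_cases h1 : p ∣ orderOf g <;> simp [h1]

/-- If `p ≠ q` divide `|G|` and `G` has no element of order `p q`, then the principal `p`-block and
the principal `q`-block have a nonprincipal character in common. -/
theorem exists_nontrivial_mem_principalBlock_inter (p q : ℕ) [Fact p.Prime] [Fact q.Prime]
    (hpq : p ≠ q) (hp : p ∣ Nat.card G) (hq : q ∣ Nat.card G)
    (hno : ∀ g : G, orderOf g ≠ p * q) (Mp Mq : Ideal Cfsg.AlgInt)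
    (hMp : Cfsg.IsPModular p Mp) (hMq : Cfsg.IsPModular q Mq) :
    ∃ χ : Cfsg.IrrCharacter G, (χ : G → ℂ) ≠ (fun _ => 1) ∧ χ ∈ Cfsg.principalBlock Mp G ∧
      χ ∈ Cfsg.principalBlock Mq G := by
  classical
  have : Fintype (Cfsg.IrrCharacter G) := Fintype.ofFinite _
  have hpp : p.Prime := Fact.out
  have hqp : q.Prime := Fact.out
  by_contra hcon
  push Not at hcon
  set Sp := Finset.univ.filter (fun g : G => ¬ p ∣ orderOf g) with hSp
  set Sq := Finset.univ.filter (fun g : G => ¬ q ∣ orderOf g) with hSq
  -- Parseval
  have hpars := Helper15.classInner_eq_sum (θ := Helper75.pregInd p G)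
    (θ' := Helper75.pregInd q G) (Helper75.pregInd_isClassFunction p)
  have hsingle : ∑ χ : Cfsg.IrrCharacter G, Cfsg.classInner (Helper75.pregInd p G) χ *
      conj (Cfsg.classInner (Helper75.pregInd q G) χ) =
      Cfsg.classInner (Helper75.pregInd p G) (Helper79.trivIrr G : G → ℂ) *
        conj (Cfsg.classInner (Helper75.pregInd q G) (Helper79.trivIrr G : G → ℂ)) := by
    apply Finset.sum_eq_single (Helper79.trivIrr G)
    · intro χ _ hχ
      by_cases h1 : χ ∈ Cfsg.principalBlock Mp G
      · by_cases h2 : χ ∈ Cfsg.principalBlock Mq G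
        · exfalso
          apply hχ
          apply Subtype.ext
          by_contra h3
          exact hcon χ h3 h1 h2
        · rw [classInner_pregInd_of_not_mem hMq h2, map_zero, mul_zero]
      · rw [classInner_pregInd_of_not_mem hMp h1, zero_mul]
    · intro h
      exact absurd (Finset.mem_univ _) h
  have htriv : (Helper79.trivIrr G : G → ℂ) = fun _ => (1 : ℂ) := rfl
  rw [hsingle, htriv, classInner_pregInd_pregInd, classInner_pregInd_one, classInner_pregInd_one,
    ← hSp, ← hSq] at hpars
  have hN : (Nat.card G : ℂ) ≠ 0 := by exact_mod_cast (Nat.card_pos (α := G)).ne'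
  -- the counting identity `C * N = A * B`
  have hCN : (Sp ∩ Sq).card * Nat.card G = Sp.card * Sq.card := by
    have h1 : ((Sp ∩ Sq).card : ℂ) * (Nat.card G : ℂ) = (Sp.card : ℂ) * (Sq.card : ℂ) := by
      have h2 : conj ((Nat.card G : ℂ)⁻¹ * (Sq.card : ℂ)) = (Nat.card G : ℂ)⁻¹ * (Sq.card : ℂ) := by
        simp
      rw [h2] at hpars
      field_simp at hpars
      linear_combination hpars
    exact_mod_cast h1
  -- every element is `p`-regular or `q`-regular
  have hunion : Sp ∪ Sq = Finset.univ := by
    ext g
    simp only [Finset.mem_union, Finset.mem_filter, Finset.mem_univ, true_and, hSp, hSq, iff_true]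
    by_contra h
    push Not at h
    have hdvd : p * q ∣ orderOf g :=
      Nat.Coprime.mul_dvd_of_dvd_of_dvd ((Nat.coprime_primes hpp hqp).mpr hpq) h.1 h.2
    exact hno _ (orderOf_pow_orderOf_div (orderOf_pos g).ne' hdvd)
  have hcard := Finset.card_union_add_card_inter Sp Sq
  rw [hunion, Finset.card_univ, ← Nat.card_eq_fintype_card] at hcard
  -- hence `N = A` or `N = B`
  have hA : Sp.card ≤ Nat.card G := by
    rw [Nat.card_eq_fintype_card, ← Finset.card_univ]
    exact Finset.card_le_card (Finset.subset_univ _)
  have hB : Sq.card ≤ Nat.card G := by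
    rw [Nat.card_eq_fintype_card, ← Finset.card_univ]
    exact Finset.card_le_card (Finset.subset_univ _)
  have hprod : (Nat.card G - Sp.card) * (Nat.card G - Sq.card) = 0 := by
    zify [hA, hB]
    have e1 : ((Sp ∩ Sq).card : ℤ) * (Nat.card G : ℤ) = (Sp.card : ℤ) * (Sq.card : ℤ) := by
      exact_mod_cast hCN
    have e2 : (Nat.card G : ℤ) + ((Sp ∩ Sq).card : ℤ) = (Sp.card : ℤ) + (Sq.card : ℤ) := by
      exact_mod_cast hcard
    have e3 : ((Sp ∩ Sq).card : ℤ) = (Sp.card : ℤ) + (Sq.card : ℤ) - (Nat.card G : ℤ) := by
      linarith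
    rw [e3] at e1
    linear_combination -e1
  have hall : ∀ (r : ℕ), r.Prime → r ∣ Nat.card G →
      (Finset.univ.filter (fun g : G => ¬ r ∣ orderOf g)).card ≠ Nat.card G := by
    intro r hr hrd h
    have : Fact r.Prime := ⟨hr⟩
    obtain ⟨x, hx⟩ := exists_prime_orderOf_dvd_card' r hrd
    have h1 : Finset.univ.filter (fun g : G => ¬ r ∣ orderOf g) = Finset.univ := by
      apply Finset.eq_univ_of_card
      rw [h, Nat.card_eq_fintype_card]
    have h2 : x ∈ Finset.univ.filter (fun g : G => ¬ r ∣ orderOf g) := by
      rw [h1]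
      exact Finset.mem_univ _
    rw [Finset.mem_filter, hx] at h2
    exact h2.2 dvd_rfl
  rcases Nat.mul_eq_zero.mp hprod with h | h
  · exact hall p hpp hp (le_antisymm hA (Nat.sub_eq_zero_iff_le.mp h))
  · exact hall q hqp hq (le_antisymm hB (Nat.sub_eq_zero_iff_le.mp h))

end Cfsg.Agent.Helper82
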