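import Mathlib

set_option autoImplicit false

/-!
# CALL SL2L (helper2), piece G3 (helper82): the subgroups `Z ≤ L ≤ P` of order `p²` are `p + 1` in
number.  Statement verbatim from `tools/calls/SL2LSkel.lean.txt`.
-/

namespace Cfsg.Agent.Helper82

open Subgroup

universe u

variable {Γ : Type u} [Group Γ] [Finite Γ]

theorem sl2l_lines_card {p : ℕ} (hp : p.Prime) {P Z : Subgroup Γ} (hPc : Nat.card P = p ^ 3)
    (hZP : Z ≤ P) (hZc : Nat.card Z = p) (hpow : ∀ a ∈ P, a ^ p ∈ Z)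
    (hZcen : ∀ z ∈ Z, ∀ a ∈ P, z * a = a * z) :
    Nat.card {L : Subgroup Γ // Z ≤ L ∧ L ≤ P ∧ Nat.card L = p ^ 2} = p + 1 := by
  classical
  haveI : Fintype Γ := Fintype.ofFinite Γ
  haveI : Fintype {L : Subgroup Γ // Z ≤ L ∧ L ≤ P ∧ Nat.card L = p ^ 2} := Fintype.ofFinite _
  -- card of differences
  have hdiff : ∀ L : Subgroup Γ, Z ≤ L →
      (Finset.univ.filter (fun a : Γ => a ∈ L ∧ a ∉ Z)).card + Nat.card Z = Nat.card L := by
    intro L hZL
    have h1 : Nat.card L = (Finset.univ.filter (fun a : Γ => a ∈ L)).card := by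
      rw [Nat.card_eq_fintype_card, Fintype.card_subtype]
    have h2 : Nat.card Z = (Finset.univ.filter (fun a : Γ => a ∈ Z)).card := by
      rw [Nat.card_eq_fintype_card, Fintype.card_subtype]
    have h3 : Finset.univ.filter (fun a : Γ => a ∈ L ∧ a ∉ Z) =
        Finset.univ.filter (fun a : Γ => a ∈ L) \ Finset.univ.filter (fun a : Γ => a ∈ Z) := by
      ext a; simp
    rw [h1, h2, h3]
    exact Finset.card_sdiff_add_card_eq_card (fun a ha => by
      simp only [Finset.mem_filter, Finset.mem_univ, true_and] at ha ⊢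
      exact hZL ha)
  -- strict containment gives a bigger cardinality
  have hlt : ∀ L : Subgroup Γ, Z ≤ L → ∀ a ∈ L, a ∉ Z → p < Nat.card L := by
    intro L hZL a haL haZ
    by_contra hcon
    push Not at hcon
    have : Z = L := Subgroup.eq_of_le_of_card_ge hZL (by rw [hZc]; exact hcon)
    exact haZ (this ▸ haL)
  have hpj : ∀ j : ℕ, p < p ^ j → 1 < j := by
    intro j hj
    by_contra hcon
    push Not at hcon
    have : p ^ j ≤ p ^ 1 := Nat.pow_le_pow_right hp.pos hcon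
    rw [pow_one] at this
    omega
  -- the line through a
  have hline : ∀ a ∈ P, a ∉ Z →
      ∃ L : Subgroup Γ, Z ≤ L ∧ L ≤ P ∧ Nat.card L = p ^ 2 ∧ a ∈ L := by
    intro a haP haZ
    have hcomm : ∀ z ∈ Z, ∀ i : ℤ, z * a ^ i = a ^ i * z := fun z hz i =>
      hZcen z hz _ (P.zpow_mem haP i)
    let L : Subgroup Γ :=
      { carrier := {g | ∃ i : ℤ, ∃ z ∈ Z, g = a ^ i * z}
        one_mem' := ⟨0, 1, Z.one_mem, by simp⟩
        mul_mem' := by
          rintro _ _ ⟨i, z, hz, rfl⟩ ⟨j, z', hz', rfl⟩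
          refine ⟨i + j, z * z', Z.mul_mem hz hz', ?_⟩
          rw [zpow_add]
          calc a ^ i * z * (a ^ j * z') = a ^ i * (z * a ^ j) * z' := by group
            _ = a ^ i * (a ^ j * z) * z' := by rw [hcomm z hz j]
            _ = a ^ i * a ^ j * (z * z') := by group
        inv_mem' := by
          rintro _ ⟨i, z, hz, rfl⟩
          refine ⟨-i, z⁻¹, Z.inv_mem hz, ?_⟩
          rw [mul_inv_rev, ← zpow_neg]
          exact hcomm z⁻¹ (Z.inv_mem hz) (-i) }
    have hmemL : ∀ g, g ∈ L ↔ ∃ i : ℤ, ∃ z ∈ Z, g = a ^ i * z := fun g => Iff.rfl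
    have hZL : Z ≤ L := fun z hz => (hmemL z).mpr ⟨0, z, hz, by simp⟩
    have haL : a ∈ L := (hmemL a).mpr ⟨1, 1, Z.one_mem, by simp⟩
    have hLP : L ≤ P := by
      intro g hg
      obtain ⟨i, z, hz, rfl⟩ := (hmemL g).mp hg
      exact P.mul_mem (P.zpow_mem haP i) (hZP hz)
    -- upper bound
    have hle : Nat.card L ≤ p ^ 2 := by
      have hsurj : Function.Surjective (fun x : Fin p × Z => (⟨a ^ (x.1 : ℕ) * (x.2 : Γ),
          (hmemL _).mpr ⟨((x.1 : ℕ) : ℤ), x.2, x.2.2, by rw [zpow_natCast]⟩⟩ : L)) := by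
        rintro ⟨g, hg⟩
        obtain ⟨i, z, hz, rfl⟩ := (hmemL g).mp hg
        have hp0 : (p : ℤ) ≠ 0 := by exact_mod_cast hp.ne_zero
        have hpos : 0 ≤ i % (p : ℤ) := Int.emod_nonneg i hp0
        have hlt' : i % (p : ℤ) < p := Int.emod_lt_of_pos i (by exact_mod_cast hp.pos)
        refine ⟨(⟨(i % (p : ℤ)).toNat, (Int.toNat_lt hpos).mpr hlt'⟩,
          ⟨(a ^ p) ^ (i / (p : ℤ)) * z, Z.mul_mem (Z.zpow_mem (hpow a haP) _) hz⟩), ?_⟩
        apply Subtype.ext
        show a ^ ((i % (p : ℤ)).toNat) * ((a ^ p) ^ (i / (p : ℤ)) * z) = a ^ i * z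
        have e1 : a ^ ((i % (p : ℤ)).toNat) = a ^ (i % (p : ℤ)) := by
          rw [← zpow_natCast, Int.toNat_of_nonneg hpos]
        have e2 : (a ^ p) ^ (i / (p : ℤ)) = a ^ ((p : ℤ) * (i / (p : ℤ))) := by
          rw [zpow_mul, zpow_natCast]
        rw [e1, e2, ← mul_assoc, ← zpow_add, Int.emod_add_mul_ediv]
      have h := Nat.card_le_card_of_surjective _ hsurj
      rw [Nat.card_prod, Nat.card_fin, hZc] at h
      rw [pow_two]; exact h
    have hgt := hlt L hZL a haL haZ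
    have hdvd : Nat.card L ∣ p ^ 3 := hPc ▸ Subgroup.card_dvd_of_le hLP
    obtain ⟨j, hj, hLj⟩ := (Nat.dvd_prime_pow hp).mp hdvd
    have hj2 : j = 2 := by
      rw [hLj] at hgt hle
      have h1 : 1 < j := hpj j hgt
      have h2 : j ≤ 2 := (Nat.pow_le_pow_iff_right hp.one_lt).mp hle
      omega
    exact ⟨L, hZL, hLP, by rw [hLj, hj2], haL⟩
  -- uniqueness of the line through a
  have huniq : ∀ L L' : Subgroup Γ, Z ≤ L → Nat.card L = p ^ 2 → Z ≤ L' → Nat.card L' = p ^ 2 →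
      ∀ a, a ∈ L → a ∈ L' → a ∉ Z → L = L' := by
    intro L L' hZL hLc hZL' hL'c a haL haL' haZ
    have hgt := hlt (L ⊓ L') (le_inf hZL hZL') a ⟨haL, haL'⟩ haZ
    have hdvd : Nat.card ↥(L ⊓ L') ∣ p ^ 2 := hLc ▸ Subgroup.card_dvd_of_le inf_le_left
    obtain ⟨j, hj, hLj⟩ := (Nat.dvd_prime_pow hp).mp hdvd
    have hj2 : j = 2 := by
      rw [hLj] at hgt
      have h1 : 1 < j := hpj j hgt
      omega
    rw [hj2] at hLj
    have e1 : L ⊓ L' = L := Subgroup.eq_of_le_of_card_ge inf_le_left (by rw [hLj, hLc])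
    have e2 : L ⊓ L' = L' := Subgroup.eq_of_le_of_card_ge inf_le_right (by rw [hLj, hL'c])
    exact e1.symm.trans e2
  -- the partition
  have hunion : Finset.univ.filter (fun a : Γ => a ∈ P ∧ a ∉ Z) =
      (Finset.univ : Finset {L : Subgroup Γ // Z ≤ L ∧ L ≤ P ∧ Nat.card L = p ^ 2}).biUnion
        (fun L => Finset.univ.filter (fun a : Γ => a ∈ L.1 ∧ a ∉ Z)) := by
    ext a
    simp only [Finset.mem_filter, Finset.mem_univ, true_and, Finset.mem_biUnion]
    constructor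
    · rintro ⟨haP, haZ⟩
      obtain ⟨L, h1, h2, h3, h4⟩ := hline a haP haZ
      exact ⟨⟨L, h1, h2, h3⟩, h4, haZ⟩
    · rintro ⟨L, haL, haZ⟩
      exact ⟨L.2.2.1 haL, haZ⟩
  have hcard := congrArg Finset.card hunion
  rw [Finset.card_biUnion] at hcard
  · have hsum : ∑ L : {L : Subgroup Γ // Z ≤ L ∧ L ≤ P ∧ Nat.card L = p ^ 2},
        (Finset.univ.filter (fun a : Γ => a ∈ L.1 ∧ a ∉ Z)).card =
        Fintype.card {L : Subgroup Γ // Z ≤ L ∧ L ≤ P ∧ Nat.card L = p ^ 2} * (p ^ 2 - p) := by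
      rw [Finset.sum_const_nat (m := p ^ 2 - p)]
      · rfl
      · intro L _
        have h := hdiff L.1 L.2.1
        rw [hZc, L.2.2.2] at h
        omega
    rw [hsum] at hcard
    have hT := hdiff P hZP
    rw [hZc, hPc, hcard] at hT
    rw [Nat.card_eq_fintype_card]
    generalize Fintype.card {L : Subgroup Γ // Z ≤ L ∧ L ≤ P ∧ Nat.card L = p ^ 2} = n at hT ⊢
    obtain ⟨q, rfl⟩ : ∃ q, p = q + 2 := ⟨p - 2, by have := hp.two_le; omega⟩
    have e1 : (q + 2) ^ 2 - (q + 2) = (q + 2) * (q + 1) :=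
      Nat.sub_eq_of_eq_add (by ring)
    rw [e1] at hT
    have e2 : (q + 2) ^ 3 = (q + 2 + 1) * ((q + 2) * (q + 1)) + (q + 2) := by ring
    rw [e2] at hT
    have h3 := Nat.add_right_cancel hT
    exact Nat.eq_of_mul_eq_mul_right (by positivity) h3
  · intro L _ L' _ hne
    rw [Function.onFun, Finset.disjoint_left]
    intro a ha ha'
    simp only [Finset.mem_filter, Finset.mem_univ, true_and] at ha ha'
    exact hne (Subtype.ext
      (huniq L.1 L'.1 L.2.1 L.2.2.2 L'.2.1 L'.2.2.2 a ha.1 ha'.1 ha.2))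

end Cfsg.Agent.Helper82
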